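import Groth.Agent.H21.Hyp.Defs
import Groth.Agent.H18.TensorAssoc
import Groth.Agent.H18.TwistTensor
import Groth.Agent.H18.TensorPowIso
import Groth.Agent.H8.TensorPow
import Groth.Agent.H82.ProjLinear
import Groth.Agent.H74.H0Top
import Groth.Prelude.Def_SecTwist

/-!
# Piece (Phi) of the hyperplane-section argument (S5638, S5639; owner helper21)

Multiplication by a linear form `ℓ`, as a `k`-linear map `H^0(F(-1)) → H^0(F)`, linear in `ℓ`.
-/

set_option autoImplicit false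
set_option linter.style.haveILetI false
universe u

open CategoryTheory CategoryTheory.Limits AlgebraicGeometry TopologicalSpace Opposite
open Groth.Agent.H18.SecTw Groth.Agent.H18.TensorGen Groth.Agent.H18.TensorSec

noncomputable section

namespace Groth.Agent.H88.HypPhi

section General

variable {X : Scheme.{u}}

/-- `e0` is semilinear for the action of global functions. -/
theorem e0_smul (M : X.Modules) (r : Coh.Γtop X) (t : Coh.HH X M 0) :
    Groth.Agent.H21.Hyp.e0 M (r • t) = (show Γ(X, ⊤) from r) • Groth.Agent.H21.Hyp.e0 M t := by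
  have h := (Sheaf.H.equiv₀_naturality (T := (⊤ : Opens X)) isTerminalTop
    (Coh.smulAb M r) t).symm
  refine h.trans ?_
  rw [Coh.smulAb_app, Groth.Agent.H74.H0Top.resTop_top]
  rfl

theorem e0_symm_smul (M : X.Modules) (r : Coh.Γtop X) (x : Γ(M, ⊤)) :
    (Groth.Agent.H21.Hyp.e0 M).symm ((show Γ(X, ⊤) from r) • x) =
      r • (Groth.Agent.H21.Hyp.e0 M).symm x := by
  apply (Groth.Agent.H21.Hyp.e0 M).injective
  rw [AddEquiv.apply_symm_apply, e0_smul, AddEquiv.apply_symm_apply]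

theorem tm_add_right (M N : X.Modules) {U : X.Opens} (m : Γ(M, U)) (n n' : Γ(N, U)) :
    tm M N m (n + n') = tm M N m n + tm M N m n' := by
  have h1 := TensorProduct.tmul_add
    (R := ((X.sheaf.obj ⋙ forget₂ CommRingCat RingCat).obj (op U)))
    (show (CohB1.toPMod M).obj (op U) from m)
    (show (CohB1.toPMod N).obj (op U) from n) (show (CohB1.toPMod N).obj (op U) from n')
  exact (congrArg ((SecTwist.toTensor M N).app (op U)).hom h1).trans
    (((SecTwist.toTensor M N).app (op U)).hom.map_add _ _)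

/-- multiplication by a section `s` of `O1`, on `H^0`, through an isomorphism `G ⊗ O1 ≅ F` -/
def mulBy {F G O1 : X.Modules} (ψ : CohB1.tensorMod G O1 ≅ F) (s : Γ(O1, ⊤))
    (t : Coh.HH X G 0) : Coh.HH X F 0 :=
  (Groth.Agent.H21.Hyp.e0 F).symm (ψ.hom.app ⊤ (tm G O1 (Groth.Agent.H21.Hyp.e0 G t) s))

theorem mulBy_add {F G O1 : X.Modules} (ψ : CohB1.tensorMod G O1 ≅ F) (s : Γ(O1, ⊤))
    (t t' : Coh.HH X G 0) : mulBy ψ s (t + t') = mulBy ψ s t + mulBy ψ s t' := by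
  unfold mulBy
  rw [map_add, tm_add_left, (ψ.hom.app ⊤).hom.map_add, map_add]

theorem mulBy_smul {F G O1 : X.Modules} (ψ : CohB1.tensorMod G O1 ≅ F) (s : Γ(O1, ⊤))
    (r : Coh.Γtop X) (t : Coh.HH X G 0) : mulBy ψ s (r • t) = r • mulBy ψ s t := by
  unfold mulBy
  rw [e0_smul, tm_smul_left, Scheme.Modules.Hom.app_smul, e0_symm_smul]

theorem mulBy_lin {F G O1 : X.Modules} (ψ : CohB1.tensorMod G O1 ≅ F) (s s' : Γ(O1, ⊤))
    (r r' : Coh.Γtop X) (t : Coh.HH X G 0) :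
    mulBy ψ ((show Γ(X, ⊤) from r) • s + (show Γ(X, ⊤) from r') • s') t =
      r • mulBy ψ s t + r' • mulBy ψ s' t := by
  unfold mulBy
  rw [tm_add_right, tm_smul_right, tm_smul_right, (ψ.hom.app ⊤).hom.map_add,
    Scheme.Modules.Hom.app_smul, Scheme.Modules.Hom.app_smul, map_add, e0_symm_smul,
    e0_symm_smul]

theorem tm_eq_zero_of_mulBy {F G O1 : X.Modules} (ψ : CohB1.tensorMod G O1 ≅ F) (s : Γ(O1, ⊤))
    (t : Coh.HH X G 0) (h : mulBy ψ s t = 0) :
    tm G O1 (Groth.Agent.H21.Hyp.e0 G t) s = 0 := by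
  have h2 : ψ.hom.app ⊤ (tm G O1 (Groth.Agent.H21.Hyp.e0 G t) s) = 0 :=
    (AddEquiv.map_eq_zero_iff (Groth.Agent.H21.Hyp.e0 F).symm).mp h
  have h3 : ψ.inv.app ⊤ (ψ.hom.app ⊤ (tm G O1 (Groth.Agent.H21.Hyp.e0 G t) s)) =
      tm G O1 (Groth.Agent.H21.Hyp.e0 G t) s := by
    have h4 : ψ.inv.app ⊤ (ψ.hom.app ⊤ (tm G O1 (Groth.Agent.H21.Hyp.e0 G t) s)) =
        (ψ.hom ≫ ψ.inv).app ⊤ (tm G O1 (Groth.Agent.H21.Hyp.e0 G t) s) := rfl
    rw [h4, Iso.hom_inv_id]
    rfl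
  rw [h2, map_zero] at h3
  exact h3.symm

end General

section Proj

open Groth.Agent.H18.Serre (val frac val_frac mem_basicOpen_frac toO ofTw toTw)
open Groth.Agent.H18.TwistAmple

variable {R A : Type u} [CommRing R] [CommRing A] [Algebra R A] (𝒜 : ℕ → Submodule R A)
  [GradedAlgebra 𝒜]

theorem sv_secHom_top {N : ℕ} (b : 𝒜 N) :
    sv (secHom 𝒜 b) ⊤ = toTw (U := ⊤) (Twist.globalOf 𝒜 b) := by
  have h := Groth.Agent.H18.TensorPowIso.sv_secHom (Twist.twist 𝒜 (N : ℤ))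
    (toTw (U := ⊤) (Twist.globalOf 𝒜 b)) ⊤
  exact h.trans (res_self' _ _)

theorem wval_sv_secHom {N : ℕ} (b : 𝒜 N) (x : (⊤ : (Proj 𝒜).Opens)) :
    wval (sv (secHom 𝒜 b) ⊤) x = Localization.mk b.1 1 := by
  rw [sv_secHom_top]
  rfl

theorem wval_add {k : ℤ} {U : (Proj 𝒜).Opens} (a a' : Γ(Twist.twist 𝒜 k, U)) (x : U) :
    wval (a + a') x = wval a x + wval a' x := rfl

end Proj

section PN

open Groth.Agent.H18.Serre (val frac val_frac mem_basicOpen_frac toO ofTw toTw)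
open Groth.Agent.H18.TwistAmple

variable (k : Type u) [Field k] (N : ℕ)

/-- the global function attached to a constant -/
abbrev gf (a : k) : Γ(Proj (CohB1.polyGrading N k), ⊤) :=
  Coh.toGlobal (CohB1.ProjSpace.toSpec N k) a

theorem val_gf (a : k) (x : (⊤ : (Proj (CohB1.polyGrading N k)).Opens)) :
    (val (CohB1.polyGrading N k) (gf k N a) x).val =
      algebraMap (MvPolynomial (Fin (N + 1)) k)
        (Localization.AtPrime x.1.asHomogeneousIdeal.toIdeal) (MvPolynomial.C a) :=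
  Groth.Agent.H82.ProjLinear.rval_gfun N k a x

/-- (Phi-b): the section of `O(1)` attached to a linear form is `k`-linear in the form. -/
theorem sv_secHom_lin (ℓ ℓ' : ↥(CohB1.polyGrading N k 1)) (a b : k) :
    sv (secHom (CohB1.polyGrading N k) (a • ℓ + b • ℓ')) ⊤ =
      gf k N a • sv (secHom (CohB1.polyGrading N k) ℓ) ⊤ +
        gf k N b • sv (secHom (CohB1.polyGrading N k) ℓ') ⊤ := by
  refine wval_ext (fun x => ?_)
  rw [wval_add, wval_smul, wval_smul, wval_sv_secHom, wval_sv_secHom, wval_sv_secHom,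
    val_gf, val_gf]
  have h1 : ((a • ℓ + b • ℓ' : ↥(CohB1.polyGrading N k 1)) : MvPolynomial (Fin (N + 1)) k) =
      MvPolynomial.C a * ℓ.1 + MvPolynomial.C b * ℓ'.1 := by
    rw [Submodule.coe_add, Submodule.coe_smul, Submodule.coe_smul, MvPolynomial.smul_eq_C_mul,
      MvPolynomial.smul_eq_C_mul]
  rw [h1]
  show (Localization.mk (MvPolynomial.C a * ℓ.1 + MvPolynomial.C b * ℓ'.1) 1 :
      Localization.AtPrime x.1.asHomogeneousIdeal.toIdeal) = _
  rw [Localization.mk_one_eq_algebraMap, map_add, map_mul, map_mul,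
    ← Localization.mk_one_eq_algebraMap ℓ.1, ← Localization.mk_one_eq_algebraMap ℓ'.1]

/-- (Phi-c): `(F ⊗ O(-1)) ⊗ O(1) ≅ F`. -/
theorem nonempty_psi (F : (Proj (CohB1.polyGrading N k)).Modules) :
    Nonempty (CohB1.tensorMod (CohB1.tensorMod F (Twist.twist (CohB1.polyGrading N k) (-1)))
      (Twist.twist (CohB1.polyGrading N k) ((1 : ℕ) : ℤ)) ≅ F) := by
  obtain ⟨hinv, hadd, -⟩ := Groth.Agent.H18.TwistTensor.twist_package (CohB1.polyGrading N k)
    (Groth.Agent.H8.TensorPow.hcov1_polyGrading N k)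
  obtain ⟨e1⟩ := Groth.Agent.H18.TensorAssoc.nonempty_tensorMod_assoc F
    (Twist.twist (CohB1.polyGrading N k) (-1))
    (Twist.twist (CohB1.polyGrading N k) ((1 : ℕ) : ℤ)) (hinv _) (hinv _)
  obtain ⟨e2⟩ := hadd (-1) ((1 : ℕ) : ℤ)
  have h0 : (-1 : ℤ) + ((1 : ℕ) : ℤ) = 0 := by norm_num
  rw [h0] at e2
  obtain ⟨e3⟩ := Groth.Agent.H18.TwistTensor.nonempty_twist_zero_iso (CohB1.polyGrading N k)
  obtain ⟨e4⟩ := Groth.Agent.H18.TensorModIso.nonempty_tensorMod_congr (Iso.refl F) (e2 ≪≫ e3)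
  exact ⟨e1 ≪≫ e4 ≪≫ SecTwist.unitorR F⟩

/-- Piece (Phi). -/
theorem exists_Phi (F : (CohB1.ProjSpace N k).Modules) :
    ∃ Φ : ↥(CohB1.polyGrading N k 1) →
        (Coh.HH (CohB1.ProjSpace N k) (CohB1.tensorMod F (Twist.twistProjSpace N k (-1))) 0 →ₗ[k]
          Coh.HH (CohB1.ProjSpace N k) F 0),
      (∀ (ℓ ℓ' : ↥(CohB1.polyGrading N k 1)) (a b : k)
        (t : Coh.HH (CohB1.ProjSpace N k) (CohB1.tensorMod F (Twist.twistProjSpace N k (-1))) 0),
        Φ (a • ℓ + b • ℓ') t = a • Φ ℓ t + b • Φ ℓ' t) ∧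
      (∀ (ℓ : ↥(CohB1.polyGrading N k 1))
        (t : Coh.HH (CohB1.ProjSpace N k) (CohB1.tensorMod F (Twist.twistProjSpace N k (-1))) 0),
        Φ ℓ t = 0 →
        tm (CohB1.tensorMod F (Twist.twistProjSpace N k (-1)))
          (Twist.twist (CohB1.polyGrading N k) ((1 : ℕ) : ℤ))
          (Groth.Agent.H21.Hyp.e0 (CohB1.tensorMod F (Twist.twistProjSpace N k (-1))) t)
          (sv (Groth.Agent.H18.TwistAmple.secHom (CohB1.polyGrading N k) ℓ) ⊤) = 0) := by
  obtain ⟨ψ⟩ := nonempty_psi k N F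
  refine ⟨fun ℓ =>
    { toFun := mulBy ψ (sv (secHom (CohB1.polyGrading N k) ℓ) ⊤)
      map_add' := mulBy_add ψ _
      map_smul' := fun c t => mulBy_smul ψ _ _ t }, ?_, ?_⟩
  · intro ℓ ℓ' a b t
    refine Eq.trans (congrArg (fun s => mulBy ψ s t) (sv_secHom_lin k N ℓ ℓ' a b)) ?_
    exact mulBy_lin ψ _ _ (Coh.toGlobal (CohB1.ProjSpace.toSpec N k) a)
      (Coh.toGlobal (CohB1.ProjSpace.toSpec N k) b) t
  · intro ℓ t h
    exact tm_eq_zero_of_mulBy ψ _ t h

end PN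

end Groth.Agent.H88.HypPhi
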