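import Groth.Agent.H18.ProjUPUniqFinal

/-!
# The affine charts of projective space are polynomial rings

For `𝒜 = CohB1.polyGrading n R` and a coordinate `X i`, the ring `A_(X i)` is the polynomial ring
over `R` in the fractions `X j / X i`, `j ≠ i`.
Also a lemma on the units of the localisation of a domain at a prime element.
-/

set_option autoImplicit false
universe u

noncomputable section

namespace Groth.Agent.H88.ProjChart

open HomogeneousLocalization
open Groth.Agent.H18.ProjUPSym Groth.Agent.H18.ProjUPUniq Groth.Agent.H18.Dehom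

section Units

/-- In the localisation of a domain at a prime element `x`, a unit times a power of `x` is a unit
of the domain times a power of `x`. -/
theorem unit_away_prime {D S : Type*} [CommRing D] [IsDomain D] [CommRing S] [Algebra D S] {x : D}
    (hx : Prime x) [IsLocalization.Away x S] (s : S) (hs : IsUnit s) :
    ∃ (c : D) (_ : IsUnit c) (k l : ℕ),
      s * algebraMap D S x ^ k = algebraMap D S c * algebraMap D S x ^ l := by
  obtain ⟨t, hst⟩ := hs.exists_right_inv
  obtain ⟨⟨a, ⟨_, k, rfl⟩⟩, ha⟩ := IsLocalization.surj (Submonoid.powers x) s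
  obtain ⟨⟨b, ⟨_, l, rfl⟩⟩, hb⟩ := IsLocalization.surj (Submonoid.powers x) t
  simp only [] at ha hb
  have hinj : Function.Injective (algebraMap D S) :=
    IsLocalization.injective S (Submonoid.powers_le.mpr (mem_nonZeroDivisors_of_ne_zero hx.ne_zero))
  have hab : a * b = 1 * x ^ (k + l) := by
    apply hinj
    rw [map_mul, ← ha, ← hb]
    simp only [one_mul, map_pow, pow_add, map_mul]
    calc s * algebraMap D S x ^ k * (t * algebraMap D S x ^ l)
        = (s * t) * (algebraMap D S x ^ k * algebraMap D S x ^ l) := by ring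
      _ = algebraMap D S x ^ k * algebraMap D S x ^ l := by rw [hst, one_mul]
  obtain ⟨i, j, b', c', -, h1, ha', -⟩ := mul_eq_mul_prime_pow hx hab
  refine ⟨b', IsUnit.of_mul_eq_one c' h1.symm, k, i, ?_⟩
  rw [← map_pow, ← map_pow, ha, ha', map_mul]

end Units

variable (n : ℕ) (R : Type u) [CommRing R]

/-- the coordinate `X j` has degree one -/
theorem hT (j : Fin (n + 1)) :
    (MvPolynomial.X j : MvPolynomial (Fin (n + 1)) R) ∈ CohB1.polyGrading n R 1 :=
  MvPolynomial.isHomogeneous_X R j

variable (i : Fin (n + 1))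

/-- the chart ring -/
abbrev B : Type u :=
  Away (CohB1.polyGrading n R) (MvPolynomial.X i : MvPolynomial (Fin (n + 1)) R)

/-- the polynomial ring in the other variables -/
abbrev Q : Type u := MvPolynomial {j : Fin (n + 1) // j ≠ i} R

/-- `y_j ↦ X j / X i`. -/
def α : Q n R i →+* B n R i :=
  MvPolynomial.eval₂Hom (constMapG (CohB1.polyGrading n R) (MvPolynomial.X i))
    (fun j => uFracG (CohB1.polyGrading n R) (hT n R i) (hT n R j.1))

/-- `X i ↦ 1`, `X j ↦ y_j`. -/
def π : MvPolynomial (Fin (n + 1)) R →+* Q n R i :=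
  MvPolynomial.eval₂Hom MvPolynomial.C
    (fun j => if h : j = i then 1 else MvPolynomial.X ⟨j, h⟩)

theorem π_X_self : π n R i (MvPolynomial.X i) = 1 := by
  unfold π
  rw [MvPolynomial.coe_eval₂Hom, MvPolynomial.eval₂_X, dif_pos rfl]

theorem π_X_ne (j : Fin (n + 1)) (h : j ≠ i) : π n R i (MvPolynomial.X j) = MvPolynomial.X ⟨j, h⟩ := by
  unfold π
  rw [MvPolynomial.coe_eval₂Hom, MvPolynomial.eval₂_X, dif_neg h]

theorem π_C (r : R) : π n R i (MvPolynomial.C r) = MvPolynomial.C r := by
  unfold π
  rw [MvPolynomial.coe_eval₂Hom, MvPolynomial.eval₂_C]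

/-- extension of `π` to the localisation -/
def βloc : Localization.Away (MvPolynomial.X i : MvPolynomial (Fin (n + 1)) R) →+* Q n R i :=
  IsLocalization.Away.lift (MvPolynomial.X i) (g := π n R i)
    (by rw [π_X_self]; exact isUnit_one)

theorem βloc_mk (a : MvPolynomial (Fin (n + 1)) R) (k : ℕ) :
    βloc n R i (Localization.mk a ⟨MvPolynomial.X i ^ k, k, rfl⟩) = π n R i a := by
  unfold βloc
  rw [Localization.mk_eq_mk', IsLocalization.Away.lift, IsLocalization.lift_mk']
  rw [Units.mul_inv_eq_iff_eq_mul]
  simp only [IsUnit.coe_liftRight, RingHom.toMonoidHom_eq_coe, MonoidHom.restrict_apply,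
    MonoidHom.coe_coe, map_pow, π_X_self, one_pow, mul_one]

/-- the inverse map -/
def β : B n R i →+* Q n R i :=
  (βloc n R i).comp (algebraMap (B n R i) (Localization.Away (MvPolynomial.X i)))

theorem β_mk (k : ℕ) (a : MvPolynomial (Fin (n + 1)) R)
    (ha : a ∈ CohB1.polyGrading n R (k • 1)) :
    β n R i (Away.mk (CohB1.polyGrading n R) (hT n R i) k a ha) = π n R i a := by
  unfold β
  rw [RingHom.comp_apply, HomogeneousLocalization.algebraMap_apply, Away.val_mk]
  exact βloc_mk n R i a k

theorem β_comp_α : (β n R i).comp (α n R i) = RingHom.id _ := by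
  refine MvPolynomial.ringHom_ext (fun r => ?_) (fun j => ?_)
  · rw [RingHom.comp_apply, RingHom.id_apply]
    unfold α
    rw [MvPolynomial.coe_eval₂Hom, MvPolynomial.eval₂_C]
    have h0 : algebraMap R (MvPolynomial (Fin (n + 1)) R) r ∈ CohB1.polyGrading n R (0 • 1) := by
      rw [zero_smul]
      exact SetLike.algebraMap_mem_graded (CohB1.polyGrading n R) r
    have h2 : constMapG (CohB1.polyGrading n R) (MvPolynomial.X i) r =
        Away.mk (CohB1.polyGrading n R) (hT n R i) 0 (algebraMap R _ r) h0 := by
      apply HomogeneousLocalization.val_injective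
      rw [Away.val_mk]
      show Localization.mk (algebraMap R _ r) 1 = _
      congr 1
    rw [h2, β_mk, MvPolynomial.algebraMap_eq, π_C]
  · rw [RingHom.comp_apply, RingHom.id_apply]
    unfold α
    rw [MvPolynomial.coe_eval₂Hom, MvPolynomial.eval₂_X]
    unfold uFracG
    rw [β_mk, π_X_ne n R i j.1 j.2]

theorem α_injective : Function.Injective (α n R i) := by
  intro a b hab
  have := congrArg (β n R i) hab
  rwa [← RingHom.comp_apply, ← RingHom.comp_apply, β_comp_α] at this

theorem dehom_eq : dehom (CohB1.polyGrading n R) (hT n R i) = (α n R i).comp (π n R i) := by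
  refine MvPolynomial.ringHom_ext (fun r => ?_) (fun j => ?_)
  · have h0 : algebraMap R (MvPolynomial (Fin (n + 1)) R) r ∈ CohB1.polyGrading n R 0 :=
      SetLike.algebraMap_mem_graded (CohB1.polyGrading n R) r
    rw [RingHom.comp_apply, π_C]
    unfold α
    rw [MvPolynomial.coe_eval₂Hom, MvPolynomial.eval₂_C, ← MvPolynomial.algebraMap_eq,
      dehom_of_mem _ (hT n R i) h0]
    apply HomogeneousLocalization.val_injective
    rw [Away.val_mk]
    show _ = Localization.mk (algebraMap R _ r) 1
    congr 1
  · rw [RingHom.comp_apply, dehom_of_mem _ (hT n R i) (hT n R j)]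
    by_cases h : j = i
    · subst h
      rw [π_X_self, map_one]
      apply HomogeneousLocalization.val_injective
      rw [Away.val_mk, HomogeneousLocalization.val_one]
      refine (Localization.mk_eq_mk_iff.mpr ?_).trans Localization.mk_one
      rw [Localization.r_iff_exists]
      exact ⟨1, by simp⟩
    · rw [π_X_ne n R i j h]
      unfold α
      rw [MvPolynomial.coe_eval₂Hom, MvPolynomial.eval₂_X]
      rfl

theorem α_surjective : Function.Surjective (α n R i) := by
  intro x
  obtain ⟨k, a, ha, rfl⟩ := Away.mk_surjective (CohB1.polyGrading n R) (hT n R i) x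
  have ha' : a ∈ CohB1.polyGrading n R k := by
    rw [smul_eq_mul, mul_one] at ha
    exact ha
  refine ⟨π n R i a, ?_⟩
  rw [← RingHom.comp_apply, ← dehom_eq, dehom_of_mem _ (hT n R i) ha']

/-- The chart ring is a polynomial ring. -/
def chartEquiv : Q n R i ≃+* B n R i :=
  RingEquiv.ofBijective (α n R i) ⟨α_injective n R i, α_surjective n R i⟩

theorem chartEquiv_X (j : {j : Fin (n + 1) // j ≠ i}) :
    chartEquiv n R i (MvPolynomial.X j) =
      uFracG (CohB1.polyGrading n R) (hT n R i) (hT n R j.1) := by
  show α n R i _ = _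
  unfold α
  rw [MvPolynomial.coe_eval₂Hom, MvPolynomial.eval₂_X]

theorem chartEquiv_C (r : R) :
    chartEquiv n R i (MvPolynomial.C r) =
      constMapG (CohB1.polyGrading n R) (MvPolynomial.X i) r := by
  show α n R i _ = _
  unfold α
  rw [MvPolynomial.coe_eval₂Hom, MvPolynomial.eval₂_C]

end Groth.Agent.H88.ProjChart
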