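import Groth.Agent.H88.PicPn
import Groth.Agent.H13.ProjNormal

/-!
# Global sections of `O(d)` on projective space over a field

* `gO 𝒜 F`: the global section of `O(d)` given by `F ∈ 𝒜 d`; `gO_res`: its coefficient with respect
  to the generator `αN` on `D₊(f)` is `F / f^d`.
* `exists_gO`: over a field every global section of `O(d)` (`d ≥ 0`) on `P^n` is of this form
  (helper13's `ProjNormal.bijective`).
* `mem_genLocus_gO`: the generating locus of `gO F` is `D₊(F)`.
* `not_mem_genLocus_neg`: a global section of `O(-e)`, `e > 0`, on `P^n` (`n ≥ 1`) generates nowhere.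
-/

set_option autoImplicit false
universe u

noncomputable section

namespace Groth.Agent.H88.PnGlobal

open CategoryTheory AlgebraicGeometry Opposite TopologicalSpace
open Groth.Agent.H8 (res_res res_smul app_res)
open Groth.Agent.H18.Serre
open Groth.Agent.H18.TwistAmple (wval wval_ext wval_smul)
open Groth.Agent.H18.TensorGen (IsGen mem_genLocus_iff_of_isGen)
open Groth.Agent.H18.ProjUPSym Groth.Agent.H18.ProjUPUniq
open Groth.Agent.H88.TwistGenN Groth.Agent.H88.MonoFrac Groth.Agent.H88.ProjChart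
open Groth.Agent.H88.PicPn

section General

variable {R A : Type u} [CommRing R] [CommRing A] [Algebra R A] (𝒜 : ℕ → Submodule R A)
  [GradedAlgebra 𝒜]

/-- the global section of `O(d)` attached to `F ∈ 𝒜 d` -/
def gO {d : ℕ} (F : 𝒜 d) : Γ(Twist.twist 𝒜 (d : ℤ), ⊤) := toTw (Twist.globalOf 𝒜 F)

theorem na_natCast (d : ℕ) : na (d : ℤ) = d := Int.toNat_natCast d

theorem nb_natCast (d : ℕ) : nb (d : ℤ) = 0 := by
  unfold nb
  omega

set_option backward.isDefEq.respectTransparency false in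
theorem wval_gO_res {d : ℕ} (F : 𝒜 d) {V : (Proj 𝒜).Opens} (hV : V ≤ ⊤) (y : V) :
    wval ((Twist.twist 𝒜 (d : ℤ)).presheaf.map (homOfLE hV).op (gO 𝒜 F)) y =
      (Localization.mk F.1
        (⟨1, fun h => y.1.isPrime.ne_top ((Ideal.eq_top_iff_one _).mpr h)⟩ :
          y.1.asHomogeneousIdeal.toIdeal.primeCompl) : Twist.Loc 𝒜 y.1) := rfl

set_option backward.isDefEq.respectTransparency false in
theorem wval_αN {f : A} (hf : f ∈ 𝒜 1) (n : ℤ) (y : Proj.basicOpen 𝒜 f) :
    wval (αN 𝒜 hf n) y = (Localization.mk (f ^ na n)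
      (⟨f ^ nb n, pow_notMem 𝒜 (notMem_of_mem_basicOpen 𝒜 y) (nb n)⟩ :
        y.1.asHomogeneousIdeal.toIdeal.primeCompl) : Twist.Loc 𝒜 y.1) := rfl

set_option backward.isDefEq.respectTransparency false in
theorem gO_res {d : ℕ} (F : 𝒜 d) {f : A} (hf : f ∈ 𝒜 1) :
    (Twist.twist 𝒜 (d : ℤ)).presheaf.map
        (homOfLE (le_top : Proj.basicOpen 𝒜 f ≤ ⊤)).op (gO 𝒜 F) =
      frac 𝒜 (Proj.basicOpen 𝒜 f) F.2 (TwistGenN.pow_mem_one 𝒜 hf d)
        (fun y => pow_notMem 𝒜 (notMem_of_mem_basicOpen 𝒜 y) d) • αN 𝒜 hf (d : ℤ) := by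
  refine wval_ext (fun y => ?_)
  rw [wval_smul, wval_gO_res, wval_αN, val_frac, Localization.mk_mul, Localization.mk_eq_mk_iff,
    Localization.r_iff_exists]
  refine ⟨1, ?_⟩
  simp only [OneMemClass.coe_one, one_mul, Submonoid.coe_mul]
  rw [na_natCast, nb_natCast]
  ring

theorem mem_genLocus_gO {d : ℕ} (F : 𝒜 d) {f : A} (hf : f ∈ 𝒜 1) (x : Proj 𝒜)
    (hx : x ∈ Proj.basicOpen 𝒜 f) :
    x ∈ CohB1.genLocus (Twist.twist 𝒜 (d : ℤ))
        (Groth.Agent.H18.TensorPowIso.secHom (Twist.twist 𝒜 (d : ℤ)) (gO 𝒜 F)) ↔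
      F.1 ∉ (x : ProjectiveSpectrum 𝒜).asHomogeneousIdeal := by
  have hrel : Groth.Agent.H18.SecTw.sv
      (Groth.Agent.H18.TensorPowIso.secHom (Twist.twist 𝒜 (d : ℤ)) (gO 𝒜 F))
      (Proj.basicOpen 𝒜 f) =
      frac 𝒜 (Proj.basicOpen 𝒜 f) F.2 (TwistGenN.pow_mem_one 𝒜 hf d)
        (fun y => pow_notMem 𝒜 (notMem_of_mem_basicOpen 𝒜 y) d) • αN 𝒜 hf (d : ℤ) := by
    rw [Groth.Agent.H18.TensorPowIso.sv_secHom]
    exact gO_res 𝒜 F hf
  rw [mem_genLocus_iff_of_isGen _ (isGen_αN 𝒜 hf (d : ℤ)) _ hrel x hx, mem_basicOpen_frac]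
  exact ⟨fun h => h.2, fun h => ⟨hx, h⟩⟩

end General

section Poly

variable (n : ℕ) (k : Type u) [Field k]

theorem hgen (i : ℕ) :
    CohB1.polyGrading n k 1 * CohB1.polyGrading n k i = CohB1.polyGrading n k (i + 1) := by
  show MvPolynomial.homogeneousSubmodule (Fin (n + 1)) k 1 *
    MvPolynomial.homogeneousSubmodule (Fin (n + 1)) k i =
    MvPolynomial.homogeneousSubmodule (Fin (n + 1)) k (i + 1)
  conv_rhs => rw [← MvPolynomial.homogeneousSubmodule_one_pow]
  rw [pow_succ', MvPolynomial.homogeneousSubmodule_one_pow]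

theorem exists_gO (d : ℕ) (σ : Γ(Twist.twist (CohB1.polyGrading n k) (d : ℤ), ⊤)) :
    ∃ F : CohB1.polyGrading n k d, σ = gO (CohB1.polyGrading n k) F := by
  have h1 : CohB1.polyGrading n k 1 ≠ ⊥ := by
    intro h
    have h2 := hT n k 0
    rw [h, Submodule.mem_bot] at h2
    exact MvPolynomial.X_ne_zero 0 h2
  have hb := Groth.Agent.H13.ProjNormal.bijective (CohB1.polyGrading n k) (hgen n k) h1
    inferInstance d
  obtain ⟨F, hF⟩ := hb.2 (ofTw σ)
  exact ⟨F, hF.symm⟩

theorem cst_zero (V : (Proj (CohB1.polyGrading n k)).Opens) :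
    cst (CohB1.polyGrading n k) V (0 : k) = 0 := by
  unfold cst
  refine (frac_eq_of (CohB1.polyGrading n k) _ _ _ (zero_mem _) (SetLike.one_mem_graded _)
    (fun x h => x.1.isPrime.ne_top ((Ideal.eq_top_iff_one _).mpr h)) ?_).trans
    (frac_zero (CohB1.polyGrading n k) _ _)
  rw [map_zero]

/-- multiplication by `X_0^e : O(d) ⟶ O(d + e)` on the standard generators -/
theorem exists_mulX0 (d d' : ℤ) (e : ℕ) (hd' : d' = d + e) :
    ∃ μ : Twist.twist (CohB1.polyGrading n k) d ⟶ Twist.twist (CohB1.polyGrading n k) d',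
      ∀ i, μ.app (U n k i) (αN (CohB1.polyGrading n k) (hT n k i) d) =
        xpow n k i (U n k i) le_rfl e • αN (CohB1.polyGrading n k) (hT n k i) d' := by
  subst hd'
  have hγu : ∀ i j, (Twist.twist (CohB1.polyGrading n k) (d + e)).presheaf.map
      (homOfLE (inf_le_right : U n k i ⊓ U n k j ≤ U n k j)).op
        (xpow n k j (U n k j) le_rfl e • αN (CohB1.polyGrading n k) (hT n k j) (d + e)) =
      uN (CohB1.polyGrading n k) (hT n k i) (hT n k j) d •
        (Twist.twist (CohB1.polyGrading n k) (d + e)).presheaf.map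
          (homOfLE (inf_le_left : U n k i ⊓ U n k j ≤ U n k i)).op
          (xpow n k i (U n k i) le_rfl e • αN (CohB1.polyGrading n k) (hT n k i) (d + e)) := by
    intro i j
    have key : (Proj (CohB1.polyGrading n k)).presheaf.map
        (homOfLE (inf_le_right : U n k i ⊓ U n k j ≤ U n k j)).op (xpow n k j (U n k j) le_rfl e) *
        mfrac (CohB1.polyGrading n k) (U n k i ⊓ U n k j) (hT n k i) (hT n k j) inf_le_left
          inf_le_right e 0 =
        (Proj (CohB1.polyGrading n k)).presheaf.map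
          (homOfLE (inf_le_left : U n k i ⊓ U n k j ≤ U n k i)).op
          (xpow n k i (U n k i) le_rfl e) := by
      unfold xpow mfrac
      rw [frac_res, frac_res, frac_mul]
      refine frac_eq_of (CohB1.polyGrading n k) _ _ _ _ _ _ ?_
      ring
    rw [res_smul, res_smul, αN_res (CohB1.polyGrading n k) (hT n k i) (hT n k j) (d + e),
      ← mul_smul, ← mul_smul]
    congr 1
    rw [uN_eq_zfrac, uN_eq_zfrac, zfrac_add_nat, ← mul_assoc, key, mul_comm]
  have hcoh := Groth.Agent.H18.HomOfGens.coh_of_transition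
    (A := Twist.twist (CohB1.polyGrading n k) d)
    (C := Twist.twist (CohB1.polyGrading n k) (d + e)) (D := U n k)
    (α := fun i => αN (CohB1.polyGrading n k) (hT n k i) d)
    (γ := fun i => xpow n k i (U n k i) le_rfl e • αN (CohB1.polyGrading n k) (hT n k i) (d + e))
    (fun i => isGen_αN (CohB1.polyGrading n k) (hT n k i) d)
    (fun i j => uN (CohB1.polyGrading n k) (hT n k i) (hT n k j) d)
    (fun i j => αN_res (CohB1.polyGrading n k) (hT n k i) (hT n k j) d) hγu
  exact Groth.Agent.H18.HomOfGens.exists_hom_of_gens (Groth.Agent.H18.ProjUPData.Dp_cover n k)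
    (fun i => isGen_αN (CohB1.polyGrading n k) (hT n k i) d) hcoh

/-- a global section of `O(-e)`, `e > 0`, vanishes on every chart (`n ≥ 1`) -/
theorem res_eq_zero_of_neg (hn : ∃ i : Fin (n + 1), i ≠ 0) (e : ℕ) (he : 0 < e)
    (σ : Γ(Twist.twist (CohB1.polyGrading n k) (-(e : ℤ)), ⊤)) (i : Fin (n + 1)) :
    (Twist.twist (CohB1.polyGrading n k) (-(e : ℤ))).presheaf.map
      (homOfLE (le_top : U n k i ≤ ⊤)).op σ = 0 := by
  obtain ⟨μ, hμ⟩ := exists_mulX0 n k (-(e : ℤ)) ((0 : ℕ) : ℤ) e (by push_cast; ring)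
  obtain ⟨G, hG⟩ := exists_gO n k 0 (μ.app ⊤ σ)
  have hG1 : G.1 ∈ (1 : Submodule k (MvPolynomial (Fin (n + 1)) k)) := by
    rw [← MvPolynomial.homogeneousSubmodule_zero]
    exact G.2
  obtain ⟨r, hr⟩ := Submodule.mem_one.mp hG1
  have hc : ∀ j : Fin (n + 1), ∃ c : Γ(Proj (CohB1.polyGrading n k), U n k j),
      c • αN (CohB1.polyGrading n k) (hT n k j) (-(e : ℤ)) =
        (Twist.twist (CohB1.polyGrading n k) (-(e : ℤ))).presheaf.map
          (homOfLE (le_top : U n k j ≤ ⊤)).op σ ∧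
      c * xpow n k j (U n k j) le_rfl e = cst (CohB1.polyGrading n k) (U n k j) r := by
    intro j
    obtain ⟨c, hc⟩ := (isGen_αN (CohB1.polyGrading n k) (hT n k j) (-(e : ℤ))).self.2
      ((Twist.twist (CohB1.polyGrading n k) (-(e : ℤ))).presheaf.map
        (homOfLE (le_top : U n k j ≤ ⊤)).op σ)
    have hc' : c • αN (CohB1.polyGrading n k) (hT n k j) (-(e : ℤ)) =
        (Twist.twist (CohB1.polyGrading n k) (-(e : ℤ))).presheaf.map
          (homOfLE (le_top : U n k j ≤ ⊤)).op σ := hc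
    refine ⟨c, hc', ?_⟩
    have hfr : frac (CohB1.polyGrading n k) (U n k j) G.2
        (TwistGenN.pow_mem_one (CohB1.polyGrading n k) (hT n k j) 0)
        (fun y => pow_notMem (CohB1.polyGrading n k)
          (notMem_of_mem_basicOpen (CohB1.polyGrading n k) y) 0) =
        cst (CohB1.polyGrading n k) (U n k j) r := by
      unfold cst
      refine frac_eq_of (CohB1.polyGrading n k) _ _ _ _ _ _ ?_
      rw [← hr, pow_zero]
    rw [← hfr]
    apply (isGen_αN (CohB1.polyGrading n k) (hT n k j) ((0 : ℕ) : ℤ)).self.1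
    show (c * xpow n k j (U n k j) le_rfl e) •
        αN (CohB1.polyGrading n k) (hT n k j) ((0 : ℕ) : ℤ) =
      frac (CohB1.polyGrading n k) (U n k j) G.2
        (TwistGenN.pow_mem_one (CohB1.polyGrading n k) (hT n k j) 0)
        (fun y => pow_notMem (CohB1.polyGrading n k)
          (notMem_of_mem_basicOpen (CohB1.polyGrading n k) y) 0) •
        αN (CohB1.polyGrading n k) (hT n k j) ((0 : ℕ) : ℤ)
    rw [← gO_res (CohB1.polyGrading n k) G (hT n k j), ← hG, ← app_res, ← hc',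
      Scheme.Modules.Hom.app_smul, hμ j, mul_smul]
  have hr0 : r = 0 := by
    by_contra hr0
    obtain ⟨i0, hi0⟩ := hn
    obtain ⟨c, -, hc2⟩ := hc i0
    have hu : IsUnit (c * xpow n k i0 (U n k i0) le_rfl e) := by
      rw [hc2]
      exact isUnit_cst (CohB1.polyGrading n k) _ (IsUnit.mk0 r hr0)
    exact not_isUnit_xpow n k ⟨i0, hi0⟩ i0 (U n k i0) le_rfl (ξ_mem n k _ i0 hi0) e he
      (isUnit_of_mul_isUnit_right hu)
  obtain ⟨c, hc1, hc2⟩ := hc i
  rw [hr0, cst_zero] at hc2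
  have hc0 : c = 0 := by
    apply res_injective n k (inf_le_left : U n k i ⊓ U n k 0 ≤ U n k i)
      ⟨η_mem n k i, η_mem n k 0⟩
    rw [map_zero]
    have h1 := congrArg ((Proj (CohB1.polyGrading n k)).presheaf.map
      (homOfLE (inf_le_left : U n k i ⊓ U n k 0 ≤ U n k i)).op) hc2
    rw [map_mul, map_zero, xpow_res n k i inf_le_left le_rfl inf_le_right] at h1
    have h2 := mfrac_swap (CohB1.polyGrading n k) (hT n k i) (hT n k 0)
      (inf_le_left : U n k i ⊓ U n k 0 ≤ U n k i) inf_le_right e 0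
    calc (Proj (CohB1.polyGrading n k)).presheaf.map
          (homOfLE (inf_le_left : U n k i ⊓ U n k 0 ≤ U n k i)).op c
        = (Proj (CohB1.polyGrading n k)).presheaf.map
          (homOfLE (inf_le_left : U n k i ⊓ U n k 0 ≤ U n k i)).op c *
          (mfrac (CohB1.polyGrading n k) (U n k i ⊓ U n k 0) (hT n k i) (hT n k 0) inf_le_left
            inf_le_right e 0 *
          mfrac (CohB1.polyGrading n k) (U n k i ⊓ U n k 0) (hT n k 0) (hT n k i) inf_le_right
            inf_le_left e 0) := by rw [h2, mul_one]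
      _ = 0 := by rw [← mul_assoc, h1, zero_mul]
  rw [← hc1, hc0, zero_smul]

theorem not_mem_genLocus_neg (hn : ∃ i : Fin (n + 1), i ≠ 0) (e : ℕ) (he : 0 < e)
    (σ : Γ(Twist.twist (CohB1.polyGrading n k) (-(e : ℤ)), ⊤))
    (x : Proj (CohB1.polyGrading n k)) :
    x ∉ CohB1.genLocus (Twist.twist (CohB1.polyGrading n k) (-(e : ℤ)))
      (Groth.Agent.H18.TensorPowIso.secHom _ σ) := by
  obtain ⟨i, hi⟩ := Groth.Agent.H18.ProjUPData.Dp_cover n k x
  have hrel : Groth.Agent.H18.SecTw.sv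
      (Groth.Agent.H18.TensorPowIso.secHom (Twist.twist (CohB1.polyGrading n k) (-(e : ℤ))) σ)
      (U n k i) = (0 : Γ(Proj (CohB1.polyGrading n k), U n k i)) •
        αN (CohB1.polyGrading n k) (hT n k i) (-(e : ℤ)) := by
    rw [Groth.Agent.H18.TensorPowIso.sv_secHom, zero_smul]
    exact res_eq_zero_of_neg n k hn e he σ i
  rw [mem_genLocus_iff_of_isGen _ (isGen_αN (CohB1.polyGrading n k) (hT n k i) _) _ hrel x hi,
    Scheme.basicOpen_zero]
  exact fun h => h

end Poly

end Groth.Agent.H88.PnGlobal
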