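import Mathlib

/-! Shared definition for the S4406 squad (helper88). -/

set_option autoImplicit false
universe u
open CategoryTheory AlgebraicGeometry

namespace Groth.Agent.H88.BCTw

/-- A section of `h_* G` over `U`, viewed as a section of `G` over `h⁻¹ U` (the identity map; it only
changes the type, so that the `Γ(Y, h⁻¹U)`-module structure is found). -/
abbrev pushSec {X Y : Scheme.{u}} (h : Y ⟶ X) (G : Y.Modules) (U : X.Opens)
    (s : Γ((Scheme.Modules.pushforward h).obj G, U)) : Γ(G, h ⁻¹ᵁ U) := s

end Groth.Agent.H88.BCTw
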