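import Groth.Agent.H18.TwistAmpleLocal
import Groth.Agent.H18.TwistRestrict

/-!
# Local generators `f^n` of `O(n)` on `D₊(f)` (`f` of degree one, `n : ℤ`) and their transition
functions (helper88, for S4403; uses helper18's `Twist` API)

* `αN 𝒜 hf n : Γ(O(n), D₊(f))`, the section `f^{n⁺}/f^{n⁻}`; `isGen_αN`.
* `uN 𝒜 hf hg n : Γ(O, D₊(f) ⊓ D₊(g))`, the function `(g/f)^n`, written
  `g^{2a} f^{2b} / (f g)^{a+b}` (`a = n⁺`, `b = n⁻`).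
* `αN_res`: `α_g = uN f g • α_f` on `D₊(f) ⊓ D₊(g)`.
-/

set_option autoImplicit false
universe u

noncomputable section

namespace Groth.Agent.H88.TwistGenN

open CategoryTheory AlgebraicGeometry Opposite TopologicalSpace
open Groth.Agent.H18.Serre (val frac val_frac toO ofTw toTw)
open Groth.Agent.H18.TwistAmple (wval wval_ext wval_smul)
open Groth.Agent.H18.TensorGen (IsGen)
open Groth.Agent.H18

variable {R A : Type u} [CommRing R] [CommRing A] [Algebra R A] (𝒜 : ℕ → Submodule R A)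
  [GradedAlgebra 𝒜]

/-- positive part -/
def na (n : ℤ) : ℕ := n.toNat
/-- negative part -/
def nb (n : ℤ) : ℕ := (-n).toNat

theorem na_eq (n : ℤ) : (na n : ℤ) = nb n + n := by
  unfold na nb
  omega

theorem pow_mem_one {f : A} (hf : f ∈ 𝒜 1) (k : ℕ) : f ^ k ∈ 𝒜 k := by
  have := SetLike.pow_mem_graded k hf
  rwa [smul_eq_mul, mul_one] at this

theorem pow_notMem {y : ProjectiveSpectrum 𝒜} {f : A} (hf : f ∉ y.asHomogeneousIdeal) (k : ℕ) :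
    f ^ k ∉ y.asHomogeneousIdeal := fun h => hf (y.isPrime.mem_of_pow_mem k h)

theorem notMem_of_mem_basicOpen {f : A} (y : Proj.basicOpen 𝒜 f) :
    f ∉ y.1.asHomogeneousIdeal := (ProjectiveSpectrum.mem_basicOpen 𝒜 f y.1).mp y.2

/-- The generator `f^n` of `O(n)` over `D₊(f)`. -/
def αN {f : A} (hf : f ∈ 𝒜 1) (n : ℤ) : Γ(Twist.twist 𝒜 n, Proj.basicOpen 𝒜 f) :=
  toTw (TwistRestrict.fracSection 𝒜 (pow_mem_one 𝒜 hf (na n)) (pow_mem_one 𝒜 hf (nb n)) (na_eq n)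
    (fun y : (Proj.basicOpen 𝒜 f : (Proj 𝒜).Opens) =>
      pow_notMem 𝒜 (notMem_of_mem_basicOpen 𝒜 y) (nb n)))

set_option backward.isDefEq.respectTransparency false in
theorem isGen_αN {f : A} (hf : f ∈ 𝒜 1) (n : ℤ) :
    IsGen (Twist.twist 𝒜 n) (Proj.basicOpen 𝒜 f) (αN 𝒜 hf n) := by
  intro V hV
  exact TwistRestrict.bijective_smul_of_fraction 𝒜 (pow_mem_one 𝒜 hf (na n))
    (pow_mem_one 𝒜 hf (nb n)) (na_eq n)
    (fun y => pow_notMem 𝒜 (notMem_of_mem_basicOpen 𝒜 ⟨y.1, hV y.2⟩) (na n))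
    (fun y => pow_notMem 𝒜 (notMem_of_mem_basicOpen 𝒜 ⟨y.1, hV y.2⟩) (nb n))
    ((Twist.twist 𝒜 n).presheaf.map (homOfLE hV).op (αN 𝒜 hf n))
    (fun y => rfl)

set_option backward.isDefEq.respectTransparency false in
theorem wval_αN_res {f : A} (hf : f ∈ 𝒜 1) (n : ℤ) {V : (Proj 𝒜).Opens}
    (hV : V ≤ Proj.basicOpen 𝒜 f) (y : V) :
    wval ((Twist.twist 𝒜 n).presheaf.map (homOfLE hV).op (αN 𝒜 hf n)) y =
      Localization.mk (f ^ na n)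
        ⟨f ^ nb n, pow_notMem 𝒜 (notMem_of_mem_basicOpen 𝒜 ⟨y.1, hV y.2⟩) (nb n)⟩ := rfl

theorem num_mem {f g : A} (hf : f ∈ 𝒜 1) (hg : g ∈ 𝒜 1) (a b : ℕ) :
    g ^ (2 * a) * f ^ (2 * b) ∈ 𝒜 ((a + b) • 2) := by
  have h := SetLike.mul_mem_graded (pow_mem_one 𝒜 hg (2 * a)) (pow_mem_one 𝒜 hf (2 * b))
  have e : 2 * a + 2 * b = (a + b) • 2 := by
    rw [smul_eq_mul]; ring
  rwa [e] at h

theorem den_mem {f g : A} (hf : f ∈ 𝒜 1) (hg : g ∈ 𝒜 1) (k : ℕ) :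
    (f * g) ^ k ∈ 𝒜 (k • 2) :=
  SetLike.pow_mem_graded k (SetLike.mul_mem_graded hf hg)

theorem den_notMem {f g : A} (k : ℕ)
    (y : (Proj.basicOpen 𝒜 f ⊓ Proj.basicOpen 𝒜 g : (Proj 𝒜).Opens)) :
    (f * g) ^ k ∉ y.1.asHomogeneousIdeal := by
  apply pow_notMem
  intro h
  rcases y.1.isPrime.mem_or_mem h with h | h
  · exact (ProjectiveSpectrum.mem_basicOpen 𝒜 f y.1).mp y.2.1 h
  · exact (ProjectiveSpectrum.mem_basicOpen 𝒜 g y.1).mp y.2.2 h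

/-- The transition function `(g/f)^n` on `D₊(f) ⊓ D₊(g)`. -/
def uN {f g : A} (hf : f ∈ 𝒜 1) (hg : g ∈ 𝒜 1) (n : ℤ) :
    Γ(Proj 𝒜, Proj.basicOpen 𝒜 f ⊓ Proj.basicOpen 𝒜 g) :=
  frac 𝒜 (Proj.basicOpen 𝒜 f ⊓ Proj.basicOpen 𝒜 g) (num_mem 𝒜 hf hg (na n) (nb n))
    (den_mem 𝒜 hf hg (na n + nb n)) (den_notMem 𝒜 (na n + nb n))

set_option backward.isDefEq.respectTransparency false in
/-- `α_g = (g/f)^n • α_f` on the overlap. -/
theorem αN_res {f g : A} (hf : f ∈ 𝒜 1) (hg : g ∈ 𝒜 1) (n : ℤ) :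
    (Twist.twist 𝒜 n).presheaf.map (homOfLE (inf_le_right :
        Proj.basicOpen 𝒜 f ⊓ Proj.basicOpen 𝒜 g ≤ Proj.basicOpen 𝒜 g)).op (αN 𝒜 hg n) =
      uN 𝒜 hf hg n • (Twist.twist 𝒜 n).presheaf.map (homOfLE (inf_le_left :
        Proj.basicOpen 𝒜 f ⊓ Proj.basicOpen 𝒜 g ≤ Proj.basicOpen 𝒜 f)).op (αN 𝒜 hf n) := by
  refine wval_ext (fun y => ?_)
  rw [wval_smul, wval_αN_res, wval_αN_res]
  unfold uN
  rw [val_frac, Localization.mk_mul, Localization.mk_eq_mk_iff, Localization.r_iff_exists]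
  refine ⟨1, ?_⟩
  simp only [OneMemClass.coe_one, one_mul, Submonoid.coe_mul]
  ring

end Groth.Agent.H88.TwistGenN
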