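import Groth.Agent.H18.ProjUPUniq
import Groth.Agent.H18.PConeBasic
import Groth.Agent.H18.ConeFibre
import Groth.Agent.H88.TwistGenN

/-!
# The effect on sections of the morphism `G(φ) ⟶ Proj 𝒜` induced by a graded homomorphism
(helper88, for S4403; uses helper18's libraries)

* `restrict_eq_lift'`: `ProjUPUniq.restrict_eq_lift` for a homogeneous element of any positive
  degree.
* `app_awayToSection`: `p^♯(x) = ι^♯(φ x)` for `x ∈ A_(h)`, for the morphism `p : G(φ) ⟶ Proj 𝒜`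
  characterised on charts.
-/

set_option autoImplicit false
universe u

namespace Groth.Agent.H88.PConeSections

open CategoryTheory AlgebraicGeometry TopologicalSpace Opposite HomogeneousLocalization
open Groth.Agent.H18 Groth.Agent.H18.ToProj Groth.Agent.H18.ProjUPUniq
open Groth.Agent.H18.Serre (val frac val_frac frac_eq_of)
open Groth.Agent.H88.TwistGenN

section General

variable {R A : Type u} [CommRing R] [CommRing A] [Algebra R A] (𝒜 : ℕ → Submodule R A)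
  [GradedAlgebra 𝒜]
variable {X : Scheme.{u}} (r : X ⟶ Proj 𝒜)

theorem top_le_awayι_preimage' {d : ℕ} {g : A} (hg : g ∈ 𝒜 d) (hd : 0 < d) :
    ⊤ ≤ Proj.awayι 𝒜 g hg hd ⁻¹ᵁ Proj.basicOpen 𝒜 g := by
  rw [← Proj.opensRange_awayι 𝒜 g hg hd]
  intro x _
  exact ⟨x, rfl⟩

/-- The restriction of `r : X ⟶ Proj 𝒜` to an open mapped into `D₊(g)` in terms of the ring map
`A_(g) → Γ(X, U)` (any positive degree). -/
theorem restrict_eq_lift' {d : ℕ} {g : A} (hg : g ∈ 𝒜 d) (hd : 0 < d) (U : X.Opens)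
    (e : U ≤ r ⁻¹ᵁ Proj.basicOpen 𝒜 g) :
    U.ι ≫ r = U.toSpecΓ ≫
      Spec.map (Proj.awayToSection 𝒜 g ≫ r.appLE (Proj.basicOpen 𝒜 g) U e) ≫
      Proj.awayι 𝒜 g hg hd := by
  have hrange : Set.range (U.ι ≫ r) ⊆ Set.range (Proj.awayι 𝒜 g hg hd) := by
    rintro _ ⟨y, rfl⟩
    have h1 : (U.ι ≫ r) y ∈ Proj.basicOpen 𝒜 g := e y.2
    rw [← Proj.opensRange_awayι 𝒜 g hg hd] at h1
    exact h1
  obtain ⟨l, hl⟩ : ∃ l : (U : Scheme.{u}) ⟶ Spec (CommRingCat.of (Away 𝒜 g)),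
      l ≫ Proj.awayι 𝒜 g hg hd = U.ι ≫ r :=
    ⟨IsOpenImmersion.lift _ _ hrange, IsOpenImmersion.lift_fac _ _ _⟩
  rw [← hl, ← Category.assoc]
  congr 1
  have e0 := top_le_awayι_preimage' 𝒜 hg hd
  have e' : (⊤ : (U : Scheme.{u}).Opens) ≤ U.ι ⁻¹ᵁ U := by
    rw [Scheme.Opens.ι_preimage_self]
  have h0 : r.appLE (Proj.basicOpen 𝒜 g) U e ≫ U.ι.appLE U ⊤ e' =
      (U.ι ≫ r).appLE (Proj.basicOpen 𝒜 g) ⊤
        (e'.trans ((Opens.map U.ι.base).map (homOfLE e)).le) :=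
    Scheme.Hom.appLE_comp_appLE _ _ _ _ _ _ _
  have h0' : U.ι.appLE U ⊤ e' = U.topIso.inv := by
    rw [Scheme.Opens.ι_appLE]
    rfl
  have h2 : ∀ (f f' : (U : Scheme.{u}) ⟶ Proj 𝒜) (hf : f = f')
      (e₁ : ⊤ ≤ f ⁻¹ᵁ Proj.basicOpen 𝒜 g),
      f.appLE (Proj.basicOpen 𝒜 g) ⊤ e₁ = f'.appLE (Proj.basicOpen 𝒜 g) ⊤ (hf ▸ e₁) := by
    rintro f _ rfl _
    rfl
  have h3 : (Proj.awayι 𝒜 g hg hd).appLE (Proj.basicOpen 𝒜 g) ⊤ e0 ≫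
      l.appLE ⊤ ⊤ le_top =
      (l ≫ Proj.awayι 𝒜 g hg hd).appLE (Proj.basicOpen 𝒜 g) ⊤
        (hl.symm ▸ (e'.trans ((Opens.map U.ι.base).map (homOfLE e)).le)) :=
    Scheme.Hom.appLE_comp_appLE _ _ _ _ _ _ _
  have h4 : l.appLE ⊤ ⊤ le_top = l.appTop := Scheme.Hom.appLE_eq_app _
  have key : Proj.awayToSection 𝒜 g ≫ r.appLE (Proj.basicOpen 𝒜 g) U e ≫ U.topIso.inv =
      (Scheme.ΓSpecIso _).inv ≫ l.appTop := by
    rw [← h0', h0, h2 _ _ hl.symm, ← h3, ← Category.assoc, awayToSection_awayι_appLE, h4]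
  conv_lhs => rw [eq_toSpecΓ_map l, ← key]
  unfold Scheme.Opens.toSpecΓ
  rw [Category.assoc, ← Spec.map_comp, Category.assoc]

set_option backward.isDefEq.respectTransparency false in
/-- `a / h^k ∈ A_(h)` as a fraction section. -/
theorem awayToSection_mk_eq_frac {d : ℕ} {h : A} (hh : h ∈ 𝒜 d) (k : ℕ) {a : A}
    (ha : a ∈ 𝒜 (k • d)) (V : (Proj 𝒜).Opens) (hV : V ≤ Proj.basicOpen 𝒜 h)
    (hnv : ∀ y : V, h ^ k ∉ y.1.asHomogeneousIdeal) :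
    (Proj 𝒜).presheaf.map (homOfLE hV).op
        ((Proj.awayToSection 𝒜 h).hom (Away.mk 𝒜 hh k a ha)) =
      frac 𝒜 V ha (SetLike.pow_mem_graded k hh) hnv := by
  refine Groth.Agent.H18.Serre.ext_val 𝒜 (fun y => ?_)
  apply HomogeneousLocalization.val_injective
  rw [val_frac]
  have h1 := ProjectiveSpectrum.Proj.awayToSection_apply 𝒜 h (Away.mk 𝒜 hh k a ha)
    ⟨y.1, hV y.2⟩
  refine h1.trans ?_
  rw [HomogeneousLocalization.Away.val_mk, Localization.mk_eq_mk', IsLocalization.map_mk',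
    ← Localization.mk_eq_mk']
  refine Localization.mk_eq_mk_iff.mpr ?_
  rw [Localization.r_iff_exists]
  exact ⟨1, by simp⟩

end General

section PCone

variable {R A B : Type u} [CommRing R] [CommRing A] [Algebra R A] {𝒜 : ℕ → Submodule R A}
  [GradedAlgebra 𝒜] [CommRing B] [Algebra R B] {ℬ : ℕ → Submodule R B} [GradedAlgebra ℬ]
  (φ : 𝒜 →+*ᵍ ℬ)
  (p : (PCone.dom φ : Scheme.{u}) ⟶ Proj 𝒜)
  (hp : ∀ (d : ℕ) (f : A) (hd : 0 < d) (hf : f ∈ 𝒜 d),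
        PCone.chart φ hf hd ≫ p =
          Spec.map (CommRingCat.ofHom (Away.map φ f)) ≫ Proj.awayι 𝒜 f hf hd)

include hp in
/-- `p^♯(x) = ι^♯(φ x)` on `p⁻¹ D₊(h)`, for `x ∈ A_(h)`. -/
theorem awayToSection_appLE {d : ℕ} {h : A} (hd : 0 < d) (hh : h ∈ 𝒜 d)
    (e₁ : p ⁻¹ᵁ Proj.basicOpen 𝒜 h ≤ p ⁻¹ᵁ Proj.basicOpen 𝒜 h)
    (e₂ : p ⁻¹ᵁ Proj.basicOpen 𝒜 h ≤ (PCone.dom φ).ι ⁻¹ᵁ Proj.basicOpen ℬ (φ h)) :
    Proj.awayToSection 𝒜 h ≫ p.appLE (Proj.basicOpen 𝒜 h) (p ⁻¹ᵁ Proj.basicOpen 𝒜 h) e₁ =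
      CommRingCat.ofHom (Away.map φ h) ≫ Proj.awayToSection ℬ (φ h) ≫
        (PCone.dom φ).ι.appLE (Proj.basicOpen ℬ (φ h)) (p ⁻¹ᵁ Proj.basicOpen 𝒜 h) e₂ := by
  apply toSpecΓ_map_injective (p ⁻¹ᵁ Proj.basicOpen 𝒜 h)
  rw [← cancel_mono (Proj.awayι 𝒜 h hh hd)]
  have h1 := restrict_eq_lift' 𝒜 p hh hd (p ⁻¹ᵁ Proj.basicOpen 𝒜 h) e₁
  have h2 := restrict_eq_lift' ℬ (PCone.dom φ).ι (φ.2 hh) hd (p ⁻¹ᵁ Proj.basicOpen 𝒜 h) e₂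
  obtain ⟨β, hβ⟩ : ∃ β, β = (p ⁻¹ᵁ Proj.basicOpen 𝒜 h).toSpecΓ ≫
      Spec.map (Proj.awayToSection ℬ (φ h) ≫
        (PCone.dom φ).ι.appLE (Proj.basicOpen ℬ (φ h)) (p ⁻¹ᵁ Proj.basicOpen 𝒜 h) e₂) := ⟨_, rfl⟩
  have h3 : β ≫ PCone.chart φ hh hd = (p ⁻¹ᵁ Proj.basicOpen 𝒜 h).ι := by
    rw [← cancel_mono (PCone.dom φ).ι, Category.assoc, chart_ι, hβ, Category.assoc]
    exact h2.symm
  calc ((p ⁻¹ᵁ Proj.basicOpen 𝒜 h).toSpecΓ ≫ Spec.map (Proj.awayToSection 𝒜 h ≫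
          p.appLE (Proj.basicOpen 𝒜 h) (p ⁻¹ᵁ Proj.basicOpen 𝒜 h) e₁)) ≫ Proj.awayι 𝒜 h hh hd
      = (p ⁻¹ᵁ Proj.basicOpen 𝒜 h).ι ≫ p := by rw [Category.assoc]; exact h1.symm
    _ = (β ≫ PCone.chart φ hh hd) ≫ p := by rw [h3]
    _ = β ≫ (Spec.map (CommRingCat.ofHom (Away.map φ h)) ≫ Proj.awayι 𝒜 h hh hd) := by
        rw [Category.assoc, hp d h hd hh]
    _ = _ := by
        rw [hβ]
        simp only [Spec.map_comp, Category.assoc]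

include hp in
/-- `p^♯` on sections over any open `W ⊆ D₊(h)`, compared with `ι^♯` on `Proj ℬ`. -/
theorem comparison {d : ℕ} {h : A} (hd : 0 < d) (hh : h ∈ 𝒜 d) (W : (Proj 𝒜).Opens)
    (hW : W ≤ Proj.basicOpen 𝒜 h)
    (hW' : (PCone.dom φ).ι ''ᵁ (p ⁻¹ᵁ W) ≤ Proj.basicOpen ℬ (φ h)) :
    Proj.awayToSection 𝒜 h ≫ (Proj 𝒜).presheaf.map (homOfLE hW).op ≫ p.app W ≫
        ((PCone.dom φ).ι.appIso (p ⁻¹ᵁ W)).inv =
      CommRingCat.ofHom (Away.map φ h) ≫ Proj.awayToSection ℬ (φ h) ≫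
        (Proj ℬ).presheaf.map (homOfLE hW').op := by
  have e₂ : p ⁻¹ᵁ Proj.basicOpen 𝒜 h ≤ (PCone.dom φ).ι ⁻¹ᵁ Proj.basicOpen ℬ (φ h) :=
    (preimage_basicOpen_of_chart_compat φ p hp hd hh).le
  have hmono : p ⁻¹ᵁ W ≤ p ⁻¹ᵁ Proj.basicOpen 𝒜 h := fun x hx => hW hx
  have s1 : (Proj 𝒜).presheaf.map (homOfLE hW).op ≫ p.app W =
      p.appLE (Proj.basicOpen 𝒜 h) (p ⁻¹ᵁ W) hmono := by
    rw [← Scheme.Hom.appLE_eq_app, Scheme.Hom.map_appLE]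
  have s2 : p.appLE (Proj.basicOpen 𝒜 h) (p ⁻¹ᵁ Proj.basicOpen 𝒜 h) le_rfl ≫
      (PCone.dom φ : Scheme.{u}).presheaf.map (homOfLE hmono).op =
      p.appLE (Proj.basicOpen 𝒜 h) (p ⁻¹ᵁ W) hmono := Scheme.Hom.appLE_map _ _ _
  have s3 := awayToSection_appLE φ p hp hd hh le_rfl e₂
  have s4 : (PCone.dom φ).ι.appLE (Proj.basicOpen ℬ (φ h)) (p ⁻¹ᵁ Proj.basicOpen 𝒜 h) e₂ ≫
      (PCone.dom φ : Scheme.{u}).presheaf.map (homOfLE hmono).op =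
      (PCone.dom φ).ι.appLE (Proj.basicOpen ℬ (φ h)) (p ⁻¹ᵁ W) (hmono.trans e₂) :=
    Scheme.Hom.appLE_map _ _ _
  have s5 := Scheme.Hom.appLE_appIso_inv (PCone.dom φ).ι (hmono.trans e₂)
  calc Proj.awayToSection 𝒜 h ≫ (Proj 𝒜).presheaf.map (homOfLE hW).op ≫ p.app W ≫
        ((PCone.dom φ).ι.appIso (p ⁻¹ᵁ W)).inv
      = (Proj.awayToSection 𝒜 h ≫
          p.appLE (Proj.basicOpen 𝒜 h) (p ⁻¹ᵁ Proj.basicOpen 𝒜 h) le_rfl) ≫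
          (PCone.dom φ : Scheme.{u}).presheaf.map (homOfLE hmono).op ≫
          ((PCone.dom φ).ι.appIso (p ⁻¹ᵁ W)).inv := by
        rw [← Category.assoc ((Proj 𝒜).presheaf.map (homOfLE hW).op), s1, ← s2]
        simp only [Category.assoc]
    _ = (CommRingCat.ofHom (Away.map φ h) ≫ Proj.awayToSection ℬ (φ h)) ≫
          ((PCone.dom φ).ι.appLE (Proj.basicOpen ℬ (φ h)) (p ⁻¹ᵁ Proj.basicOpen 𝒜 h) e₂ ≫
          (PCone.dom φ : Scheme.{u}).presheaf.map (homOfLE hmono).op) ≫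
          ((PCone.dom φ).ι.appIso (p ⁻¹ᵁ W)).inv := by
        rw [s3]
        simp only [Category.assoc]
    _ = _ := by
        rw [s4, s5]
        simp only [Category.assoc]

include hp in
/-- `p^♯((g/f)^n) = ι^♯((φ g/φ f)^n)`. -/
theorem app_uN {f g : A} (hf : f ∈ 𝒜 1) (hg : g ∈ 𝒜 1) (n : ℤ)
    (hW' : (PCone.dom φ).ι ''ᵁ (p ⁻¹ᵁ (Proj.basicOpen 𝒜 f ⊓ Proj.basicOpen 𝒜 g)) ≤
      Proj.basicOpen ℬ (φ f) ⊓ Proj.basicOpen ℬ (φ g)) :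
    ((PCone.dom φ).ι.appIso (p ⁻¹ᵁ (Proj.basicOpen 𝒜 f ⊓ Proj.basicOpen 𝒜 g))).inv.hom
        ((p.app (Proj.basicOpen 𝒜 f ⊓ Proj.basicOpen 𝒜 g)).hom (uN 𝒜 hf hg n)) =
      (Proj ℬ).presheaf.map (homOfLE hW').op (uN ℬ (f := φ f) (g := φ g) (GradedFunLike.map_mem φ hf) (GradedFunLike.map_mem φ hg) n) := by
  have hh : f * g ∈ 𝒜 2 := SetLike.mul_mem_graded hf hg
  have hW : Proj.basicOpen 𝒜 f ⊓ Proj.basicOpen 𝒜 g ≤ Proj.basicOpen 𝒜 (f * g) :=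
    (Proj.basicOpen_mul 𝒜 f g).ge
  have hφh : Proj.basicOpen ℬ (φ (f * g)) = Proj.basicOpen ℬ (φ f) ⊓ Proj.basicOpen ℬ (φ g) := by
    rw [map_mul, Proj.basicOpen_mul]
  have hW'' : (PCone.dom φ).ι ''ᵁ (p ⁻¹ᵁ (Proj.basicOpen 𝒜 f ⊓ Proj.basicOpen 𝒜 g)) ≤
      Proj.basicOpen ℬ (φ (f * g)) := hφh ▸ hW'
  have hA : uN 𝒜 hf hg n = (Proj 𝒜).presheaf.map (homOfLE hW).op
      ((Proj.awayToSection 𝒜 (f * g)).hom (Away.mk 𝒜 hh (na n + nb n)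
        (g ^ (2 * na n) * f ^ (2 * nb n)) (num_mem 𝒜 hf hg (na n) (nb n)))) :=
    (awayToSection_mk_eq_frac 𝒜 hh (na n + nb n) (num_mem 𝒜 hf hg (na n) (nb n)) _ hW
      (den_notMem 𝒜 (na n + nb n))).symm
  have hB := congrArg (fun m => m.hom (Away.mk 𝒜 hh (na n + nb n)
        (g ^ (2 * na n) * f ^ (2 * nb n)) (num_mem 𝒜 hf hg (na n) (nb n))))
    (comparison φ p hp (by norm_num : 0 < 2) hh _ hW hW'')
  rw [hA]
  refine (show _ = _ from hB).trans ?_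
  show (Proj ℬ).presheaf.map (homOfLE hW'').op ((Proj.awayToSection ℬ (φ (f * g))).hom
    (Away.map φ (f * g) (Away.mk 𝒜 hh (na n + nb n)
        (g ^ (2 * na n) * f ^ (2 * nb n)) (num_mem 𝒜 hf hg (na n) (nb n))))) = _
  rw [Away.map_mk]
  refine (awayToSection_mk_eq_frac ℬ (GradedFunLike.map_mem φ hh) (na n + nb n)
    (GradedFunLike.map_mem φ (num_mem 𝒜 hf hg (na n) (nb n))) _ hW''
    (fun y => by
      have := den_notMem ℬ (f := φ f) (g := φ g) (na n + nb n) ⟨y.1, hW' y.2⟩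
      rwa [← map_mul] at this)).trans ?_
  unfold uN
  rw [Groth.Agent.H18.Serre.frac_res]
  apply frac_eq_of
  simp only [map_mul, map_pow]

end PCone

end Groth.Agent.H88.PConeSections
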