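import Groth.Agent.H18.TensorGen

/-!
# Frames: local bases of sections of an `O_X`-module (rank `r` analogue of `TensorGen.IsGen`)
-/

set_option autoImplicit false
universe u

noncomputable section

namespace Groth.Agent.H88.Frame

open CategoryTheory AlgebraicGeometry Opposite TopologicalSpace

variable {X : Scheme.{u}}

/-- `μ 0, …, μ (r-1)` freely generate `M` on every open below `V`. -/
def IsFrame (M : X.Modules) (V : X.Opens) {r : ℕ} (μ : Fin r → Γ(M, V)) : Prop :=
  ∀ (V' : X.Opens) (h : V' ≤ V), Function.Bijective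
    (fun c : Fin r → Γ(X, V') => ∑ i, c i • M.presheaf.map (homOfLE h).op (μ i))

theorem IsFrame.res {M : X.Modules} {V W : X.Opens} {r : ℕ} {μ : Fin r → Γ(M, V)}
    (hμ : IsFrame M V μ) (h : W ≤ V) :
    IsFrame M W (fun i => M.presheaf.map (homOfLE h).op (μ i)) := by
  intro V' h'
  have hb := hμ V' (h'.trans h)
  have he : (fun c : Fin r → Γ(X, V') => ∑ i, c i • M.presheaf.map (homOfLE h').op
      (M.presheaf.map (homOfLE h).op (μ i))) =
      fun c : Fin r → Γ(X, V') => ∑ i, c i • M.presheaf.map (homOfLE (h'.trans h)).op (μ i) := by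
    funext c
    refine Finset.sum_congr rfl (fun i _ => ?_)
    rw [Groth.Agent.H8.res_res]
  rw [he]
  exact hb

end Groth.Agent.H88.Frame
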