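import Groth.Agent.H88.TwistGenN

/-!
# Monomial fractions `(g/f)^(a-b)` and constants as sections of the structure sheaf of `Proj`
(helper88; uses helper18's `Serre.frac` API)
-/

set_option autoImplicit false
universe u

noncomputable section

namespace Groth.Agent.H88.MonoFrac

open CategoryTheory AlgebraicGeometry Opposite TopologicalSpace
open Groth.Agent.H18.Serre
open Groth.Agent.H88.TwistGenN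

variable {R A : Type u} [CommRing R] [CommRing A] [Algebra R A] (𝒜 : ℕ → Submodule R A)
  [GradedAlgebra 𝒜]

theorem mono_mem {f g : A} (hf : f ∈ 𝒜 1) (hg : g ∈ 𝒜 1) (a b : ℕ) :
    g ^ a * f ^ b ∈ 𝒜 (a + b) :=
  SetLike.mul_mem_graded (TwistGenN.pow_mem_one 𝒜 hg a) (TwistGenN.pow_mem_one 𝒜 hf b)

theorem mono_notMem {V : (Proj 𝒜).Opens} {f g : A} (hVf : V ≤ Proj.basicOpen 𝒜 f)
    (hVg : V ≤ Proj.basicOpen 𝒜 g) (a b : ℕ) (x : V) :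
    f ^ a * g ^ b ∉ x.1.asHomogeneousIdeal := by
  intro h
  rcases x.1.isPrime.mem_or_mem h with h | h
  · exact pow_notMem 𝒜 (notMem_of_mem_basicOpen 𝒜 ⟨x.1, hVf x.2⟩) a h
  · exact pow_notMem 𝒜 (notMem_of_mem_basicOpen 𝒜 ⟨x.1, hVg x.2⟩) b h

/-- `(g/f)^(a-b)` on an open where `f`, `g` do not vanish. -/
def mfrac (V : (Proj 𝒜).Opens) {f g : A} (hf : f ∈ 𝒜 1) (hg : g ∈ 𝒜 1)
    (hVf : V ≤ Proj.basicOpen 𝒜 f) (hVg : V ≤ Proj.basicOpen 𝒜 g) (a b : ℕ) : Γ(Proj 𝒜, V) :=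
  frac 𝒜 V (mono_mem 𝒜 hf hg a b) (mono_mem 𝒜 hg hf a b) (mono_notMem 𝒜 hVf hVg a b)

theorem mfrac_res {V V' : (Proj 𝒜).Opens} (h : V' ≤ V) {f g : A} (hf : f ∈ 𝒜 1) (hg : g ∈ 𝒜 1)
    (hVf : V ≤ Proj.basicOpen 𝒜 f) (hVg : V ≤ Proj.basicOpen 𝒜 g) (a b : ℕ) :
    (Proj 𝒜).presheaf.map (homOfLE h).op (mfrac 𝒜 V hf hg hVf hVg a b) =
      mfrac 𝒜 V' hf hg (h.trans hVf) (h.trans hVg) a b := rfl

theorem mfrac_eq_of {V : (Proj 𝒜).Opens} {f g : A} (hf : f ∈ 𝒜 1) (hg : g ∈ 𝒜 1)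
    (hVf : V ≤ Proj.basicOpen 𝒜 f) (hVg : V ≤ Proj.basicOpen 𝒜 g) {a b a' b' : ℕ}
    (h : a + b' = a' + b) :
    mfrac 𝒜 V hf hg hVf hVg a b = mfrac 𝒜 V hf hg hVf hVg a' b' := by
  unfold mfrac
  refine frac_eq_of 𝒜 _ _ _ _ _ _ ?_
  calc g ^ a * f ^ b * (f ^ a' * g ^ b') = g ^ (a + b') * f ^ (a' + b) := by ring
    _ = g ^ (a' + b) * f ^ (a + b') := by rw [h]
    _ = g ^ a' * f ^ b' * (f ^ a * g ^ b) := by ring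

theorem mfrac_mul {V : (Proj 𝒜).Opens} {f g : A} (hf : f ∈ 𝒜 1) (hg : g ∈ 𝒜 1)
    (hVf : V ≤ Proj.basicOpen 𝒜 f) (hVg : V ≤ Proj.basicOpen 𝒜 g) (a b a' b' : ℕ) :
    mfrac 𝒜 V hf hg hVf hVg a b * mfrac 𝒜 V hf hg hVf hVg a' b' =
      mfrac 𝒜 V hf hg hVf hVg (a + a') (b + b') := by
  unfold mfrac
  rw [frac_mul]
  refine frac_eq_of 𝒜 _ _ _ _ _ _ ?_
  ring

theorem mfrac_diag {V : (Proj 𝒜).Opens} {f g : A} (hf : f ∈ 𝒜 1) (hg : g ∈ 𝒜 1)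
    (hVf : V ≤ Proj.basicOpen 𝒜 f) (hVg : V ≤ Proj.basicOpen 𝒜 g) (a : ℕ) :
    mfrac 𝒜 V hf hg hVf hVg a a = 1 := by
  unfold mfrac
  rw [← frac_self 𝒜 (mono_mem 𝒜 hg hf a a) (mono_notMem 𝒜 hVf hVg a a)]
  refine frac_eq_of 𝒜 _ _ _ _ _ _ ?_
  ring

theorem mfrac_same {V : (Proj 𝒜).Opens} {f : A} (hf : f ∈ 𝒜 1)
    (hVf : V ≤ Proj.basicOpen 𝒜 f) (a b : ℕ) :
    mfrac 𝒜 V hf hf hVf hVf a b = 1 := by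
  unfold mfrac
  exact frac_self 𝒜 _ _

theorem mfrac_swap {V : (Proj 𝒜).Opens} {f g : A} (hf : f ∈ 𝒜 1) (hg : g ∈ 𝒜 1)
    (hVf : V ≤ Proj.basicOpen 𝒜 f) (hVg : V ≤ Proj.basicOpen 𝒜 g) (a b : ℕ) :
    mfrac 𝒜 V hf hg hVf hVg a b * mfrac 𝒜 V hg hf hVg hVf a b = 1 := by
  unfold mfrac
  rw [frac_mul, ← frac_self 𝒜 (SetLike.mul_mem_graded (mono_mem 𝒜 hg hf a b) (mono_mem 𝒜 hf hg a b))
    (fun x h => (x.1.isPrime.mem_or_mem h).elim (mono_notMem 𝒜 hVf hVg a b x)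
      (mono_notMem 𝒜 hVg hVf a b x))]
  refine frac_eq_of 𝒜 _ _ _ _ _ _ ?_
  ring

theorem mfrac_trans {V : (Proj 𝒜).Opens} {f g h : A} (hf : f ∈ 𝒜 1) (hg : g ∈ 𝒜 1)
    (hh : h ∈ 𝒜 1) (hVf : V ≤ Proj.basicOpen 𝒜 f) (hVg : V ≤ Proj.basicOpen 𝒜 g)
    (hVh : V ≤ Proj.basicOpen 𝒜 h) (a b : ℕ) :
    mfrac 𝒜 V hf hh hVf hVh a b =
      mfrac 𝒜 V hg hh hVg hVh a b * mfrac 𝒜 V hf hg hVf hVg a b := by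
  unfold mfrac
  rw [frac_mul]
  refine frac_eq_of 𝒜 _ _ _ _ _ _ ?_
  ring

theorem uN_res_eq_mfrac {V : (Proj 𝒜).Opens} {f g : A} (hf : f ∈ 𝒜 1) (hg : g ∈ 𝒜 1)
    (hV : V ≤ Proj.basicOpen 𝒜 f ⊓ Proj.basicOpen 𝒜 g) (n : ℤ) :
    (Proj 𝒜).presheaf.map (homOfLE hV).op (uN 𝒜 hf hg n) =
      mfrac 𝒜 V hf hg (hV.trans inf_le_left) (hV.trans inf_le_right) (na n) (nb n) := by
  unfold uN mfrac
  rw [frac_res]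
  refine frac_eq_of 𝒜 _ _ _ _ _ _ ?_
  ring

/-- `(g/f)^m` for an integer `m`. -/
def zfrac (V : (Proj 𝒜).Opens) {f g : A} (hf : f ∈ 𝒜 1) (hg : g ∈ 𝒜 1)
    (hVf : V ≤ Proj.basicOpen 𝒜 f) (hVg : V ≤ Proj.basicOpen 𝒜 g) (m : ℤ) : Γ(Proj 𝒜, V) :=
  mfrac 𝒜 V hf hg hVf hVg (na m) (nb m)

theorem mfrac_eq_zfrac {V : (Proj 𝒜).Opens} {f g : A} (hf : f ∈ 𝒜 1) (hg : g ∈ 𝒜 1)
    (hVf : V ≤ Proj.basicOpen 𝒜 f) (hVg : V ≤ Proj.basicOpen 𝒜 g) (a b : ℕ) (m : ℤ)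
    (h : (a : ℤ) = b + m) :
    mfrac 𝒜 V hf hg hVf hVg a b = zfrac 𝒜 V hf hg hVf hVg m := by
  unfold zfrac
  apply mfrac_eq_of
  have := na_eq m
  omega

theorem zfrac_res {V V' : (Proj 𝒜).Opens} (h : V' ≤ V) {f g : A} (hf : f ∈ 𝒜 1) (hg : g ∈ 𝒜 1)
    (hVf : V ≤ Proj.basicOpen 𝒜 f) (hVg : V ≤ Proj.basicOpen 𝒜 g) (m : ℤ) :
    (Proj 𝒜).presheaf.map (homOfLE h).op (zfrac 𝒜 V hf hg hVf hVg m) =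
      zfrac 𝒜 V' hf hg (h.trans hVf) (h.trans hVg) m := rfl

theorem zfrac_same {V : (Proj 𝒜).Opens} {f : A} (hf : f ∈ 𝒜 1)
    (hVf hVf' : V ≤ Proj.basicOpen 𝒜 f) (m : ℤ) :
    zfrac 𝒜 V hf hf hVf hVf' m = 1 := mfrac_same 𝒜 hf hVf _ _

theorem zfrac_swap {V : (Proj 𝒜).Opens} {f g : A} (hf : f ∈ 𝒜 1) (hg : g ∈ 𝒜 1)
    (hVf : V ≤ Proj.basicOpen 𝒜 f) (hVg : V ≤ Proj.basicOpen 𝒜 g) (m : ℤ) :
    zfrac 𝒜 V hg hf hVg hVf m * zfrac 𝒜 V hf hg hVf hVg m = 1 :=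
  mfrac_swap 𝒜 hg hf hVg hVf _ _

theorem zfrac_mul_cancel {V : (Proj 𝒜).Opens} {f g : A} (hf : f ∈ 𝒜 1) (hg : g ∈ 𝒜 1)
    (hVf : V ≤ Proj.basicOpen 𝒜 f) (hVg : V ≤ Proj.basicOpen 𝒜 g) (m : ℤ)
    {a b : Γ(Proj 𝒜, V)}
    (h : zfrac 𝒜 V hf hg hVf hVg m * a = zfrac 𝒜 V hf hg hVf hVg m * b) : a = b := by
  have hu := zfrac_swap 𝒜 hf hg hVf hVg m
  calc a = (zfrac 𝒜 V hg hf hVg hVf m * zfrac 𝒜 V hf hg hVf hVg m) * a := by rw [hu, one_mul]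
    _ = zfrac 𝒜 V hg hf hVg hVf m * (zfrac 𝒜 V hf hg hVf hVg m * a) := mul_assoc _ _ _
    _ = zfrac 𝒜 V hg hf hVg hVf m * (zfrac 𝒜 V hf hg hVf hVg m * b) := by rw [h]
    _ = b := by rw [← mul_assoc, hu, one_mul]

theorem zfrac_trans {V : (Proj 𝒜).Opens} {f g h : A} (hf : f ∈ 𝒜 1) (hg : g ∈ 𝒜 1)
    (hh : h ∈ 𝒜 1) (hVf : V ≤ Proj.basicOpen 𝒜 f) (hVg : V ≤ Proj.basicOpen 𝒜 g)
    (hVh : V ≤ Proj.basicOpen 𝒜 h) (m : ℤ) :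
    zfrac 𝒜 V hf hh hVf hVh m =
      zfrac 𝒜 V hg hh hVg hVh m * zfrac 𝒜 V hf hg hVf hVg m :=
  mfrac_trans 𝒜 hf hg hh hVf hVg hVh _ _

theorem zfrac_add_nat {V : (Proj 𝒜).Opens} {f g : A} (hf : f ∈ 𝒜 1) (hg : g ∈ 𝒜 1)
    (hVf : V ≤ Proj.basicOpen 𝒜 f) (hVg : V ≤ Proj.basicOpen 𝒜 g) (m : ℤ) (e : ℕ) :
    zfrac 𝒜 V hf hg hVf hVg (m + e) =
      mfrac 𝒜 V hf hg hVf hVg e 0 * zfrac 𝒜 V hf hg hVf hVg m := by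
  unfold zfrac
  rw [mfrac_mul]
  apply mfrac_eq_of
  have h1 := na_eq m
  have h2 := na_eq (m + e)
  omega

theorem uN_eq_zfrac {f g : A} (hf : f ∈ 𝒜 1) (hg : g ∈ 𝒜 1) (n : ℤ) :
    uN 𝒜 hf hg n = zfrac 𝒜 (Proj.basicOpen 𝒜 f ⊓ Proj.basicOpen 𝒜 g) hf hg inf_le_left
      inf_le_right n := by
  unfold uN zfrac mfrac
  refine frac_eq_of 𝒜 _ _ _ _ _ _ ?_
  ring

/-- The constant `r` as a section. -/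
def cst (V : (Proj 𝒜).Opens) (r : R) : Γ(Proj 𝒜, V) :=
  frac 𝒜 V (SetLike.algebraMap_mem_graded 𝒜 r) (SetLike.one_mem_graded 𝒜)
    (fun x h => x.1.isPrime.ne_top ((Ideal.eq_top_iff_one _).mpr h))

theorem cst_res {V V' : (Proj 𝒜).Opens} (h : V' ≤ V) (r : R) :
    (Proj 𝒜).presheaf.map (homOfLE h).op (cst 𝒜 V r) = cst 𝒜 V' r := rfl

theorem cst_mul (V : (Proj 𝒜).Opens) (r s : R) : cst 𝒜 V r * cst 𝒜 V s = cst 𝒜 V (r * s) := by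
  unfold cst
  rw [frac_mul]
  refine frac_eq_of 𝒜 _ _ _ _ _ _ ?_
  rw [map_mul]
  ring

theorem cst_one (V : (Proj 𝒜).Opens) : cst 𝒜 V (1 : R) = 1 := by
  unfold cst
  rw [← frac_self 𝒜 (SetLike.one_mem_graded 𝒜)
    (fun x h => x.1.isPrime.ne_top ((Ideal.eq_top_iff_one _).mpr h))]
  refine frac_eq_of 𝒜 _ _ _ _ _ _ ?_
  rw [map_one]

theorem isUnit_cst (V : (Proj 𝒜).Opens) {r : R} (hr : IsUnit r) : IsUnit (cst 𝒜 V r) := by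
  obtain ⟨s, hs⟩ := hr.exists_right_inv
  exact IsUnit.of_mul_eq_one (cst 𝒜 V s) (by rw [cst_mul, hs, cst_one])

end Groth.Agent.H88.MonoFrac
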