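import Groth.Agent.H69.PicUFD
import Groth.Agent.H22.PullGen

/-!
# Invertible modules on a scheme isomorphic to the spectrum of a UFD are trivial
(transport of helper69's `PicUFD.nonempty_iso_structureModule` along an isomorphism)
-/

set_option autoImplicit false
universe u

open CategoryTheory AlgebraicGeometry TopologicalSpace Opposite

noncomputable section

namespace Groth.Agent.H88.PicAffUFD

theorem nonempty_iso_structureModule_of_iso_spec {Y : Scheme.{u}} (S : CommRingCat.{u})
    [IsDomain S] [UniqueFactorizationMonoid S] (e : Y ≅ Spec S) (N : Y.Modules)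
    (hN : PicF.IsInvertible N) : Nonempty (N ≅ Coh.structureModule Y) := by
  let T : (Spec S).Opens := ⊤
  let f : (T : Scheme.{u}) ⟶ Y := T.ι ≫ e.inv
  let g : Y ⟶ (T : Scheme.{u}) := e.hom ≫ (Scheme.topIso (Spec S)).inv
  have hgf : g ≫ f = 𝟙 Y := by
    simp only [f, g, Category.assoc]
    rw [← Scheme.topIso_hom, Iso.inv_hom_id_assoc, Iso.hom_inv_id]
  have hN' := Groth.Agent.H22.PullGen.isInvertible_pullback f hN
  obtain ⟨φ⟩ := Groth.Agent.H69.PicUFD.nonempty_iso_structureModule T
    ((Scheme.Modules.pullback f).obj N) hN'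
  exact ⟨((Scheme.Modules.pullbackId (X := Y)).app N).symm ≪≫
    ((Scheme.Modules.pullbackCongr hgf).app N).symm ≪≫
    ((Scheme.Modules.pullbackComp g f).app N).symm ≪≫
    (Scheme.Modules.pullback g).mapIso φ ≪≫ Groth.Agent.H22.PullGen.pullbackUnitIso g⟩

end Groth.Agent.H88.PicAffUFD
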