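import Groth.Agent.H88.ProjChart
import Groth.Agent.H88.PicAffUFD
import Groth.Agent.H88.MonoFrac
import Groth.Agent.H18.HomOfGens
import Groth.Agent.H18.IsoOfGen
import Groth.Agent.H8.InvRestrict
import Groth.Agent.S3557

/-!
# Invertible modules on projective space over a UFD are twists
-/

set_option autoImplicit false
universe u

noncomputable section

namespace Groth.Agent.H88.PicPn

open CategoryTheory AlgebraicGeometry Opposite TopologicalSpace
open Groth.Agent.H8 (res_res res_smul)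
open Groth.Agent.H18.Serre
open Groth.Agent.H18.TensorGen (IsGen)
open Groth.Agent.H18.ProjUPSym Groth.Agent.H18.ProjUPUniq
open Groth.Agent.H88.TwistGenN Groth.Agent.H88.MonoFrac Groth.Agent.H88.ProjChart

section General

variable {R A : Type u} [CommRing R] [CommRing A] [Algebra R A] (𝒜 : ℕ → Submodule R A)
  [GradedAlgebra 𝒜]

set_option backward.isDefEq.respectTransparency false in
theorem awayToSection_constMapG (g : A) (r : R) :
    (Proj.awayToSection 𝒜 g).hom (constMapG 𝒜 g r) = cst 𝒜 (Proj.basicOpen 𝒜 g) r := by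
  refine ext_val 𝒜 (fun y => ?_)
  apply HomogeneousLocalization.val_injective
  have h1 := ProjectiveSpectrum.Proj.awayToSection_apply 𝒜 g (constMapG 𝒜 g r) y
  refine h1.trans ?_
  show IsLocalization.map _ (RingHom.id A) _ (Localization.mk (algebraMap R A r) 1) = _
  rw [Localization.mk_eq_mk', IsLocalization.map_mk', ← Localization.mk_eq_mk']
  rfl

set_option backward.isDefEq.respectTransparency false in
theorem uSecG_eq_frac {g h : A} (hg : g ∈ 𝒜 1) (hh : h ∈ 𝒜 1) :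
    uSecG 𝒜 hg hh = frac 𝒜 (Proj.basicOpen 𝒜 g) hh hg
      (fun y => notMem_of_mem_basicOpen 𝒜 y) := by
  refine ext_val 𝒜 (fun y => ?_)
  apply HomogeneousLocalization.val_injective
  exact uSecG_val 𝒜 hg hh y

theorem mfrac_pow_one_zero {V : (Proj 𝒜).Opens} {f g : A} (hf : f ∈ 𝒜 1) (hg : g ∈ 𝒜 1)
    (hVf : V ≤ Proj.basicOpen 𝒜 f) (hVg : V ≤ Proj.basicOpen 𝒜 g) (k : ℕ) :
    mfrac 𝒜 V hf hg hVf hVg 1 0 ^ k = mfrac 𝒜 V hf hg hVf hVg k 0 := by
  induction k with
  | zero => rw [pow_zero, mfrac_diag]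
  | succ k ih => rw [pow_succ, ih, mfrac_mul]

end General

section Gen

variable {X : Scheme.{u}} {L : X.Modules}

theorem IsGen.exists_smul {V W : X.Opens} {μ : Γ(L, V)} (hμ : IsGen L V μ) (hW : W ≤ V)
    (t : Γ(L, W)) : ∃ r : Γ(X, W), r • L.presheaf.map (homOfLE hW).op μ = t := (hμ W hW).2 t

theorem IsGen.smul_cancel {V W : X.Opens} {μ : Γ(L, V)} (hμ : IsGen L V μ) (hW : W ≤ V)
    {r r' : Γ(X, W)}
    (h : r • L.presheaf.map (homOfLE hW).op μ = r' • L.presheaf.map (homOfLE hW).op μ) :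
    r = r' := (hμ W hW).1 h

theorem IsGen.unit_smul {V : X.Opens} {μ : Γ(L, V)} (hμ : IsGen L V μ) (c : Γ(X, V))
    (hc : IsUnit c) : IsGen L V (c • μ) := by
  intro V' h
  have hc' : IsUnit (X.presheaf.map (homOfLE h).op c) := hc.map _
  have he : (fun r : Γ(X, V') => r • L.presheaf.map (homOfLE h).op (c • μ)) =
      (fun r : Γ(X, V') => r • L.presheaf.map (homOfLE h).op μ) ∘
        (fun r => r * X.presheaf.map (homOfLE h).op c) := by
    funext r
    rw [Function.comp_apply, res_smul, mul_smul]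
  rw [he]
  obtain ⟨u, hu⟩ := hc'
  have hb : Function.Bijective
      (fun r : Γ(X, V') => r * X.presheaf.map (homOfLE h).op c) := by
    rw [← hu]
    exact (Units.mulRight u).bijective
  exact (hμ V' h).comp hb

theorem IsGen.isUnit_of_eq_smul {V V' W : X.Opens} {μ : Γ(L, V)} {ν : Γ(L, V')}
    (hμ : IsGen L V μ) (hν : IsGen L V' ν) (hW : W ≤ V) (hW' : W ≤ V') {h : Γ(X, W)}
    (hh : L.presheaf.map (homOfLE hW').op ν = h • L.presheaf.map (homOfLE hW).op μ) :
    IsUnit h := by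
  obtain ⟨h', hh'⟩ := IsGen.exists_smul hν hW' (L.presheaf.map (homOfLE hW).op μ)
  have h1 : h' * h = 1 := by
    apply IsGen.smul_cancel hμ hW
    rw [mul_smul, ← hh, hh', one_smul]
  exact IsUnit.of_mul_eq_one h' (by rw [mul_comm]; exact h1)

end Gen

section Poly

variable (n : ℕ) (R : Type u) [CommRing R] [IsDomain R]

/-- the chart `D₊(X i)` -/
abbrev U (i : Fin (n + 1)) : (Proj (CohB1.polyGrading n R)).Opens :=
  Proj.basicOpen (CohB1.polyGrading n R) (MvPolynomial.X i : MvPolynomial (Fin (n + 1)) R)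

/-- sections over the chart are the polynomial ring -/
def Θ (i : Fin (n + 1)) : Q n R i ≃+* Γ(Proj (CohB1.polyGrading n R), U n R i) :=
  (chartEquiv n R i).trans
    (Proj.basicOpenIsoAway (CohB1.polyGrading n R) (MvPolynomial.X i) (hT n R i)
      Nat.one_pos).commRingCatIsoToRingEquiv

theorem Θ_X (i : Fin (n + 1)) (j : {j : Fin (n + 1) // j ≠ i}) :
    Θ n R i (MvPolynomial.X j) = uSecG (CohB1.polyGrading n R) (hT n R i) (hT n R j.1) := by
  show (Proj.basicOpenIsoAway (CohB1.polyGrading n R) (MvPolynomial.X i) (hT n R i)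
      Nat.one_pos).hom.hom (chartEquiv n R i (MvPolynomial.X j)) = _
  rw [chartEquiv_X]
  rfl

theorem Θ_C (i : Fin (n + 1)) (r : R) :
    Θ n R i (MvPolynomial.C r) = cst (CohB1.polyGrading n R) (U n R i) r := by
  show (Proj.basicOpenIsoAway (CohB1.polyGrading n R) (MvPolynomial.X i) (hT n R i)
      Nat.one_pos).hom.hom (chartEquiv n R i (MvPolynomial.C r)) = _
  rw [chartEquiv_C]
  exact awayToSection_constMapG (CohB1.polyGrading n R) (MvPolynomial.X i) r

set_option backward.isDefEq.respectTransparency false in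
/-- Units on `D₊(X i) ∩ D₊(X 0)` are constants times powers of `X 0 / X i`. -/
theorem unit_overlap_aux (i : Fin (n + 1)) (hi : i ≠ 0)
    (W : (Proj (CohB1.polyGrading n R)).Opens)
    (hW : W = (Proj (CohB1.polyGrading n R)).basicOpen
      (uSecG (CohB1.polyGrading n R) (hT n R i) (hT n R 0)))
    (hWi : W ≤ U n R i) (hW0 : W ≤ U n R 0)
    (s : Γ(Proj (CohB1.polyGrading n R), W)) (hs : IsUnit s) :
    ∃ r : R, IsUnit r ∧ ∃ m : ℤ, s = cst (CohB1.polyGrading n R) W r *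
      zfrac (CohB1.polyGrading n R) W (hT n R i) (hT n R 0) hWi hW0 m := by
  have hU : IsAffineOpen (U n R i) :=
    Proj.isAffineOpen_basicOpen (CohB1.polyGrading n R) (MvPolynomial.X i) (hT n R i) Nat.one_pos
  have key : ∀ (W' : (Proj (CohB1.polyGrading n R)).Opens)
      (_ : W' = (Proj (CohB1.polyGrading n R)).basicOpen
        (uSecG (CohB1.polyGrading n R) (hT n R i) (hT n R 0))) (hW'i : W' ≤ U n R i),
      @IsLocalization.Away _ _ (uSecG (CohB1.polyGrading n R) (hT n R i) (hT n R 0))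
        Γ(Proj (CohB1.polyGrading n R), W') _
        ((Proj (CohB1.polyGrading n R)).presheaf.map (homOfLE hW'i).op).hom.toAlgebra := by
    intro W' hW' hW'i
    subst hW'
    exact hU.isLocalization_basicOpen _
  letI : Algebra Γ(Proj (CohB1.polyGrading n R), U n R i) Γ(Proj (CohB1.polyGrading n R), W) :=
    ((Proj (CohB1.polyGrading n R)).presheaf.map (homOfLE hWi).op).hom.toAlgebra
  haveI := key W hW hWi
  haveI : IsDomain Γ(Proj (CohB1.polyGrading n R), U n R i) :=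
    MulEquiv.isDomain (Q n R i) (Θ n R i).symm.toMulEquiv
  have hprime : Prime (uSecG (CohB1.polyGrading n R) (hT n R i) (hT n R 0)) := by
    rw [← Θ_X n R i ⟨0, hi.symm⟩]
    exact (MulEquiv.prime_iff (Θ n R i)).mpr (MvPolynomial.X_prime)
  obtain ⟨c, hc, k, l, hkl⟩ := unit_away_prime hprime s hs
  have hc' : IsUnit ((Θ n R i).symm c) := hc.map (Θ n R i).symm
  obtain ⟨r, hr, hcr⟩ := MvPolynomial.isUnit_iff_eq_C_of_isReduced.mp hc'
  have hcr' : c = cst (CohB1.polyGrading n R) (U n R i) r := by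
    rw [← Θ_C, ← hcr, RingEquiv.apply_symm_apply]
  refine ⟨r, hr, (l : ℤ) - k, ?_⟩
  have hx : algebraMap Γ(Proj (CohB1.polyGrading n R), U n R i)
      Γ(Proj (CohB1.polyGrading n R), W)
      (uSecG (CohB1.polyGrading n R) (hT n R i) (hT n R 0)) =
      mfrac (CohB1.polyGrading n R) _ (hT n R i) (hT n R 0) hWi hW0 1 0 := by
    show (Proj (CohB1.polyGrading n R)).presheaf.map (homOfLE hWi).op _ = _
    rw [uSecG_eq_frac, frac_res]
    unfold mfrac
    refine frac_eq_of _ _ _ _ _ _ _ ?_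
    ring
  have hcst : algebraMap Γ(Proj (CohB1.polyGrading n R), U n R i)
      Γ(Proj (CohB1.polyGrading n R), W) c =
      cst (CohB1.polyGrading n R) _ r := by
    show (Proj (CohB1.polyGrading n R)).presheaf.map (homOfLE hWi).op _ = _
    rw [hcr', cst_res]
  rw [hx, hcst, mfrac_pow_one_zero, mfrac_pow_one_zero] at hkl
  have h1 : s = s * mfrac (CohB1.polyGrading n R) _ (hT n R i) (hT n R 0) hWi hW0 k 0 *
      mfrac (CohB1.polyGrading n R) _ (hT n R i) (hT n R 0) hWi hW0 0 k := by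
    rw [mul_assoc, mfrac_mul, add_zero, zero_add, mfrac_diag, mul_one]
  rw [h1, hkl, mul_assoc, mfrac_mul, add_zero, zero_add]
  congr 1
  apply mfrac_eq_zfrac
  ring

/-- the generic point -/
def η : Proj (CohB1.polyGrading n R) :=
  (⟨⊥, by rw [HomogeneousIdeal.toIdeal_bot]; exact Ideal.isPrime_bot, fun h => by
    have h1 : (MvPolynomial.X 0 : MvPolynomial (Fin (n + 1)) R) ∈
        (⊥ : HomogeneousIdeal (CohB1.polyGrading n R)).toIdeal :=
      h (HomogeneousIdeal.mem_irrelevant_of_mem _ Nat.one_pos (hT n R 0))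
    rw [HomogeneousIdeal.toIdeal_bot, Ideal.mem_bot] at h1
    exact MvPolynomial.X_ne_zero 0 h1⟩ : ProjectiveSpectrum (CohB1.polyGrading n R))

theorem η_mem (i : Fin (n + 1)) : η n R ∈ U n R i := by
  refine (ProjectiveSpectrum.mem_basicOpen _ _ _).mpr ?_
  show (MvPolynomial.X i : MvPolynomial (Fin (n + 1)) R) ∉
    (⊥ : HomogeneousIdeal (CohB1.polyGrading n R)).toIdeal
  rw [HomogeneousIdeal.toIdeal_bot, Ideal.mem_bot]
  exact MvPolynomial.X_ne_zero i

/-- the generic point of the hyperplane `X 0 = 0` -/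
def ξ (hn : ∃ k : Fin (n + 1), k ≠ 0) : Proj (CohB1.polyGrading n R) :=
  (⟨⟨Ideal.span {(MvPolynomial.X 0 : MvPolynomial (Fin (n + 1)) R)},
      Ideal.homogeneous_span _ _ (fun x hx => by
        rw [Set.mem_singleton_iff] at hx
        subst hx
        exact ⟨1, hT n R 0⟩)⟩,
    (Ideal.span_singleton_prime (MvPolynomial.X_ne_zero 0)).mpr MvPolynomial.X_prime,
    fun h => by
      obtain ⟨k, hk⟩ := hn
      have h1 : (MvPolynomial.X k : MvPolynomial (Fin (n + 1)) R) ∈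
          Ideal.span {(MvPolynomial.X 0 : MvPolynomial (Fin (n + 1)) R)} :=
        h (HomogeneousIdeal.mem_irrelevant_of_mem _ Nat.one_pos (hT n R k))
      rw [Ideal.mem_span_singleton, MvPolynomial.X_dvd_X] at h1
      exact hk h1.symm⟩ : ProjectiveSpectrum (CohB1.polyGrading n R))

theorem ξ_mem (hn : ∃ k : Fin (n + 1), k ≠ 0) (i : Fin (n + 1)) (hi : i ≠ 0) :
    ξ n R hn ∈ U n R i := by
  refine (ProjectiveSpectrum.mem_basicOpen _ _ _).mpr ?_
  show (MvPolynomial.X i : MvPolynomial (Fin (n + 1)) R) ∉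
    Ideal.span {(MvPolynomial.X 0 : MvPolynomial (Fin (n + 1)) R)}
  rw [Ideal.mem_span_singleton, MvPolynomial.X_dvd_X]
  exact fun h => hi h.symm

theorem X0_mem_ξ (hn : ∃ k : Fin (n + 1), k ≠ 0) :
    (MvPolynomial.X 0 : MvPolynomial (Fin (n + 1)) R) ∈ (ξ n R hn).asHomogeneousIdeal :=
  Ideal.subset_span rfl

theorem isIntegral_proj : IsIntegral (Proj (CohB1.polyGrading n R)) := by
  refine (Groth.Agent.S3557.result (CohB1.polyGrading n R) ?_).mpr ⟨?_, ?_⟩
  · intro f _ hf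
    exact hf.eq_zero
  · exact ⟨MvPolynomial.X 0, HomogeneousIdeal.mem_irrelevant_of_mem _ Nat.one_pos (hT n R 0),
      MvPolynomial.X_ne_zero 0⟩
  · intro f _ g _ hfg
    exact mul_eq_zero.mp hfg

/-- restriction of functions to an open containing the generic point is injective -/
theorem res_injective {V W : (Proj (CohB1.polyGrading n R)).Opens} (h : V ≤ W)
    (hV : η n R ∈ V) :
    Function.Injective ((Proj (CohB1.polyGrading n R)).presheaf.map (homOfLE h).op) := by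
  haveI := isIntegral_proj n R
  haveI : Nonempty V := ⟨⟨η n R, hV⟩⟩
  exact map_injective_of_isIntegral (Proj (CohB1.polyGrading n R)) (homOfLE h)

/-- `(X 0 / X i)^k` on an open inside `U i`. -/
def xpow (i : Fin (n + 1)) (W : (Proj (CohB1.polyGrading n R)).Opens) (hW : W ≤ U n R i)
    (k : ℕ) : Γ(Proj (CohB1.polyGrading n R), W) :=
  frac (CohB1.polyGrading n R) W (TwistGenN.pow_mem_one (CohB1.polyGrading n R) (hT n R 0) k)
    (TwistGenN.pow_mem_one (CohB1.polyGrading n R) (hT n R i) k)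
    (fun x => pow_notMem (CohB1.polyGrading n R)
      (notMem_of_mem_basicOpen (CohB1.polyGrading n R) ⟨x.1, hW x.2⟩) k)

theorem xpow_res (i : Fin (n + 1)) {V W : (Proj (CohB1.polyGrading n R)).Opens} (hVW : V ≤ W)
    (hW : W ≤ U n R i) (hV0 : V ≤ U n R 0) (k : ℕ) :
    (Proj (CohB1.polyGrading n R)).presheaf.map (homOfLE hVW).op (xpow n R i W hW k) =
      mfrac (CohB1.polyGrading n R) V (hT n R i) (hT n R 0) (hVW.trans hW) hV0 k 0 := by
  unfold xpow mfrac
  rw [frac_res]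
  refine frac_eq_of (CohB1.polyGrading n R) _ _ _ _ _ _ ?_
  ring

theorem not_isUnit_xpow (hn : ∃ k : Fin (n + 1), k ≠ 0) (i : Fin (n + 1))
    (W : (Proj (CohB1.polyGrading n R)).Opens) (hW : W ≤ U n R i) (hξ : ξ n R hn ∈ W)
    (k : ℕ) (hk : 0 < k) : ¬ IsUnit (xpow n R i W hW k) := by
  intro hu
  have h1 : (Proj (CohB1.polyGrading n R)).basicOpen (xpow n R i W hW k) = W :=
    Scheme.basicOpen_of_isUnit _ hu
  have h2 : ξ n R hn ∈ (Proj (CohB1.polyGrading n R)).basicOpen (xpow n R i W hW k) := by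
    rw [h1]; exact hξ
  unfold xpow at h2
  rw [mem_basicOpen_frac] at h2
  have h3 : (MvPolynomial.X 0 : MvPolynomial (Fin (n + 1)) R) ^ k ∈
      (ξ n R hn).asHomogeneousIdeal.toIdeal :=
    Ideal.pow_mem_of_mem _ (X0_mem_ξ n R hn) k hk
  exact h2.2 h3

theorem exists_gen [UniqueFactorizationMonoid R] (L : (Proj (CohB1.polyGrading n R)).Modules)
    (hL : PicF.IsInvertible L) (i : Fin (n + 1)) :
    ∃ ℓ : Γ(L, U n R i), IsGen L (U n R i) ℓ := by
  haveI : IsDomain (B n R i) := MulEquiv.isDomain (Q n R i) (chartEquiv n R i).symm.toMulEquiv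
  haveI : UniqueFactorizationMonoid (B n R i) :=
    MulEquiv.uniqueFactorizationMonoid (chartEquiv n R i).toMulEquiv inferInstance
  haveI : IsDomain (CommRingCat.of (B n R i)) := inferInstanceAs (IsDomain (B n R i))
  haveI : UniqueFactorizationMonoid (CommRingCat.of (B n R i)) :=
    inferInstanceAs (UniqueFactorizationMonoid (B n R i))
  obtain ⟨φ⟩ := Groth.Agent.H88.PicAffUFD.nonempty_iso_structureModule_of_iso_spec
    (CommRingCat.of (B n R i))
    (Proj.basicOpenIsoSpec (CohB1.polyGrading n R) (MvPolynomial.X i) (hT n R i) Nat.one_pos)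
    (L.restrict (U n R i).ι) (Groth.Agent.H8.isInvertible_restrict (U n R i).ι hL)
  exact Groth.Agent.H22.GenLocus.exists_generator L (U n R i) φ

section Transition

variable (L : (Proj (CohB1.polyGrading n R)).Modules) {ℓ : ∀ k, Γ(L, U n R k)}
  (hℓ : ∀ k, IsGen L (U n R k) (ℓ k)) (m : Fin (n + 1) → ℤ)
  (hK : ∀ k, L.presheaf.map (homOfLE (inf_le_right : U n R k ⊓ U n R 0 ≤ U n R 0)).op (ℓ 0) =
    zfrac (CohB1.polyGrading n R) (U n R k ⊓ U n R 0) (hT n R k) (hT n R 0) inf_le_left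
      inf_le_right (m k) •
      L.presheaf.map (homOfLE (inf_le_left : U n R k ⊓ U n R 0 ≤ U n R k)).op (ℓ k))

include hℓ hK in
theorem star (i j : Fin (n + 1)) (h : Γ(Proj (CohB1.polyGrading n R), U n R i ⊓ U n R j))
    (hh : L.presheaf.map (homOfLE (inf_le_right : U n R i ⊓ U n R j ≤ U n R j)).op (ℓ j) =
      h • L.presheaf.map (homOfLE (inf_le_left : U n R i ⊓ U n R j ≤ U n R i)).op (ℓ i))
    (V : (Proj (CohB1.polyGrading n R)).Opens) (hVi : V ≤ U n R i) (hVj : V ≤ U n R j)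
    (hV0 : V ≤ U n R 0) :
    zfrac (CohB1.polyGrading n R) V (hT n R i) (hT n R 0) hVi hV0 (m i) =
      zfrac (CohB1.polyGrading n R) V (hT n R j) (hT n R 0) hVj hV0 (m j) *
        (Proj (CohB1.polyGrading n R)).presheaf.map (homOfLE (le_inf hVi hVj)).op h := by
  have h1 := congrArg (L.presheaf.map (homOfLE (le_inf hVi hV0 : V ≤ U n R i ⊓ U n R 0)).op)
    (hK i)
  have h2 := congrArg (L.presheaf.map (homOfLE (le_inf hVj hV0 : V ≤ U n R j ⊓ U n R 0)).op)
    (hK j)
  have h3 := congrArg (L.presheaf.map (homOfLE (le_inf hVi hVj : V ≤ U n R i ⊓ U n R j)).op) hh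
  rw [res_res, res_smul, res_res] at h1 h2 h3
  have h1' : L.presheaf.map (homOfLE hV0).op (ℓ 0) =
      zfrac (CohB1.polyGrading n R) V (hT n R i) (hT n R 0) hVi hV0 (m i) •
        L.presheaf.map (homOfLE hVi).op (ℓ i) := h1
  have h2' : L.presheaf.map (homOfLE hV0).op (ℓ 0) =
      zfrac (CohB1.polyGrading n R) V (hT n R j) (hT n R 0) hVj hV0 (m j) •
        L.presheaf.map (homOfLE hVj).op (ℓ j) := h2
  apply IsGen.smul_cancel (hℓ i) hVi
  rw [← h1', h2', h3, ← mul_smul]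

include hℓ hK in
theorem m_not_lt (i j : Fin (n + 1)) (hi : i ≠ 0) (hj : j ≠ 0)
    (h : Γ(Proj (CohB1.polyGrading n R), U n R i ⊓ U n R j))
    (hh : L.presheaf.map (homOfLE (inf_le_right : U n R i ⊓ U n R j ≤ U n R j)).op (ℓ j) =
      h • L.presheaf.map (homOfLE (inf_le_left : U n R i ⊓ U n R j ≤ U n R i)).op (ℓ i)) :
    ¬ m j < m i := by
  intro hlt
  obtain ⟨e, he⟩ := Int.lt.dest hlt
  have hVW : U n R i ⊓ U n R j ⊓ U n R 0 ≤ U n R i ⊓ U n R j := inf_le_left
  have hVi : U n R i ⊓ U n R j ⊓ U n R 0 ≤ U n R i := inf_le_left.trans inf_le_left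
  have hVj : U n R i ⊓ U n R j ⊓ U n R 0 ≤ U n R j := inf_le_left.trans inf_le_right
  have hV0 : U n R i ⊓ U n R j ⊓ U n R 0 ≤ U n R 0 := inf_le_right
  have hst := star n R L hℓ m hK i j h hh _ hVi hVj hV0
  rw [← he, zfrac_add_nat,
    zfrac_trans (CohB1.polyGrading n R) (hT n R i) (hT n R j) (hT n R 0) hVi hVj hV0 (m j),
    mul_left_comm] at hst
  have h4 := zfrac_mul_cancel (CohB1.polyGrading n R) (hT n R j) (hT n R 0) hVj hV0 (m j) hst
  have h5 : h = xpow n R i (U n R i ⊓ U n R j) inf_le_left (e + 1) *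
      zfrac (CohB1.polyGrading n R) (U n R i ⊓ U n R j) (hT n R i) (hT n R j) inf_le_left
        inf_le_right (m j) := by
    apply res_injective n R hVW ⟨⟨η_mem n R i, η_mem n R j⟩, η_mem n R 0⟩
    rw [map_mul, xpow_res n R i hVW inf_le_left hV0]
    exact h4.symm
  have hu : IsUnit h := IsGen.isUnit_of_eq_smul (hℓ i) (hℓ j) inf_le_left inf_le_right hh
  rw [h5] at hu
  exact not_isUnit_xpow n R ⟨i, hi⟩ i _ inf_le_left ⟨ξ_mem n R _ i hi, ξ_mem n R _ j hj⟩
    (e + 1) (Nat.succ_pos e) (isUnit_of_mul_isUnit_left hu)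

end Transition

theorem exists_iso_twist [UniqueFactorizationMonoid R]
    (L : (Proj (CohB1.polyGrading n R)).Modules) (hL : PicF.IsInvertible L) :
    ∃ d : ℤ, Nonempty (L ≅ Twist.twist (CohB1.polyGrading n R) d) := by
  choose ℓ₀ hℓ₀ using exists_gen n R L hL
  have K1 : ∀ k : Fin (n + 1), ∃ r : R, IsUnit r ∧ ∃ mk : ℤ, k ≠ 0 →
      L.presheaf.map (homOfLE (inf_le_right : U n R k ⊓ U n R 0 ≤ U n R 0)).op (ℓ₀ 0) =
      (cst (CohB1.polyGrading n R) (U n R k ⊓ U n R 0) r *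
        zfrac (CohB1.polyGrading n R) (U n R k ⊓ U n R 0) (hT n R k) (hT n R 0) inf_le_left
          inf_le_right mk) •
        L.presheaf.map (homOfLE (inf_le_left : U n R k ⊓ U n R 0 ≤ U n R k)).op (ℓ₀ k) := by
    intro k
    by_cases hk : k = 0
    · exact ⟨1, isUnit_one, 0, fun h => absurd hk h⟩
    · obtain ⟨g, hg⟩ := IsGen.exists_smul (hℓ₀ k) inf_le_left
        (L.presheaf.map (homOfLE (inf_le_right : U n R k ⊓ U n R 0 ≤ U n R 0)).op (ℓ₀ 0))
      have hgu : IsUnit g :=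
        IsGen.isUnit_of_eq_smul (hℓ₀ k) (hℓ₀ 0) inf_le_left inf_le_right hg.symm
      obtain ⟨r, hr, mk, hmk⟩ := unit_overlap_aux n R k hk (U n R k ⊓ U n R 0)
        (basicOpen_uSecG (CohB1.polyGrading n R) (hT n R k) (hT n R 0)).symm inf_le_left
        inf_le_right g hgu
      exact ⟨r, hr, mk, fun _ => by rw [← hmk]; exact hg.symm⟩
  choose r hr mm hmm using K1
  obtain ⟨d, hd⟩ : ∃ d : ℤ, ∀ c : Fin (n + 1), c ≠ 0 →
      ∃ c' : Fin (n + 1), c' ≠ 0 ∧ mm c' = d := by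
    by_cases hn : ∃ c : Fin (n + 1), c ≠ 0
    · obtain ⟨c, hc⟩ := hn
      exact ⟨mm c, fun _ _ => ⟨c, hc, rfl⟩⟩
    · exact ⟨0, fun c hc => absurd ⟨c, hc⟩ hn⟩
  obtain ⟨r', hr'0, hr'k⟩ : ∃ r' : Fin (n + 1) → R, r' 0 = 1 ∧ ∀ k, k ≠ 0 → r' k = r k :=
    ⟨fun k => if k = 0 then 1 else r k, if_pos rfl, fun k hk => if_neg hk⟩
  obtain ⟨m', hm'0, hm'k⟩ : ∃ m' : Fin (n + 1) → ℤ, m' 0 = d ∧ ∀ k, k ≠ 0 → m' k = mm k :=
    ⟨fun k => if k = 0 then d else mm k, if_pos rfl, fun k hk => if_neg hk⟩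
  have hr'u : ∀ k, IsUnit (r' k) := by
    intro k
    by_cases hk : k = 0
    · subst hk
      rw [hr'0]
      exact isUnit_one
    · rw [hr'k k hk]
      exact hr k
  obtain ⟨ℓ', hℓ'def⟩ : ∃ ℓ' : ∀ k, Γ(L, U n R k),
      ∀ k, ℓ' k = cst (CohB1.polyGrading n R) (U n R k) (r' k) • ℓ₀ k :=
    ⟨fun k => cst (CohB1.polyGrading n R) (U n R k) (r' k) • ℓ₀ k, fun k => rfl⟩
  have hℓ' : ∀ k, IsGen L (U n R k) (ℓ' k) := by
    intro k
    rw [hℓ'def k]
    exact IsGen.unit_smul (hℓ₀ k) _ (isUnit_cst (CohB1.polyGrading n R) _ (hr'u k))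
  have hK' : ∀ k,
      L.presheaf.map (homOfLE (inf_le_right : U n R k ⊓ U n R 0 ≤ U n R 0)).op (ℓ' 0) =
      zfrac (CohB1.polyGrading n R) (U n R k ⊓ U n R 0) (hT n R k) (hT n R 0) inf_le_left
        inf_le_right (m' k) •
        L.presheaf.map (homOfLE (inf_le_left : U n R k ⊓ U n R 0 ≤ U n R k)).op (ℓ' k) := by
    intro k
    by_cases hk : k = 0
    · subst hk
      rw [zfrac_same, one_smul]
    · have h0 : ℓ' 0 = ℓ₀ 0 := by rw [hℓ'def, hr'0, cst_one, one_smul]
      rw [h0, hℓ'def k, hr'k k hk, hm'k k hk, hmm k hk, res_smul, cst_res, ← mul_smul, mul_comm]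
  have hij : ∀ i j : Fin (n + 1), i ≠ 0 → j ≠ 0 → m' i = m' j := by
    intro i j hi hj
    obtain ⟨h, hh⟩ := IsGen.exists_smul (hℓ' i) inf_le_left
      (L.presheaf.map (homOfLE (inf_le_right : U n R i ⊓ U n R j ≤ U n R j)).op (ℓ' j))
    obtain ⟨h', hh'⟩ := IsGen.exists_smul (hℓ' j) inf_le_left
      (L.presheaf.map (homOfLE (inf_le_right : U n R j ⊓ U n R i ≤ U n R i)).op (ℓ' i))
    have a1 := m_not_lt n R L hℓ' m' hK' i j hi hj h hh.symm
    have a2 := m_not_lt n R L hℓ' m' hK' j i hj hi h' hh'.symm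
    omega
  have hall : ∀ k, m' k = d := by
    intro k
    by_cases hk : k = 0
    · subst hk
      exact hm'0
    · obtain ⟨c', hc', hd'⟩ := hd k hk
      rw [hij k c' hk hc', hm'k c' hc', hd']
  have hαu : ∀ i j,
      L.presheaf.map (homOfLE (inf_le_right : U n R i ⊓ U n R j ≤ U n R j)).op (ℓ' j) =
      uN (CohB1.polyGrading n R) (hT n R i) (hT n R j) d •
        L.presheaf.map (homOfLE (inf_le_left : U n R i ⊓ U n R j ≤ U n R i)).op (ℓ' i) := by
    intro i j
    obtain ⟨h, hh⟩ := IsGen.exists_smul (hℓ' i) inf_le_left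
      (L.presheaf.map (homOfLE (inf_le_right : U n R i ⊓ U n R j ≤ U n R j)).op (ℓ' j))
    have hVi : U n R i ⊓ U n R j ⊓ U n R 0 ≤ U n R i := inf_le_left.trans inf_le_left
    have hVj : U n R i ⊓ U n R j ⊓ U n R 0 ≤ U n R j := inf_le_left.trans inf_le_right
    have hV0 : U n R i ⊓ U n R j ⊓ U n R 0 ≤ U n R 0 := inf_le_right
    have hst := star n R L hℓ' m' hK' i j h hh.symm _ hVi hVj hV0
    rw [hall i, hall j,
      zfrac_trans (CohB1.polyGrading n R) (hT n R i) (hT n R j) (hT n R 0) hVi hVj hV0 d] at hst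
    have h4 := zfrac_mul_cancel (CohB1.polyGrading n R) (hT n R j) (hT n R 0) hVj hV0 d hst
    have h5 : h = uN (CohB1.polyGrading n R) (hT n R i) (hT n R j) d := by
      apply res_injective n R
        (inf_le_left : U n R i ⊓ U n R j ⊓ U n R 0 ≤ U n R i ⊓ U n R j)
        ⟨⟨η_mem n R i, η_mem n R j⟩, η_mem n R 0⟩
      rw [uN_eq_zfrac]
      exact h4.symm
    rw [← h5]
    exact hh.symm
  have hcoh := Groth.Agent.H18.HomOfGens.coh_of_transition (A := L)
    (C := Twist.twist (CohB1.polyGrading n R) d) (D := U n R) (α := ℓ')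
    (γ := fun i => αN (CohB1.polyGrading n R) (hT n R i) d) hℓ'
    (fun i j => uN (CohB1.polyGrading n R) (hT n R i) (hT n R j) d) hαu
    (fun i j => αN_res (CohB1.polyGrading n R) (hT n R i) (hT n R j) d)
  obtain ⟨φ, hφ⟩ := Groth.Agent.H18.HomOfGens.exists_hom_of_gens
    (Groth.Agent.H18.ProjUPData.Dp_cover n R) hℓ' hcoh
  haveI : IsIso φ := Groth.Agent.H18.IsoOfGen.isIso_of_isGen_image hL φ (fun x => by
    obtain ⟨i, hi⟩ := Groth.Agent.H18.ProjUPData.Dp_cover n R x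
    exact ⟨U n R i, ℓ' i, hi, by rw [hφ i]; exact isGen_αN (CohB1.polyGrading n R) (hT n R i) d⟩)
  exact ⟨d, ⟨asIso φ⟩⟩

end Poly

end Groth.Agent.H88.PicPn
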