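import Groth.Agent.H32.AlgStackFp

/-!
# The topology-free part of "algebraic stack" (helper88)

`AlgCore 𝒳`: fibred in groupoids, diagonal representable by algebraic spaces, smooth surjective
atlas.  helper32's `isAlgStack_prod`, `isAlgStack_of_repByAlgSp1`, `isAlgStack_fp` are stated for the
fppf topology; their diagonal and atlas parts do not depend on the topology and are restated here
(same proofs), so that they apply to algebraic stacks for the étale topology as well.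
-/

set_option autoImplicit false
open CategoryTheory CategoryTheory.Limits AlgebraicGeometry Opposite
universe u

namespace Groth.Agent.H88.AlgCore

open FibCat Stk Groth.Agent.H32.FibProd Groth.Agent.H32.Fp2 Groth.Agent.H32.Fp3
  Groth.Agent.H32.Fp4 Groth.Agent.H32.SpBridge Groth.Agent.H32.PFacts
  Groth.Agent.H32.AlgStackEquiv Groth.Agent.H32.AtlasRep Groth.Agent.H32.SpComp
  Groth.Agent.H32.StackOps Groth.Agent.H32.Magic Groth.Agent.H32.Sect Groth.Agent.H32.Repr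
  Groth.Agent.H32.SectSt Groth.Agent.H32.DiagRep Groth.Agent.H32.GoodMore
  Groth.Agent.H32.AtlasCover Groth.Agent.H32.DiagApps Groth.Agent.H32.DiagDescent
  Groth.Agent.H32.Prod Groth.Agent.H32.Cover Groth.Agent.H32.CompMap Groth.Agent.H32.AlgStackFp

variable {S : Scheme.{u}}

/-- the topology-free part of being an algebraic stack. -/
structure AlgCore (𝒳 : AlgSt.Cat S) : Prop where
  fib : IsFibGrpd 𝒳.p
  diag : AlgSt.RepByAlgSp1 (FibCat.diag (FibCat.toSelf 𝒳))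
  atlas : AlgSt.HasAtlas (AlgSp.LocP @Smooth) 𝒳

theorem of_isAlgStack {K : Precoverage Scheme.{u}} {𝒳 : AlgSt.Cat S}
    (h : AlgSt.IsAlgStack K 𝒳) : AlgCore 𝒳 :=
  ⟨h.isStack.1, h.diag, h.atlas⟩

theorem isAlgStack {K : Precoverage Scheme.{u}} {𝒳 : AlgSt.Cat S}
    (hst : Stk.IsStack (QuotSh.J K S) 𝒳) (h : AlgCore 𝒳) : AlgSt.IsAlgStack K 𝒳 :=
  ⟨hst, h.diag, h.atlas⟩

/-- the product of two "core algebraic" stacks. -/
theorem prod {𝒳 𝒴 : AlgSt.Cat S} (h𝒳 : AlgCore 𝒳) (h𝒴 : AlgCore 𝒴) :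
    AlgCore (FibCat.fp (FibCat.toSelf 𝒳) (FibCat.toSelf 𝒴)) := by
  have hself : IsFibGrpd (FibCat.selfOver (Over S)).p := self_isFibGrpd
  have iX := h𝒳.fib
  have iY := h𝒴.fib
  have iP : IsFibGrpd (fp (FibCat.toSelf 𝒳) (FibCat.toSelf 𝒴)).p := fp_isFibGrpd _ _ iX iY hself
  refine ⟨iP, ?_, ?_⟩
  · -- diagonal
    have h1 : AlgSt.RepByAlgSpWith (⊤ : MorphismProperty (AlgSp.Sp S))
        (FibCat.diag (fpFst (FibCat.toSelf 𝒳) (FibCat.toSelf 𝒴))) :=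
      with_diag_fpFst _ iY hself iX _ _ ((repByAlgSp1_iff_top _).mp h𝒴.diag)
    have h2 : AlgSt.RepByAlgSpWith (⊤ : MorphismProperty (AlgSp.Sp S))
        (FibCat.diag (BasedFunctor.comp (fpFst (FibCat.toSelf 𝒳) (FibCat.toSelf 𝒴))
          (FibCat.toSelf 𝒳))) :=
      with_diag_comp good_top iP iX hself _ _ h1 ((repByAlgSp1_iff_top _).mp h𝒳.diag)
    rw [eq_toSelf (BasedFunctor.comp (fpFst (FibCat.toSelf 𝒳) (FibCat.toSelf 𝒴))
      (FibCat.toSelf 𝒳))] at h2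
    exact (repByAlgSp1_iff_top _).mpr h2
  · -- atlas
    obtain ⟨U, x, hx1, hx2⟩ := h𝒳.atlas
    obtain ⟨V, y, hy1, hy2⟩ := h𝒴.atlas
    obtain ⟨E, hE⟩ := exists_prod_equiv U V (BasedFunctor.comp x (FibCat.toSelf 𝒳))
      (BasedFunctor.comp y (FibCat.toSelf 𝒴))
    have iU := Groth.Agent.S6411.over_isFibGrpd U
    have iV := Groth.Agent.S6411.over_isFibGrpd V
    have i1 : IsFibGrpd (fp (BasedFunctor.comp x (FibCat.toSelf 𝒳))
        (BasedFunctor.comp y (FibCat.toSelf 𝒴))).p := fp_isFibGrpd _ _ iU iV hself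
    refine ⟨U ⨯ V, BasedFunctor.comp E (prodF2 x y (FibCat.toSelf 𝒳) (FibCat.toSelf 𝒴)), ?_, ?_⟩
    · exact with_precomp_equiv _ (Groth.Agent.S6411.over_isFibGrpd _) i1 iP E hE _
        (with_prodF2 x y _ _ good_smooth iU iV iX iY hself hx1 hy1)
    · exact with_precomp_equiv _ (Groth.Agent.S6411.over_isFibGrpd _) i1 iP E hE _
        (with_prodF2 x y _ _ good_surjective iU iV iX iY hself hx2 hy2)

/-- `j : 𝒳 ⟶ 𝒴` representable by algebraic spaces with `𝒴` core algebraic: so is `𝒳`. -/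
theorem of_repByAlgSp1 {𝒳 𝒴 : AlgSt.Cat S} (h𝒳 : IsFibGrpd 𝒳.p)
    (h𝒴 : AlgCore 𝒴) (j : 𝒳 ⥤ᵇ 𝒴) (hj : AlgSt.RepByAlgSp1 j) : AlgCore 𝒳 := by
  refine ⟨h𝒳, ?_, ?_⟩
  · exact (Groth.Agent.S12765.result h𝒳).mpr
      (fun U x => repByAlgSp1_of_target_diag h𝒳 h𝒴.fib h𝒴.diag j hj U x)
  · obtain ⟨U, y, hy1, hy2⟩ := h𝒴.atlas
    obtain ⟨F, eF, heF⟩ := hj U y
    have hfp : IsFibGrpd (fp y j).p :=
      Groth.Agent.H32.Repr.fp_isFibGrpd _ _ (Groth.Agent.S6411.over_isFibGrpd U) h𝒳 h𝒴.fib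
    exact hasAtlas_smooth_of_space_chart h𝒳 F (BasedFunctor.comp eF (fpSnd y j))
      (with_precomp_equiv _ (ofSp_isFibGrpd F.obj) hfp h𝒳 eF heF _ (repByAlgSpWith_fpSnd _ y j hy1))
      (with_precomp_equiv _ (ofSp_isFibGrpd F.obj) hfp h𝒳 eF heF _ (repByAlgSpWith_fpSnd _ y j hy2))

/-- the 2-fibre product of two core algebraic stacks over a category fibred in groupoids with
representable diagonal is core algebraic. -/
theorem fp {𝒳 𝒴 𝒵 : AlgSt.Cat S}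
    (h𝒵 : IsFibGrpd 𝒵.p) (hΔ : AlgSt.RepByAlgSp1 (FibCat.diag (FibCat.toSelf 𝒵)))
    (h𝒳 : AlgCore 𝒳) (h𝒴 : AlgCore 𝒴) (f : 𝒳 ⥤ᵇ 𝒵) (g : 𝒴 ⥤ᵇ 𝒵) :
    AlgCore (FibCat.fp f g) := by
  have hself : IsFibGrpd (FibCat.selfOver (Over S)).p := self_isFibGrpd
  have iX := h𝒳.fib
  have iY := h𝒴.fib
  have hP : AlgCore
      (FibCat.fp (BasedFunctor.comp f (FibCat.toSelf 𝒵)) (BasedFunctor.comp g (FibCat.toSelf 𝒵))) := by
    rw [eq_toSelf (BasedFunctor.comp f (FibCat.toSelf 𝒵)),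
      eq_toSelf (BasedFunctor.comp g (FibCat.toSelf 𝒵))]
    exact prod h𝒳 h𝒴
  have hj : AlgSt.RepByAlgSp1 (fpLift (F := BasedFunctor.comp f (FibCat.toSelf 𝒵))
      (G := BasedFunctor.comp g (FibCat.toSelf 𝒵)) (fpFst f g) (fpSnd f g)
      (whiskerR (fpIso f g) (FibCat.toSelf 𝒵))) :=
    (repByAlgSp1_iff_top _).mpr (with_compMap f g (FibCat.toSelf 𝒵) _ (fun _ => rfl) _ iX iY h𝒵 hself
      ((repByAlgSp1_iff_top _).mp hΔ))
  exact of_repByAlgSp1 (fp_isFibGrpd _ _ iX iY h𝒵) hP _ hj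

end Groth.Agent.H88.AlgCore
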