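import Mathlib
import Groth.Prelude.Def_Wider
import Groth.Agent.H58.IH
import Groth.Agent.H58.IHLoc
import Groth.Agent.H58.IHFlat
import Groth.Agent.H2.Matlis2
import Groth.Agent.S11661

/-!
# Modules finite over an Artinian algebra (helper88)

`ArtFin A M`: the `A`-module `M` carries a compatible structure of finite module over some Artinian
`A`-algebra.  Closure under isomorphism, binary products, disjoint sups of submodules; the torsion
pieces `E(A/p)[p^n]` of an injective hull of `A/p` over a Noetherian ring are `ArtFin`, and every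
element of `E(A/p)` lies in one of them.
-/

set_option autoImplicit false
universe u
open InjHull

namespace Groth.Agent.H88.ArtFin

/-- `M` is a finite module over some Artinian `A`-algebra, compatibly with its `A`-structure. -/
def ArtFin (A : Type u) [CommRing A] (M : Type u) [AddCommGroup M] [Module A M] : Prop :=
  ∃ (B : Type u) (_ : CommRing B) (_ : Algebra A B) (_ : IsArtinianRing B)
    (_ : Module B M) (_ : IsScalarTower A B M), Module.Finite B M

variable {A : Type u} [CommRing A]

theorem ArtFin.punit : ArtFin A PUnit.{u+1} :=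
  ⟨PUnit.{u+1}, inferInstance, inferInstance, inferInstance, inferInstance, inferInstance,
    Module.Finite.of_finite⟩

theorem ArtFin.of_linearEquiv {M M' : Type u} [AddCommGroup M] [Module A M] [AddCommGroup M']
    [Module A M'] (e : M ≃ₗ[A] M') (h : ArtFin A M') : ArtFin A M := by
  obtain ⟨B, _, _, _, _, _, hfin⟩ := h
  letI inst : Module B M :=
    { smul := fun b x => e.symm (b • e x)
      one_smul := fun x => by
        show e.symm ((1 : B) • e x) = x
        rw [one_smul, e.symm_apply_apply]
      mul_smul := fun b c x => by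
        show e.symm ((b * c) • e x) = e.symm (b • e (e.symm (c • e x)))
        rw [e.apply_symm_apply, mul_smul]
      smul_zero := fun b => by
        show e.symm (b • e 0) = 0
        rw [map_zero, smul_zero, map_zero]
      smul_add := fun b x y => by
        show e.symm (b • e (x + y)) = e.symm (b • e x) + e.symm (b • e y)
        rw [map_add, smul_add, map_add]
      add_smul := fun b c x => by
        show e.symm ((b + c) • e x) = e.symm (b • e x) + e.symm (c • e x)
        rw [add_smul, map_add]
      zero_smul := fun x => by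
        show e.symm ((0 : B) • e x) = 0
        rw [zero_smul, map_zero] }
  have hsmul : ∀ (b : B) (x : M), b • x = e.symm (b • e x) := fun _ _ => rfl
  refine ⟨B, inferInstance, inferInstance, inferInstance, inst, ⟨fun a b x => ?_⟩, ?_⟩
  · rw [hsmul, hsmul, smul_assoc, map_smul]
  · let e' : M' ≃ₗ[B] M :=
      { toFun := e.symm
        invFun := e
        map_add' := map_add e.symm
        map_smul' := fun b y => by
          show e.symm (b • y) = b • e.symm y
          rw [hsmul, e.apply_symm_apply]
        left_inv := e.apply_symm_apply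
        right_inv := e.symm_apply_apply }
    exact Module.Finite.equiv e'

theorem ArtFin.of_subsingleton (M : Type u) [AddCommGroup M] [Module A M] [Subsingleton M] :
    ArtFin A M :=
  ArtFin.of_linearEquiv (LinearEquiv.ofSubsingleton M PUnit.{u+1}) ArtFin.punit

theorem ArtFin.prod {M N : Type u} [AddCommGroup M] [Module A M] [AddCommGroup N] [Module A N]
    (hM : ArtFin A M) (hN : ArtFin A N) : ArtFin A (M × N) := by
  obtain ⟨B₁, _, _, _, _, _, hf₁⟩ := hM
  obtain ⟨B₂, _, _, _, _, _, hf₂⟩ := hN
  letI m1 : Module (B₁ × B₂) M := Module.compHom M (RingHom.fst B₁ B₂)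
  letI m2 : Module (B₁ × B₂) N := Module.compHom N (RingHom.snd B₁ B₂)
  have hs1 : ∀ (b : B₁ × B₂) (x : M), b • x = b.1 • x := fun _ _ => rfl
  have hs2 : ∀ (b : B₁ × B₂) (y : N), b • y = b.2 • y := fun _ _ => rfl
  have f1 : Module.Finite (B₁ × B₂) M := by
    obtain ⟨s, hs⟩ := hf₁.fg_top
    refine ⟨⟨s, ?_⟩⟩
    rw [eq_top_iff]
    intro x _
    have hx : x ∈ Submodule.span B₁ (s : Set M) := by rw [hs]; trivial
    refine Submodule.span_induction
      (p := fun y _ => y ∈ Submodule.span (B₁ × B₂) (s : Set M)) ?_ ?_ ?_ ?_ hx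
    · intro y hy
      exact Submodule.subset_span hy
    · exact Submodule.zero_mem _
    · intro y z _ _ hy hz
      exact Submodule.add_mem _ hy hz
    · intro b y _ hy
      have hb : b • y = ((b, 0) : B₁ × B₂) • y := (hs1 ((b, 0) : B₁ × B₂) y).symm
      rw [hb]
      exact Submodule.smul_mem _ _ hy
  have f2 : Module.Finite (B₁ × B₂) N := by
    obtain ⟨s, hs⟩ := hf₂.fg_top
    refine ⟨⟨s, ?_⟩⟩
    rw [eq_top_iff]
    intro x _
    have hx : x ∈ Submodule.span B₂ (s : Set N) := by rw [hs]; trivial
    refine Submodule.span_induction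
      (p := fun y _ => y ∈ Submodule.span (B₁ × B₂) (s : Set N)) ?_ ?_ ?_ ?_ hx
    · intro y hy
      exact Submodule.subset_span hy
    · exact Submodule.zero_mem _
    · intro y z _ _ hy hz
      exact Submodule.add_mem _ hy hz
    · intro b y _ hy
      have hb : b • y = ((0, b) : B₁ × B₂) • y := (hs2 ((0, b) : B₁ × B₂) y).symm
      rw [hb]
      exact Submodule.smul_mem _ _ hy
  refine ⟨B₁ × B₂, inferInstance, inferInstance, inferInstance, inferInstance,
    ⟨fun a b z => ?_⟩, inferInstance⟩
  refine Prod.ext ?_ ?_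
  · show (a • b) • z.1 = a • (b • z.1)
    rw [hs1, hs1, Prod.smul_fst, smul_assoc]
  · show (a • b) • z.2 = a • (b • z.2)
    rw [hs2, hs2, Prod.smul_snd, smul_assoc]

theorem ArtFin.sup {J : Type u} [AddCommGroup J] [Module A J] (P Q : Submodule A J)
    (hd : Disjoint P Q) (hP : ArtFin A ↥P) (hQ : ArtFin A ↥Q) : ArtFin A ↥(P ⊔ Q) := by
  let φ : (↥P × ↥Q) →ₗ[A] ↥(P ⊔ Q) :=
    { toFun := fun z => ⟨z.1.1 + z.2.1, Submodule.add_mem_sup z.1.2 z.2.2⟩
      map_add' := fun z w => Subtype.ext (by
        show (z.1.1 + w.1.1) + (z.2.1 + w.2.1) = (z.1.1 + z.2.1) + (w.1.1 + w.2.1)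
        abel)
      map_smul' := fun a z => Subtype.ext (by
        show a • z.1.1 + a • z.2.1 = a • (z.1.1 + z.2.1)
        rw [smul_add]) }
  have hφ : Function.Bijective φ := by
    constructor
    · intro z w hzw
      have h' : z.1.1 + z.2.1 = w.1.1 + w.2.1 := congrArg Subtype.val hzw
      have h1 : z.1.1 - w.1.1 = w.2.1 - z.2.1 := by
        calc z.1.1 - w.1.1 = (z.1.1 + z.2.1) - w.1.1 - z.2.1 := by abel
          _ = (w.1.1 + w.2.1) - w.1.1 - z.2.1 := by rw [h']
          _ = w.2.1 - z.2.1 := by abel
      have hmemP : z.1.1 - w.1.1 ∈ P := Submodule.sub_mem _ z.1.2 w.1.2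
      have hmemQ : z.1.1 - w.1.1 ∈ Q := by
        rw [h1]
        exact Submodule.sub_mem _ w.2.2 z.2.2
      have h0 : z.1.1 - w.1.1 = 0 := (Submodule.disjoint_def.1 hd) _ hmemP hmemQ
      have h0' : w.2.1 - z.2.1 = 0 := by rw [← h1, h0]
      refine Prod.ext (Subtype.ext (sub_eq_zero.1 h0)) (Subtype.ext (sub_eq_zero.1 h0').symm)
    · rintro ⟨x, hx⟩
      obtain ⟨a, ha, b, hb, rfl⟩ := Submodule.mem_sup.1 hx
      exact ⟨(⟨a, ha⟩, ⟨b, hb⟩), rfl⟩
  exact ArtFin.of_linearEquiv (LinearEquiv.ofBijective φ hφ).symm (ArtFin.prod hP hQ)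

section hull

variable [IsNoetherianRing A]

/-- Over a Noetherian ring an indecomposable injective module is an injective hull of `A ⧸ p`
for a prime `p` (first half of the proof of S0306, helper58). -/
theorem exists_hull_quot (E : Type u) [AddCommGroup E] [Module A E]
    (hE : InjHull.IsIndecomposable A E) (hinj : Module.Injective A E) :
    ∃ (p : Ideal A) (_ : p.IsPrime) (f : (A ⧸ p) →ₗ[A] E), InjHull.IsInjectiveHull f := by
  haveI := hinj
  haveI : Nontrivial E := hE.1
  obtain ⟨p, hp⟩ := associatedPrimes.nonempty A E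
  obtain ⟨hpp, x, hx⟩ := isAssociatedPrime_iff.1 hp
  haveI := hpp
  have hker : LinearMap.ker (LinearMap.toSpanSingleton A E x) = p := by
    ext r
    rw [hx, LinearMap.mem_ker, LinearMap.toSpanSingleton_apply, Submodule.mem_colon_singleton,
      Submodule.mem_bot]
  let f : (A ⧸ p) →ₗ[A] E :=
    Submodule.liftQ p (LinearMap.toSpanSingleton A E x) (le_of_eq hker.symm)
  have hfinj : Function.Injective f := by
    rw [← LinearMap.ker_eq_bot]
    exact Submodule.ker_liftQ_eq_bot _ _ _ (le_of_eq hker)
  have hrange : LinearMap.range f ≠ ⊥ := by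
    intro h
    have h1 : f 1 ∈ LinearMap.range f := ⟨1, rfl⟩
    rw [h, Submodule.mem_bot] at h1
    exact one_ne_zero (hfinj (h1.trans (map_zero f).symm))
  have hess := Groth.Agent.H58.IH.ess_of_indecomposable hE (LinearMap.range f) hrange
  have hf : InjHull.IsInjectiveHull f :=
    (Groth.Agent.H58.IH.isInjectiveHull_iff f).2 ⟨hfinj, hess, hinj⟩
  exact ⟨p, hpp, f, hf⟩

variable (p : Ideal A) [hp : p.IsPrime] {E : Type u} [AddCommGroup E] [Module A E]

/-- every element of `E(A/p)` is killed by a power of `p`. -/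
theorem exists_mem_torsion_hull (f : (A ⧸ p) →ₗ[A] E) (hf : IsInjectiveHull f) (x : E) :
    ∃ n : ℕ, x ∈ LocCoh.torsionBy (p ^ n) E := by
  have hrad : p ≤ Ideal.radical (LinearMap.ker (LinearMap.toSpanSingleton A E x)) := by
    intro s hs
    obtain ⟨k, hk⟩ := Groth.Agent.H58.IH.exists_pow_smul_eq_zero_of_hull p f hf hs x
    refine Ideal.mem_radical_iff.2 ⟨k, ?_⟩
    rw [LinearMap.mem_ker, LinearMap.toSpanSingleton_apply]
    exact hk
  obtain ⟨k, hk⟩ := Ideal.exists_pow_le_of_le_radical_of_fg hrad (IsNoetherian.noetherian p)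
  refine ⟨k, ?_⟩
  rw [Submodule.mem_torsionBySet_iff]
  rintro ⟨a, ha⟩
  have := hk ha
  rwa [LinearMap.mem_ker, LinearMap.toSpanSingleton_apply] at this

/-- `E(A/p)[p^n]` is a finite module over the Artinian ring `A_p / p^n A_p`. -/
theorem artFin_torsion_hull (f : (A ⧸ p) →ₗ[A] E) (hf : IsInjectiveHull f) (n : ℕ) :
    ArtFin A ↥(LocCoh.torsionBy (p ^ n) E) := by
  classical
  obtain ⟨-, h2⟩ := Groth.Agent.S11661.result A p.primeCompl p E f hf
  have hdisj : Disjoint (p : Set A) (p.primeCompl : Set A) :=
    Set.disjoint_left.2 (fun x hx hx' => hx' hx)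
  obtain ⟨hbij, g, hg⟩ := h2 hdisj
  have hmax : p.map (algebraMap A (Localization p.primeCompl)) =
      IsLocalRing.maximalIdeal (Localization p.primeCompl) :=
    Localization.AtPrime.map_eq_maximalIdeal
  have key : ∀ (I : Ideal (Localization p.primeCompl))
      (_ : I = IsLocalRing.maximalIdeal (Localization p.primeCompl))
      (g : ((Localization p.primeCompl) ⧸ I) →ₗ[Localization p.primeCompl]
        LocalizedModule p.primeCompl E),
      IsInjectiveHull g →
      ∃ g' : IsLocalRing.ResidueField (Localization p.primeCompl) →ₗ[Localization p.primeCompl]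
        LocalizedModule p.primeCompl E, IsInjectiveHull g' := by
    intro I hI g hg
    subst hI
    exact ⟨g, hg⟩
  obtain ⟨g', hg'⟩ := key _ hmax g hg
  have hlen := Groth.Agent.H58.IHFlat.length_tors_hull g' hg' n
  have hfl : IsFiniteLength (Localization p.primeCompl)
      ((Localization p.primeCompl) ⧸ IsLocalRing.maximalIdeal (Localization p.primeCompl) ^ n) :=
    Groth.Agent.H2.Matlis.isFiniteLength_quotient_pow _ n
  have hflT : IsFiniteLength (Localization p.primeCompl)
      ↥(LocCoh.torsionBy (IsLocalRing.maximalIdeal (Localization p.primeCompl) ^ n)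
        (LocalizedModule p.primeCompl E)) := by
    rw [← Module.length_ne_top_iff, hlen, Module.length_ne_top_iff]
    exact hfl
  obtain ⟨hnoeth, -⟩ := isFiniteLength_iff_isNoetherian_isArtinian.1 hflT
  haveI hfinT : Module.Finite (Localization p.primeCompl)
      ↥(LocCoh.torsionBy (IsLocalRing.maximalIdeal (Localization p.primeCompl) ^ n)
        (LocalizedModule p.primeCompl E)) := by
    haveI := hnoeth
    infer_instance
  haveI hartB : IsArtinianRing ((Localization p.primeCompl) ⧸
      IsLocalRing.maximalIdeal (Localization p.primeCompl) ^ n) :=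
    isArtinian_of_tower (Localization p.primeCompl)
      (isFiniteLength_iff_isNoetherian_isArtinian.1 hfl).2
  haveI hfinB : Module.Finite ((Localization p.primeCompl) ⧸
      IsLocalRing.maximalIdeal (Localization p.primeCompl) ^ n)
      ↥(LocCoh.torsionBy (IsLocalRing.maximalIdeal (Localization p.primeCompl) ^ n)
        (LocalizedModule p.primeCompl E)) :=
    Module.Finite.of_restrictScalars_finite (Localization p.primeCompl) _ _
  have hT : ArtFin A ↥(LocCoh.torsionBy (IsLocalRing.maximalIdeal (Localization p.primeCompl) ^ n)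
      (LocalizedModule p.primeCompl E)) :=
    ⟨(Localization p.primeCompl) ⧸ IsLocalRing.maximalIdeal (Localization p.primeCompl) ^ n,
      inferInstance, inferInstance, hartB, inferInstance, inferInstance, hfinB⟩
  have hmn : IsLocalRing.maximalIdeal (Localization p.primeCompl) ^ n =
      (p ^ n).map (algebraMap A (Localization p.primeCompl)) := by
    rw [Ideal.map_pow, hmax]
  have h1 : ∀ x : E, x ∈ LocCoh.torsionBy (p ^ n) E →
      LocalizedModule.mkLinearMap p.primeCompl E x ∈
        LocCoh.torsionBy (IsLocalRing.maximalIdeal (Localization p.primeCompl) ^ n)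
          (LocalizedModule p.primeCompl E) := by
    intro x hx
    rw [Submodule.mem_torsionBySet_iff] at hx ⊢
    rintro ⟨b, hb⟩
    have hle : (p ^ n).map (algebraMap A (Localization p.primeCompl)) ≤
        LinearMap.ker (LinearMap.toSpanSingleton (Localization p.primeCompl)
          (LocalizedModule p.primeCompl E) (LocalizedModule.mkLinearMap p.primeCompl E x)) := by
      rw [Ideal.map_le_iff_le_comap]
      intro a ha
      rw [Ideal.mem_comap, LinearMap.mem_ker, LinearMap.toSpanSingleton_apply, algebraMap_smul,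
        ← map_smul, hx ⟨a, ha⟩, map_zero]
    have hb' : b ∈ (p ^ n).map (algebraMap A (Localization p.primeCompl)) := by
      rw [← hmn]
      exact hb
    have h3 := hle hb'
    rwa [LinearMap.mem_ker, LinearMap.toSpanSingleton_apply] at h3
  have h2' : ∀ x : E, LocalizedModule.mkLinearMap p.primeCompl E x ∈
        LocCoh.torsionBy (IsLocalRing.maximalIdeal (Localization p.primeCompl) ^ n)
          (LocalizedModule p.primeCompl E) → x ∈ LocCoh.torsionBy (p ^ n) E := by
    intro x hx
    rw [Submodule.mem_torsionBySet_iff] at hx ⊢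
    rintro ⟨a, ha⟩
    apply hbij.1
    show LocalizedModule.mkLinearMap p.primeCompl E (a • x) =
      LocalizedModule.mkLinearMap p.primeCompl E 0
    rw [map_smul, map_zero, ← algebraMap_smul (Localization p.primeCompl) a
      (LocalizedModule.mkLinearMap p.primeCompl E x)]
    exact hx ⟨algebraMap A (Localization p.primeCompl) a, by
      rw [hmn]
      exact Ideal.mem_map_of_mem _ ha⟩
  let φ : ↥(LocCoh.torsionBy (p ^ n) E) →ₗ[A]
      ↥(LocCoh.torsionBy (IsLocalRing.maximalIdeal (Localization p.primeCompl) ^ n)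
        (LocalizedModule p.primeCompl E)) :=
    { toFun := fun x => ⟨LocalizedModule.mkLinearMap p.primeCompl E x.1, h1 x.1 x.2⟩
      map_add' := fun x y => Subtype.ext (map_add (LocalizedModule.mkLinearMap p.primeCompl E) x.1 y.1)
      map_smul' := fun a x =>
        Subtype.ext (map_smul (LocalizedModule.mkLinearMap p.primeCompl E) a x.1) }
  have hφ : Function.Bijective φ := by
    constructor
    · intro x y hxy
      apply Subtype.ext
      apply hbij.1
      exact congrArg Subtype.val hxy
    · rintro ⟨y, hy⟩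
      obtain ⟨x, rfl⟩ := hbij.2 y
      exact ⟨⟨x, h2' x hy⟩, rfl⟩
  exact ArtFin.of_linearEquiv (LinearEquiv.ofBijective φ hφ) hT

end hull

end Groth.Agent.H88.ArtFin
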