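import Mathlib
import Groth.Prelude.Def_GrTwist
import Groth.Prelude.Def_GrMod3
import Groth.Agent.H41.GrModQCoh
import Groth.Agent.H24.PullSections
import Groth.Agent.H88.BCTwDefs
import Groth.Agent.H2.BCTw_A5
import Groth.Agent.H44.BCTw_A1
import Groth.Agent.H98.BCTw_B1

/-!
# (INJ) for S4406: injectivity of `Γ(O_𝒜, D₊(φ f)) ⊗ Γ(O_ℬ(n), D₊ f) → Γ(O_𝒜(n), D₊(φ f))`
in the base change situation (helper88)
-/

set_option autoImplicit false
universe u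
open CategoryTheory CategoryTheory.Limits AlgebraicGeometry Opposite TopologicalSpace TensorProduct
open scoped HomogeneousIdeal
open Groth.Agent.H88.BCTw
open Groth.Agent.H41.GrModQCoh (rval)

namespace Groth.Agent.H88.BCTwInj

section Gen

variable {R A : Type u} [CommRing R] [CommRing A] [Algebra R A] (𝒜 : ℕ → Submodule R A)
  [GradedAlgebra 𝒜]

instance instPrimeProj (x : ↥(Proj 𝒜)) :
    (ProjectiveSpectrum.asHomogeneousIdeal (x : ProjectiveSpectrum 𝒜)).toIdeal.IsPrime :=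
  ProjectiveSpectrum.isPrime x

/-- the constant sections of `O` over `D₊(g)` -/
noncomputable def constHom (g : A) : R →+* Γ(Proj 𝒜, Proj.basicOpen 𝒜 g) :=
  (Proj.awayToSection 𝒜 g).hom.comp
    ((algebraMap (𝒜 0) (HomogeneousLocalization.Away 𝒜 g)).comp (algebraMap R (𝒜 0)))

theorem rval_constHom (g : A) (r : R) (x : Proj.basicOpen 𝒜 g) :
    (rval 𝒜 (constHom 𝒜 g r) x).val = algebraMap A (GrTwist.Loc 𝒜 x.1) (algebraMap R A r) := by
  rfl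

theorem pow_notMem {f : A} (k : ℕ) (x : Proj.basicOpen 𝒜 f) :
    f ^ k ∉ (x.1 : ProjectiveSpectrum 𝒜).asHomogeneousIdeal := fun h =>
  (ProjectiveSpectrum.mem_basicOpen 𝒜 f x.1).mp x.2 (x.1.isPrime.mem_of_pow_mem k h)

/-- the section `a / f^k` of `O(n)` over `D₊(f)` -/
noncomputable def frac (n : ℤ) {d : ℕ} {f : A} (hf : f ∈ 𝒜 d) (k m : ℕ)
    (hm : (m : ℤ) = ((k * d : ℕ) : ℤ) + n) (a : A) (ha : a ∈ 𝒜 m) :
    Γ(GrTwist.twist 𝒜 n, Proj.basicOpen 𝒜 f) :=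
  Groth.Agent.H41.GrModQCoh.fracSect 𝒜 𝒜 n (Proj.basicOpen 𝒜 f) hm ⟨a, ha⟩
    ⟨f ^ k, by simpa [mul_comm] using SetLike.pow_mem_graded k hf⟩
    (fun x => pow_notMem 𝒜 k x)

theorem val_frac (n : ℤ) {d : ℕ} {f : A} (hf : f ∈ 𝒜 d) (k m : ℕ)
    (hm : (m : ℤ) = ((k * d : ℕ) : ℤ) + n) (a : A) (ha : a ∈ 𝒜 m) (x : Proj.basicOpen 𝒜 f) :
    GrTwist.val (frac 𝒜 n hf k m hm a ha) x =
      Localization.mk a (⟨f ^ k, pow_notMem 𝒜 k x⟩ :
        (x.1 : ProjectiveSpectrum 𝒜).asHomogeneousIdeal.toIdeal.primeCompl) := rfl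

theorem sec_ext {n : ℤ} {W : (Proj 𝒜).Opens} (s t : Γ(GrTwist.twist 𝒜 n, W))
    (h : ∀ x : W, GrTwist.val s x = GrTwist.val t x) : s = t :=
  Subtype.ext (funext fun x => Subtype.ext (h x))

theorem val_smul' {n : ℤ} {W : (Proj 𝒜).Opens} (r : Γ(Proj 𝒜, W)) (s : Γ(GrTwist.twist 𝒜 n, W))
    (x : W) : GrTwist.val (r • s) x = (rval 𝒜 r x).val * GrTwist.val s x :=
  GrTwist.coe_smul_val n x.1 _ _

theorem val_add' {n : ℤ} {W : (Proj 𝒜).Opens} (s t : Γ(GrTwist.twist 𝒜 n, W)) (x : W) :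
    GrTwist.val (s + t) x = GrTwist.val s x + GrTwist.val t x := rfl

theorem val_zero' {n : ℤ} {W : (Proj 𝒜).Opens} (x : W) :
    GrTwist.val (0 : Γ(GrTwist.twist 𝒜 n, W)) x = 0 := rfl

theorem val_sum' {n : ℤ} {W : (Proj 𝒜).Opens} {l : ℕ} (s : Fin l → Γ(GrTwist.twist 𝒜 n, W))
    (x : W) : GrTwist.val (∑ i, s i) x = ∑ i, GrTwist.val (s i) x := by
  induction l with
  | zero => simp [val_zero']
  | succ l ih =>
    rw [Fin.sum_univ_castSucc, Fin.sum_univ_castSucc, val_add', ih]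

/-- every section over `D₊(f)` is a fraction -/
theorem exists_frac (n : ℤ) {d : ℕ} (hd : 0 < d) {f : A} (hf : f ∈ 𝒜 d)
    (s : Γ(GrTwist.twist 𝒜 n, Proj.basicOpen 𝒜 f)) :
    ∃ (k m : ℕ) (hm : (m : ℤ) = ((k * d : ℕ) : ℤ) + n) (a : A) (ha : a ∈ 𝒜 m),
      s = frac 𝒜 n hf k m hm a ha := by
  obtain ⟨k, i, a, hi, h⟩ :=
    Groth.Agent.H41.GrModSections.sections_eq_fraction 𝒜 𝒜 n hd hf
      (s : GrMod.sect 𝒜 𝒜 n (op (ProjectiveSpectrum.basicOpen 𝒜 f)))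
  refine ⟨k, i, by push_cast; exact hi, a.1, a.2, ?_⟩
  exact sec_ext 𝒜 _ _ fun x => h x

theorem frac_mul_pow (n : ℤ) {d : ℕ} {f : A} (hf : f ∈ 𝒜 d) (k m : ℕ)
    (hm : (m : ℤ) = ((k * d : ℕ) : ℤ) + n) (a : A) (ha : a ∈ 𝒜 m) (N m' : ℕ)
    (hm' : (m' : ℤ) = (((k + N) * d : ℕ) : ℤ) + n) (ha' : f ^ N * a ∈ 𝒜 m') :
    frac 𝒜 n hf (k + N) m' hm' (f ^ N * a) ha' = frac 𝒜 n hf k m hm a ha := by
  refine sec_ext 𝒜 _ _ fun x => ?_
  rw [val_frac, val_frac, Localization.mk_eq_mk_iff, Localization.r_iff_exists]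
  exact ⟨1, by simp only [OneMemClass.coe_one, one_mul]; ring⟩

theorem frac_add (n : ℤ) {d : ℕ} {f : A} (hf : f ∈ 𝒜 d) (k m : ℕ)
    (hm : (m : ℤ) = ((k * d : ℕ) : ℤ) + n) (a b : A) (ha : a ∈ 𝒜 m) (hb : b ∈ 𝒜 m) :
    frac 𝒜 n hf k m hm (a + b) (add_mem ha hb) =
      frac 𝒜 n hf k m hm a ha + frac 𝒜 n hf k m hm b hb := by
  refine sec_ext 𝒜 _ _ fun x => ?_
  rw [val_add', val_frac, val_frac, val_frac, Localization.add_mk_self]

theorem frac_const_smul (n : ℤ) {d : ℕ} {f : A} (hf : f ∈ 𝒜 d) (k m : ℕ)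
    (hm : (m : ℤ) = ((k * d : ℕ) : ℤ) + n) (r : R) (a : A) (ha : a ∈ 𝒜 m) :
    frac 𝒜 n hf k m hm (r • a) (Submodule.smul_mem _ r ha) =
      constHom 𝒜 f r • frac 𝒜 n hf k m hm a ha := by
  refine sec_ext 𝒜 _ _ fun x => ?_
  rw [val_smul', val_frac, val_frac, rval_constHom, ← Localization.mk_one_eq_algebraMap,
    Localization.mk_mul, one_mul, Algebra.smul_def]

theorem frac_zero (n : ℤ) {d : ℕ} {f : A} (hf : f ∈ 𝒜 d) (k m : ℕ)
    (hm : (m : ℤ) = ((k * d : ℕ) : ℤ) + n) (h : (0 : A) ∈ 𝒜 m) :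
    frac 𝒜 n hf k m hm 0 h = 0 := by
  refine sec_ext 𝒜 _ _ fun x => ?_
  rw [val_frac, val_zero', Localization.mk_zero]

theorem frac_congr (n : ℤ) {d : ℕ} {f : A} (hf : f ∈ 𝒜 d) (k m : ℕ)
    (hm : (m : ℤ) = ((k * d : ℕ) : ℤ) + n) {a a' : A} (h : a = a') (ha : a ∈ 𝒜 m)
    (ha' : a' ∈ 𝒜 m) : frac 𝒜 n hf k m hm a ha = frac 𝒜 n hf k m hm a' ha' := by
  subst h; rfl

theorem frac_sum (n : ℤ) {d : ℕ} {f : A} (hf : f ∈ 𝒜 d) (k m : ℕ)
    (hm : (m : ℤ) = ((k * d : ℕ) : ℤ) + n) : ∀ {l : ℕ} (a : Fin l → A) (ha : ∀ i, a i ∈ 𝒜 m)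
    (h : ∑ i, a i ∈ 𝒜 m),
    frac 𝒜 n hf k m hm (∑ i, a i) h = ∑ i, frac 𝒜 n hf k m hm (a i) (ha i) := by
  intro l
  induction l with
  | zero =>
    intro a ha h
    simp only [Finset.univ_eq_empty, Finset.sum_empty]
    exact frac_zero 𝒜 n hf k m hm _
  | succ l ih =>
    intro a ha h
    have h1 : ∑ i : Fin l, a i.castSucc ∈ 𝒜 m := Submodule.sum_mem _ fun i _ => ha _
    have h2 : ∑ i, a i = ∑ i : Fin l, a i.castSucc + a (Fin.last l) := Fin.sum_univ_castSucc a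
    calc frac 𝒜 n hf k m hm (∑ i, a i) h
        = frac 𝒜 n hf k m hm (∑ i : Fin l, a i.castSucc + a (Fin.last l))
            (add_mem h1 (ha _)) := frac_congr 𝒜 n hf k m hm h2 _ _
      _ = frac 𝒜 n hf k m hm (∑ i : Fin l, a i.castSucc) h1 +
            frac 𝒜 n hf k m hm (a (Fin.last l)) (ha _) := frac_add 𝒜 n hf k m hm _ _ h1 (ha _)
      _ = ∑ i : Fin l, frac 𝒜 n hf k m hm (a i.castSucc) (ha _) +
            frac 𝒜 n hf k m hm (a (Fin.last l)) (ha _) := by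
          rw [ih (fun i => a i.castSucc) (fun i => ha _) h1]
      _ = ∑ i, frac 𝒜 n hf k m hm (a i) (ha i) :=
          (Fin.sum_univ_castSucc (fun i => frac 𝒜 n hf k m hm (a i) (ha i))).symm

/-- common denominators -/
theorem exists_frac_family (n : ℤ) {d : ℕ} (hd : 0 < d) {f : A} (hf : f ∈ 𝒜 d) {l : ℕ}
    (y : Fin l → Γ(GrTwist.twist 𝒜 n, Proj.basicOpen 𝒜 f)) :
    ∃ (k m : ℕ) (hm : (m : ℤ) = ((k * d : ℕ) : ℤ) + n) (b : Fin l → A) (hb : ∀ i, b i ∈ 𝒜 m),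
      ∀ i, y i = frac 𝒜 n hf k m hm (b i) (hb i) := by
  choose k m hm a ha hy using fun i => exists_frac 𝒜 n hd hf (y i)
  let K : ℕ := ∑ i, k i
  have hk : ∀ i, k i ≤ K := fun i => Finset.single_le_sum (f := k) (fun _ _ => Nat.zero_le _)
    (Finset.mem_univ i)
  let M : ℕ := (((K * d : ℕ) : ℤ) + n).toNat
  have hM : ∀ i, (K - k i) * d + m i = M := by
    intro i
    have h1 : (((K - k i) * d + m i : ℕ) : ℤ) = ((K * d : ℕ) : ℤ) + n := by
      have := hm i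
      have h2 : ((K - k i : ℕ) : ℤ) = (K : ℤ) - (k i : ℤ) := Int.ofNat_sub (hk i)
      push_cast at this ⊢
      rw [h2, this]
      ring
    show _ = (((K * d : ℕ) : ℤ) + n).toNat
    rw [← h1, Int.toNat_natCast]
  by_cases hl : l = 0
  · subst hl
    have hnn : (0 : ℤ) ≤ ((n.natAbs * d : ℕ) : ℤ) + n := by
      have h1 : (n.natAbs : ℤ) ≤ ((n.natAbs * d : ℕ) : ℤ) := by
        exact_mod_cast Nat.le_mul_of_pos_right _ hd
      have h2 : -n ≤ (n.natAbs : ℤ) := by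
        rw [← Int.abs_eq_natAbs]; exact neg_le_abs n
      linarith
    exact ⟨n.natAbs, (((n.natAbs * d : ℕ) : ℤ) + n).toNat, Int.toNat_of_nonneg hnn,
      fun i => i.elim0, fun i => i.elim0, fun i => i.elim0⟩
  · have i₀ : Fin l := ⟨0, Nat.pos_of_ne_zero hl⟩
    have hMz : (M : ℤ) = ((K * d : ℕ) : ℤ) + n := by
      have h1 : (((K - k i₀) * d + m i₀ : ℕ) : ℤ) = ((K * d : ℕ) : ℤ) + n := by
        have := hm i₀
        have h2 : ((K - k i₀ : ℕ) : ℤ) = (K : ℤ) - (k i₀ : ℤ) := Int.ofNat_sub (hk i₀)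
        push_cast at this ⊢
        rw [h2, this]
        ring
      rw [← hM i₀]; exact h1
    have hmem : ∀ i, f ^ (K - k i) * a i ∈ 𝒜 M := by
      intro i
      rw [← hM i]
      exact SetLike.mul_mem_graded (by simpa [mul_comm] using SetLike.pow_mem_graded (K - k i) hf)
        (ha i)
    refine ⟨K, M, hMz, fun i => f ^ (K - k i) * a i, hmem, fun i => ?_⟩
    rw [hy i]
    have hK : K = k i + (K - k i) := by have := hk i; omega
    have := frac_mul_pow 𝒜 n hf (k i) (m i) (hm i) (a i) (ha i) (K - k i) M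
      (by rw [← hK]; exact hMz) (hmem i)
    rw [← this]
    congr 1
    exact hK.symm

end Gen

section Alg

/-- transporting a relation in `R ⊗[R'] Q` to `S ⊗[P] N` -/
theorem sumZero_of_tmul_eq_zero {R' R P S N Q : Type*} [CommRing R'] [CommRing R] [Algebra R' R]
    [CommRing P] [CommRing S] [AddCommGroup N] [Module P N] [AddCommGroup Q] [Module R' Q]
    (ρ : P →+* S) (εS : R →+* S) (εP : R' →+* P)
    (hε : ∀ r', ρ (εP r') = εS (algebraMap R' R r'))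
    (θ : Q →+ N) (hθ : ∀ (r' : R') (q : Q), θ (r' • q) = εP r' • θ q)
    {l : ℕ} (r : Fin l → R) (q : Fin l → Q)
    (h : ∑ i, r i ⊗ₜ[R'] q i = (0 : R ⊗[R'] Q)) :
    Groth.Agent.H24.TensorStage.SumZero ρ (fun i => εS (r i)) (fun i => θ (q i)) := by
  unfold Groth.Agent.H24.TensorStage.SumZero
  letI := ρ.toAlgebra
  let g : R →+ Q →+ S ⊗[P] N :=
    { toFun := fun r₀ =>
        { toFun := fun q₀ => εS r₀ ⊗ₜ[P] θ q₀
          map_zero' := by simp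
          map_add' := by intros; simp [tmul_add] }
      map_zero' := by ext q₀; simp
      map_add' := by intros; ext q₀; simp [add_tmul] }
  have hg : ∀ (r' : R') (r₀ : R) (q₀ : Q), g (r' • r₀) q₀ = g r₀ (r' • q₀) := by
    intro r' r₀ q₀
    show εS (r' • r₀) ⊗ₜ[P] θ q₀ = εS r₀ ⊗ₜ[P] θ (r' • q₀)
    rw [hθ, Algebra.smul_def, map_mul, ← hε, ← TensorProduct.smul_tmul]
    congr 1
  have := congrArg (TensorProduct.liftAddHom g hg) h
  rw [map_sum, map_zero] at this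
  exact this

/-- glue: from generators `εS r * ρ p` of `S` to all of `S` -/
theorem sumZero_of_generators {R P S N G : Type*} [CommRing P] [CommRing S]
    [AddCommGroup N] [Module P N] [AddCommGroup G] [Module S G]
    (ρ : P →+* S) (εS : R → S) (α : N →+ G) (hα : ∀ (p : P) (x : N), α (p • x) = ρ p • α x)
    (hB1 : ∀ c : S, ∃ (l : ℕ) (r : Fin l → R) (p : Fin l → P), c = ∑ i, εS (r i) * ρ (p i))
    (hB2 : ∀ (l : ℕ) (r : Fin l → R) (y : Fin l → N), ∑ i, εS (r i) • α (y i) = 0 →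
      Groth.Agent.H24.TensorStage.SumZero ρ (fun i => εS (r i)) y)
    {l : ℕ} (c : Fin l → S) (x : Fin l → N) (h0 : ∑ j, c j • α (x j) = 0) :
    Groth.Agent.H24.TensorStage.SumZero ρ c x := by
  unfold Groth.Agent.H24.TensorStage.SumZero at hB2 ⊢
  letI := ρ.toAlgebra
  -- the multiplication map
  let g : S →+ N →+ G :=
    { toFun := fun s =>
        { toFun := fun x₀ => s • α x₀
          map_zero' := by simp
          map_add' := by intros; simp [smul_add] }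
      map_zero' := by ext x₀; simp
      map_add' := by intros; ext x₀; simp [add_smul] }
  have hg : ∀ (p : P) (s : S) (x₀ : N), g (p • s) x₀ = g s (p • x₀) := by
    intro p s x₀
    show (p • s) • α x₀ = s • α (p • x₀)
    rw [hα, Algebra.smul_def, smul_smul, mul_comm]
    rfl
  let μ : S ⊗[P] N →+ G := TensorProduct.liftAddHom g hg
  have key : ∀ t : S ⊗[P] N, ∃ (l : ℕ) (r : Fin l → R) (y : Fin l → N),
      t = ∑ i, εS (r i) ⊗ₜ[P] y i := by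
    intro t
    induction t using TensorProduct.induction_on with
    | zero => exact ⟨0, Fin.elim0, Fin.elim0, by simp⟩
    | tmul c₀ x₀ =>
      obtain ⟨l, r, p, hc⟩ := hB1 c₀
      refine ⟨l, r, fun i => p i • x₀, ?_⟩
      rw [hc, TensorProduct.sum_tmul]
      refine Finset.sum_congr rfl fun i _ => ?_
      rw [← TensorProduct.smul_tmul, Algebra.smul_def, mul_comm]
      rfl
    | add a b ha hb =>
      obtain ⟨l₁, r₁, y₁, h₁⟩ := ha
      obtain ⟨l₂, r₂, y₂, h₂⟩ := hb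
      refine ⟨l₁ + l₂, Fin.append r₁ r₂, Fin.append y₁ y₂, ?_⟩
      rw [h₁, h₂, Fin.sum_univ_add]
      simp only [Fin.append_left, Fin.append_right]
  obtain ⟨l', r, y, ht⟩ := key (∑ j, c j ⊗ₜ[P] x j)
  have h1 : μ (∑ j, c j ⊗ₜ[P] x j) = 0 := by
    rw [map_sum]
    exact h0
  rw [ht, map_sum] at h1
  have h2 := hB2 l' r y h1
  rw [ht]
  exact h2

end Alg

section BC

variable {R R' A B : Type u} [CommRing R'] [CommRing R] [Algebra R' R]
    [CommRing B] [Algebra R' B] (ℬ : ℕ → Submodule R' B) [GradedAlgebra ℬ]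
    [CommRing A] [Algebra R A] [Algebra R' A] [IsScalarTower R' R A] (𝒜 : ℕ → Submodule R A)
    [GradedAlgebra 𝒜]
    [Algebra B A] [IsScalarTower R' B A] [Algebra.IsPushout R' R B A]
    (φ : ℬ →+*ᵍ 𝒜) (hφA : ∀ b : B, φ b = algebraMap B A b)
    (hφ : HomogeneousIdeal.irrelevant 𝒜 ≤ (HomogeneousIdeal.irrelevant ℬ).map φ) (n : ℤ)

/-- the ring map on sections -/
noncomputable abbrev rho (f : B) :
    Γ(Proj ℬ, Proj.basicOpen ℬ f) →+* Γ(Proj 𝒜, Proj.map φ hφ ⁻¹ᵁ Proj.basicOpen ℬ f) :=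
  ((Proj.map φ hφ).appLE (Proj.basicOpen ℬ f) (Proj.map φ hφ ⁻¹ᵁ Proj.basicOpen ℬ f) le_rfl).hom

theorem rval_rho (f : B) (c : Γ(Proj ℬ, Proj.basicOpen ℬ f))
    (y : ↥(Proj.map φ hφ ⁻¹ᵁ Proj.basicOpen ℬ f)) :
    rval 𝒜 (rho ℬ 𝒜 φ hφ f c) y =
      HomogeneousLocalization.localRingHom φ _ _ rfl
        (rval ℬ c ⟨ProjectiveSpectrum.comap φ hφ y.1, y.2⟩) := rfl

theorem comap_frac {d : ℕ} {f : B} (hf : f ∈ ℬ d) (k m : ℕ)
    (hm : (m : ℤ) = ((k * d : ℕ) : ℤ) + n) (b : B) (hb : b ∈ ℬ m) :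
    pushSec (Proj.map φ hφ) (GrTwist.twist 𝒜 n) (Proj.basicOpen ℬ f)
      ((GrTwist.comap φ hφ n).app (Proj.basicOpen ℬ f) (frac ℬ n hf k m hm b hb)) =
    frac 𝒜 n (φ.2 hf) k m hm (φ b) (φ.2 hb) := by
  refine sec_ext 𝒜 _ _ fun y => ?_
  rw [val_frac]
  refine (GrTwist.comap_app_val φ hφ n (Proj.basicOpen ℬ f) _ y).trans ?_
  have h1 := val_frac ℬ n hf k m hm b hb ⟨ProjectiveSpectrum.comap φ hφ y.1, y.2⟩
  refine (congrArg (GrTwist.locMap φ hφ y.1) h1).trans ?_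
  rw [GrTwist.locMap_mk]
  congr 1
  exact Subtype.ext (map_pow φ f k)

theorem O_ext {W : (Proj 𝒜).Opens} (a b : Γ(Proj 𝒜, W))
    (h : ∀ x : W, (rval 𝒜 a x).val = (rval 𝒜 b x).val) : a = b :=
  Subtype.ext (funext fun x => HomogeneousLocalization.val_injective _ (h x))

include hφA in
theorem rho_constHom (f : B) (r' : R') :
    rho ℬ 𝒜 φ hφ f (constHom ℬ f r') = constHom 𝒜 (φ f) (algebraMap R' R r') := by
  refine O_ext 𝒜 _ _ fun y => ?_
  rw [rval_rho, HomogeneousLocalization.val_localRingHom]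
  have h1 := rval_constHom ℬ f r' ⟨ProjectiveSpectrum.comap φ hφ y.1, y.2⟩
  have h2 := rval_constHom 𝒜 (φ f) (algebraMap R' R r') y
  refine (congrArg _ h1).trans (Eq.trans ?_ h2.symm)
  refine (Localization.localRingHom_to_map _ _ _ _ _).trans ?_
  congr 1
  show φ (algebraMap R' B r') = _
  rw [hφA, ← IsScalarTower.algebraMap_apply, ← IsScalarTower.algebraMap_apply]

/-- the constant sections over `Φ⁻¹ D₊(f) = D₊(φ f)` -/
noncomputable abbrev eps (f : B) :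
    R →+* Γ(Proj 𝒜, Proj.map φ hφ ⁻¹ᵁ Proj.basicOpen ℬ f) := constHom 𝒜 (φ f)

include hφA in
/-- (B2) -/
theorem B2 {d : ℕ} (hd : 0 < d) {f : B} (hf : f ∈ ℬ d) (l : ℕ) (r : Fin l → R)
    (y : Fin l → Γ(GrTwist.twist ℬ n, Proj.basicOpen ℬ f))
    (h0 : ∑ i, eps ℬ 𝒜 φ hφ f (r i) •
        pushSec (Proj.map φ hφ) (GrTwist.twist 𝒜 n) (Proj.basicOpen ℬ f)
          ((GrTwist.comap φ hφ n).app (Proj.basicOpen ℬ f) (y i)) = 0) :
    Groth.Agent.H24.TensorStage.SumZero (rho ℬ 𝒜 φ hφ f)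
      (fun i => eps ℬ 𝒜 φ hφ f (r i)) y := by
  classical
  obtain ⟨k, m, hm, b, hb, hy⟩ := exists_frac_family ℬ n hd hf y
  have hfA : φ f ∈ 𝒜 d := φ.2 hf
  set a : A := ∑ i, r i • φ (b i) with ha_def
  have ha : a ∈ 𝒜 m := Submodule.sum_mem _ fun i _ => Submodule.smul_mem _ _ (φ.2 (hb i))
  -- the sum is the fraction `a / (φ f)^k`
  have hsum : ∑ i, eps ℬ 𝒜 φ hφ f (r i) •
        pushSec (Proj.map φ hφ) (GrTwist.twist 𝒜 n) (Proj.basicOpen ℬ f)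
          ((GrTwist.comap φ hφ n).app (Proj.basicOpen ℬ f) (y i)) =
      frac 𝒜 n hfA k m hm a ha := by
    have h1 : ∀ i, eps ℬ 𝒜 φ hφ f (r i) •
        pushSec (Proj.map φ hφ) (GrTwist.twist 𝒜 n) (Proj.basicOpen ℬ f)
          ((GrTwist.comap φ hφ n).app (Proj.basicOpen ℬ f) (y i)) =
        frac 𝒜 n hfA k m hm (r i • φ (b i)) (Submodule.smul_mem _ _ (φ.2 (hb i))) := by
      intro i
      rw [hy i, comap_frac]
      exact (frac_const_smul 𝒜 n hfA k m hm (r i) (φ (b i)) (φ.2 (hb i))).symm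
    rw [Finset.sum_congr rfl fun i _ => h1 i]
    exact (frac_sum 𝒜 n hfA k m hm (fun i => r i • φ (b i))
      (fun i => Submodule.smul_mem _ _ (φ.2 (hb i))) ha).symm
  rw [hsum] at h0
  have hloc : ∀ x : ProjectiveSpectrum 𝒜, φ f ∉ x.asHomogeneousIdeal →
      ∃ c : A, c ∉ x.asHomogeneousIdeal ∧ c • a = 0 := by
    intro x hx
    have h1 := congrArg (fun s => GrTwist.val s
      (⟨x, (ProjectiveSpectrum.mem_basicOpen 𝒜 (φ f) x).mpr hx⟩ : Proj.basicOpen 𝒜 (φ f))) h0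
    change Localization.mk a _ = 0 at h1
    rw [Localization.mk_eq_mk', IsLocalization.mk'_eq_zero_iff] at h1
    obtain ⟨c, hc⟩ := h1
    exact ⟨c.1, c.2, hc⟩
  obtain ⟨N, hN⟩ :=
    Groth.Agent.H41.GrModSections.exists_pow_smul_eq_zero_of_forall_localized_eq_zero 𝒜 𝒜 hd hfA
      ha hloc
  have hb'' : ∀ i, f ^ N * b i ∈ ℬ (N * d + m) := fun i =>
    SetLike.mul_mem_graded (by simpa [mul_comm] using SetLike.pow_mem_graded N hf) (hb i)
  have hrel : ∑ i, r i • φ ((⟨f ^ N * b i, hb'' i⟩ : ℬ (N * d + m)) : B) = 0 := by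
    have : ∀ i, r i • φ (f ^ N * b i) = φ f ^ N * (r i • φ (b i)) := fun i => by
      rw [map_mul, map_pow, mul_smul_comm]
    simp only [this, ← Finset.mul_sum]
    rw [← ha_def, ← smul_eq_mul]
    exact hN
  have hten := Groth.Agent.H2.BCTw.sum_tmul_eq_zero ℬ 𝒜 φ hφA (N * d + m) l r
    (fun i => ⟨f ^ N * b i, hb'' i⟩) hrel
  have hm' : ((N * d + m : ℕ) : ℤ) = (((k + N) * d : ℕ) : ℤ) + n := by
    push_cast at hm ⊢
    rw [hm]; ring
  let θ : ℬ (N * d + m) →+ Γ(GrTwist.twist ℬ n, Proj.basicOpen ℬ f) :=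
    { toFun := fun q => frac ℬ n hf (k + N) (N * d + m) hm' q.1 q.2
      map_zero' := frac_zero ℬ n hf (k + N) (N * d + m) hm' _
      map_add' := fun q q' => frac_add ℬ n hf (k + N) (N * d + m) hm' q.1 q'.1 q.2 q'.2 }
  have hθ : ∀ (r' : R') (q : ℬ (N * d + m)), θ (r' • q) = constHom ℬ f r' • θ q := fun r' q =>
    frac_const_smul ℬ n hf (k + N) (N * d + m) hm' r' q.1 q.2
  have key := sumZero_of_tmul_eq_zero (rho ℬ 𝒜 φ hφ f) (eps ℬ 𝒜 φ hφ f) (constHom ℬ f)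
    (fun r' => rho_constHom ℬ 𝒜 φ hφA hφ f r') θ hθ r (fun i => ⟨f ^ N * b i, hb'' i⟩) hten
  have hy' : (fun i => θ (⟨f ^ N * b i, hb'' i⟩ : ℬ (N * d + m))) = y := by
    funext i
    rw [hy i]
    exact frac_mul_pow ℬ n hf k m hm (b i) (hb i) N (N * d + m) hm' (hb'' i)
  rw [hy'] at key
  exact key

theorem comap_smul (f : B) (p : Γ(Proj ℬ, Proj.basicOpen ℬ f))
    (x : Γ(GrTwist.twist ℬ n, Proj.basicOpen ℬ f)) :
    pushSec (Proj.map φ hφ) (GrTwist.twist 𝒜 n) (Proj.basicOpen ℬ f)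
        ((GrTwist.comap φ hφ n).app (Proj.basicOpen ℬ f) (p • x)) =
      rho ℬ 𝒜 φ hφ f p • pushSec (Proj.map φ hφ) (GrTwist.twist 𝒜 n) (Proj.basicOpen ℬ f)
        ((GrTwist.comap φ hφ n).app (Proj.basicOpen ℬ f) x) := by
  refine sec_ext 𝒜 _ _ fun y => ?_
  rw [val_smul', rval_rho, HomogeneousLocalization.val_localRingHom]
  refine (GrTwist.comap_app_val φ hφ n (Proj.basicOpen ℬ f) _ y).trans ?_
  have h1 := val_smul' ℬ p x ⟨ProjectiveSpectrum.comap φ hφ y.1, y.2⟩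
  refine (congrArg (GrTwist.locMap φ hφ y.1) h1).trans ?_
  rw [map_mul]
  rfl

include hφA in
/-- (INJ) -/
theorem sumZero_of_sum_eq_zero (d : ℕ) (hd : 0 < d) (f : B) (hf : f ∈ ℬ d) (l : ℕ)
    (c : Fin l → Γ(Proj 𝒜, Proj.map φ hφ ⁻¹ᵁ Proj.basicOpen ℬ f))
    (x : Fin l → Γ(GrTwist.twist ℬ n, Proj.basicOpen ℬ f))
    (h0 : ∑ j, c j • pushSec (Proj.map φ hφ) (GrTwist.twist 𝒜 n) (Proj.basicOpen ℬ f)
        ((GrTwist.comap φ hφ n).app (Proj.basicOpen ℬ f) (x j)) = 0) :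
    Groth.Agent.H24.TensorStage.SumZero
      ((Proj.map φ hφ).appLE (Proj.basicOpen ℬ f) (Proj.map φ hφ ⁻¹ᵁ Proj.basicOpen ℬ f)
        le_rfl).hom c x := by
  let α : Γ(GrTwist.twist ℬ n, Proj.basicOpen ℬ f) →+
      Γ(GrTwist.twist 𝒜 n, Proj.map φ hφ ⁻¹ᵁ Proj.basicOpen ℬ f) :=
    { toFun := fun x₀ => pushSec (Proj.map φ hφ) (GrTwist.twist 𝒜 n) (Proj.basicOpen ℬ f)
        ((GrTwist.comap φ hφ n).app (Proj.basicOpen ℬ f) x₀)
      map_zero' := map_zero _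
      map_add' := fun a b => map_add _ a b }
  exact sumZero_of_generators (rho ℬ 𝒜 φ hφ f) (fun r => eps ℬ 𝒜 φ hφ f r) α
    (fun p x₀ => comap_smul ℬ 𝒜 φ hφ n f p x₀)
    (fun c₀ => Groth.Agent.H98.BCTw_B1.exists_sum_mul_eq ℬ 𝒜 φ hφA hφ d hd f hf c₀)
    (fun l' r y h => B2 ℬ 𝒜 φ hφA hφ n hd hf l' r y h) c x h0

end BC

end Groth.Agent.H88.BCTwInj
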