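import Groth.Agent.H88.BCTwInj

/-!
# (SURJ) for S4406 (helper88)
-/

set_option autoImplicit false
universe u
open CategoryTheory CategoryTheory.Limits AlgebraicGeometry Opposite TopologicalSpace TensorProduct
open scoped HomogeneousIdeal
open Groth.Agent.H88.BCTw
open Groth.Agent.H41.GrModQCoh (rval)

namespace Groth.Agent.H88.BCTwSurj

open Groth.Agent.H88.BCTwInj

variable {R R' A B : Type u} [CommRing R'] [CommRing R] [Algebra R' R]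
    [CommRing B] [Algebra R' B] (ℬ : ℕ → Submodule R' B) [GradedAlgebra ℬ]
    [CommRing A] [Algebra R A] [Algebra R' A] [IsScalarTower R' R A] (𝒜 : ℕ → Submodule R A)
    [GradedAlgebra 𝒜]
    [Algebra B A] [IsScalarTower R' B A] [Algebra.IsPushout R' R B A]
    (φ : ℬ →+*ᵍ 𝒜) (hφA : ∀ b : B, φ b = algebraMap B A b)
    (hφ : HomogeneousIdeal.irrelevant 𝒜 ≤ (HomogeneousIdeal.irrelevant ℬ).map φ) (n : ℤ)

include hφA in
/-- (SURJ) -/
theorem exists_sum_eq (d : ℕ) (hd : 0 < d) (f : B) (hf : f ∈ ℬ d)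
    (t : Γ(GrTwist.twist 𝒜 n, Proj.map φ hφ ⁻¹ᵁ Proj.basicOpen ℬ f)) :
    ∃ (l : ℕ) (c : Fin l → Γ(Proj 𝒜, Proj.map φ hφ ⁻¹ᵁ Proj.basicOpen ℬ f))
      (x : Fin l → Γ(GrTwist.twist ℬ n, Proj.basicOpen ℬ f)),
      t = ∑ j, c j • pushSec (Proj.map φ hφ) (GrTwist.twist 𝒜 n) (Proj.basicOpen ℬ f)
        ((GrTwist.comap φ hφ n).app (Proj.basicOpen ℬ f) (x j)) := by
  have hfA : φ f ∈ 𝒜 d := φ.2 hf
  obtain ⟨k, m, hm, a, ha, ht⟩ := exists_frac 𝒜 n hd hfA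
    (show Γ(GrTwist.twist 𝒜 n, Proj.basicOpen 𝒜 (φ f)) from t)
  obtain ⟨l, r, b, hb, hab⟩ := Groth.Agent.H44.BCTw_A1.exists_sum_smul_eq ℬ 𝒜 φ hφA m a ha
  refine ⟨l, fun j => eps ℬ 𝒜 φ hφ f (r j), fun j => frac ℬ n hf k m hm (b j) (hb j), ?_⟩
  have h1 : ∀ j, eps ℬ 𝒜 φ hφ f (r j) •
      pushSec (Proj.map φ hφ) (GrTwist.twist 𝒜 n) (Proj.basicOpen ℬ f)
        ((GrTwist.comap φ hφ n).app (Proj.basicOpen ℬ f) (frac ℬ n hf k m hm (b j) (hb j))) =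
      frac 𝒜 n hfA k m hm (r j • φ (b j)) (Submodule.smul_mem _ _ (φ.2 (hb j))) := by
    intro j
    rw [comap_frac]
    exact (frac_const_smul 𝒜 n hfA k m hm (r j) (φ (b j)) (φ.2 (hb j))).symm
  rw [Finset.sum_congr rfl fun j _ => h1 j]
  refine Eq.trans ht ?_
  refine (frac_congr 𝒜 n hfA k m hm hab ha
    (Submodule.sum_mem _ fun j _ => Submodule.smul_mem _ _ (φ.2 (hb j)))).trans ?_
  exact frac_sum 𝒜 n hfA k m hm (fun j => r j • φ (b j))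
    (fun j => Submodule.smul_mem _ _ (φ.2 (hb j))) _

end Groth.Agent.H88.BCTwSurj
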