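import Mathlib.NumberTheory.ZetaValues

set_option autoImplicit false

namespace Groth.Agent.H88

open Real

/-- Sign of the even Bernoulli numbers. -/
theorem bernoulli_even_sign {k : ℕ} (hk : k ≠ 0) : 0 < (-1 : ℚ) ^ (k + 1) * bernoulli (2 * k) := by
  have hsum := hasSum_zeta_nat hk
  have hpos : 0 < ∑' n : ℕ, 1 / (n : ℝ) ^ (2 * k) := by
    apply hsum.summable.tsum_pos (fun n => by positivity) 1
    simp
  rw [hsum.tsum_eq] at hpos
  have hfac : (0 : ℝ) < (2 : ℝ) ^ (2 * k - 1) * π ^ (2 * k) / ((2 * k).factorial : ℝ) := by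
    positivity
  have heq : (-1 : ℝ) ^ (k + 1) * (2 : ℝ) ^ (2 * k - 1) * π ^ (2 * k) *
        (bernoulli (2 * k) : ℝ) / ((2 * k).factorial : ℝ) =
      ((-1 : ℝ) ^ (k + 1) * (bernoulli (2 * k) : ℝ)) *
        ((2 : ℝ) ^ (2 * k - 1) * π ^ (2 * k) / ((2 * k).factorial : ℝ)) := by ring
  rw [heq] at hpos
  have h1 : (0 : ℝ) < (-1 : ℝ) ^ (k + 1) * (bernoulli (2 * k) : ℝ) :=
    (mul_pos_iff_of_pos_right hfac).mp hpos
  have h2 : ((((-1 : ℚ) ^ (k + 1) * bernoulli (2 * k) : ℚ)) : ℝ) =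
      (-1 : ℝ) ^ (k + 1) * (bernoulli (2 * k) : ℝ) := by push_cast; ring
  rw [← h2] at h1
  exact_mod_cast h1

theorem bernoulli'_neg_of_mod_four_eq_zero {n : ℕ} (hn : 0 < n) (h : n % 4 = 0) :
    bernoulli' n < 0 := by
  obtain ⟨j, rfl⟩ : ∃ j, n = 2 * (2 * j) := ⟨n / 4, by omega⟩
  have hj : 2 * j ≠ 0 := by omega
  have hs := bernoulli_even_sign hj
  rw [← bernoulli_eq_bernoulli'_of_ne_one (by omega : 2 * (2 * j) ≠ 1)]
  have : (-1 : ℚ) ^ (2 * j + 1) = -1 := by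
    rw [pow_succ, pow_mul]; simp
  rw [this] at hs
  linarith

theorem bernoulli'_pos_of_mod_four_eq_two {n : ℕ} (h : n % 4 = 2) :
    0 < bernoulli' n := by
  obtain ⟨j, rfl⟩ : ∃ j, n = 2 * (2 * j + 1) := ⟨n / 4, by omega⟩
  have hj : 2 * j + 1 ≠ 0 := by omega
  have hs := bernoulli_even_sign hj
  rw [← bernoulli_eq_bernoulli'_of_ne_one (by omega : 2 * (2 * j + 1) ≠ 1)]
  have : (-1 : ℚ) ^ (2 * j + 1 + 1) = 1 := by
    rw [pow_succ, pow_succ, pow_mul]; simp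
  rw [this] at hs
  linarith

end Groth.Agent.H88
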