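import Mathlib
import Groth.Prelude.Def_W4c2conddiscmodels

/-!
Helper library (helper88): contraction of a connecting chain in a multigraph with multiplicity
function; used by S14800, S14801, S14802.
-/

set_option autoImplicit false
universe u
open Finset

namespace Groth.Agent.H88.ChainCtr

open LabGraph DualGr

section General

variable {V E : Type u} [Fintype V] [Fintype E] [DecidableEq V] [DecidableEq E]

/-- contribution of the edge `e` to the neighbour sum of `x` at `v` -/
def tterm (ends : E → V × V) (x : V → ℤ) (v : V) (e : E) : ℤ :=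
  (if (ends e).1 = v ∧ (ends e).2 ≠ v then x (ends e).2 else 0) +
  (if (ends e).2 = v ∧ (ends e).1 ≠ v then x (ends e).1 else 0)

/-- neighbour sum in edge form -/
def nsum (ends : E → V × V) (x : V → ℤ) (v : V) : ℤ := ∑ e : E, tterm ends x v e

theorem tterm_nonneg (ends : E → V × V) (x : V → ℤ) (hx : ∀ v, 0 ≤ x v) (v : V) (e : E) :
    0 ≤ tterm ends x v e := by
  unfold tterm
  apply add_nonneg
  · split_ifs
    · exact hx _
    · exact le_refl 0
  · split_ifs
    · exact hx _
    · exact le_refl 0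

theorem tterm_pos (ends : E → V × V) (β : V → ℤ) (hpos : ∀ v, 0 < β v) (v : V) (e : E)
    (h : ((ends e).1 = v ∧ (ends e).2 ≠ v) ∨ ((ends e).2 = v ∧ (ends e).1 ≠ v)) :
    0 < tterm ends β v e := by
  unfold tterm
  rcases h with h | h
  · have h2 : ¬ ((ends e).2 = v ∧ (ends e).1 ≠ v) := fun h' => h.2 h'.1
    rw [if_pos h, if_neg h2, add_zero]; exact hpos _
  · have h1 : ¬ ((ends e).1 = v ∧ (ends e).2 ≠ v) := fun h' => h.2 h'.1
    rw [if_neg h1, if_pos h, zero_add]; exact hpos _

theorem tterm_eq_zero_of (ends : E → V × V) (x β : V → ℤ) (hpos : ∀ v, 0 < β v) (v : V) (e : E)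
    (h : tterm ends β v e = 0) : tterm ends x v e = 0 := by
  by_cases c : ((ends e).1 = v ∧ (ends e).2 ≠ v) ∨ ((ends e).2 = v ∧ (ends e).1 ≠ v)
  · have := tterm_pos ends β hpos v e c; omega
  · unfold tterm
    rw [if_neg (not_or.mp c).1, if_neg (not_or.mp c).2, add_zero]

theorem tterm_of_ends' (ends : E → V × V) (x : V → ℤ) (p q v : V) (hpq : p ≠ q) (e : E)
    (h : ends e = (p, q) ∨ ends e = (q, p)) :
    tterm ends x v e = (if p = v then x q else 0) + (if q = v then x p else 0) := by
  unfold tterm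
  rcases h with h | h
  · rw [h]; dsimp only
    by_cases h1 : p = v
    · have h2 : ¬ q = v := fun h2 => hpq (h1.trans h2.symm)
      have c1 : p = v ∧ q ≠ v := ⟨h1, h2⟩
      have c2 : ¬ (q = v ∧ p ≠ v) := fun hh => h2 hh.1
      rw [if_pos c1, if_neg c2, if_pos h1, if_neg h2]
    · by_cases h2 : q = v
      · have c1 : ¬ (p = v ∧ q ≠ v) := fun hh => h1 hh.1
        have c2 : q = v ∧ p ≠ v := ⟨h2, h1⟩
        rw [if_neg c1, if_pos c2, if_neg h1, if_pos h2]
      · have c1 : ¬ (p = v ∧ q ≠ v) := fun hh => h1 hh.1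
        have c2 : ¬ (q = v ∧ p ≠ v) := fun hh => h2 hh.1
        rw [if_neg c1, if_neg c2, if_neg h1, if_neg h2]
  · rw [h]; dsimp only
    by_cases h1 : p = v
    · have h2 : ¬ q = v := fun h2 => hpq (h1.trans h2.symm)
      have c1 : ¬ (q = v ∧ p ≠ v) := fun hh => h2 hh.1
      have c2 : p = v ∧ q ≠ v := ⟨h1, h2⟩
      rw [if_neg c1, if_pos c2, if_pos h1, if_neg h2, add_comm]
    · by_cases h2 : q = v
      · have c1 : q = v ∧ p ≠ v := ⟨h2, h1⟩
        have c2 : ¬ (p = v ∧ q ≠ v) := fun hh => h1 hh.1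
        rw [if_pos c1, if_neg c2, if_neg h1, if_pos h2, add_comm]
      · have c1 : ¬ (q = v ∧ p ≠ v) := fun hh => h2 hh.1
        have c2 : ¬ (p = v ∧ q ≠ v) := fun hh => h1 hh.1
        rw [if_neg c1, if_neg c2, if_neg h1, if_neg h2]

theorem sum_mult_eq_nsum (ends : E → V × V) (x : V → ℤ) (v : V) :
    ∑ w ∈ univ.erase v, x w * (edgeMult ends v w : ℤ) = nsum ends x v := by
  unfold nsum tterm edgeMult
  simp_rw [Finset.natCast_card_filter, Finset.mul_sum]
  rw [Finset.sum_comm]
  refine Finset.sum_congr rfl fun e _ => ?_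
  have key : ∀ w ∈ univ.erase v, x w * (if ends e = (v, w) ∨ ends e = (w, v) then (1:ℤ) else 0) =
      (if (ends e).1 = v ∧ w = (ends e).2 then x w else 0) +
      (if (ends e).2 = v ∧ w = (ends e).1 then x w else 0) := by
    intro w hw
    have hwv : w ≠ v := Finset.ne_of_mem_erase hw
    rcases hE : ends e with ⟨a, b⟩
    simp only [Prod.mk.injEq]
    by_cases h1 : a = v ∧ w = b
    · have h2 : ¬ (b = v ∧ w = a) := by
        rintro ⟨hb, -⟩; exact hwv (h1.2.trans hb)
      have h3 : (a = v ∧ b = w) ∨ (a = w ∧ b = v) := Or.inl ⟨h1.1, h1.2.symm⟩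
      rw [if_pos h3, if_pos h1, if_neg h2]; ring
    · by_cases h2 : b = v ∧ w = a
      · have h3 : (a = v ∧ b = w) ∨ (a = w ∧ b = v) := Or.inr ⟨h2.2.symm, h2.1⟩
        rw [if_pos h3, if_neg h1, if_pos h2]; ring
      · have h3 : ¬ ((a = v ∧ b = w) ∨ (a = w ∧ b = v)) := by
          rintro (⟨ha, hb⟩ | ⟨ha, hb⟩)
          · exact h1 ⟨ha, hb.symm⟩
          · exact h2 ⟨hb, ha.symm⟩
        rw [if_neg h3, if_neg h1, if_neg h2]; ring
  refine (Finset.sum_congr rfl key).trans ?_
  rw [Finset.sum_add_distrib]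
  congr 1
  · by_cases h : (ends e).1 = v
    · by_cases h' : (ends e).2 = v
      · have c : ¬ ((ends e).1 = v ∧ (ends e).2 ≠ v) := fun hh => hh.2 h'
        rw [if_neg c]
        apply Finset.sum_eq_zero
        intro w hw
        have c' : ¬ ((ends e).1 = v ∧ w = (ends e).2) := by
          rintro ⟨-, hw2⟩
          exact Finset.ne_of_mem_erase hw (hw2.trans h')
        rw [if_neg c']
      · have c : (ends e).1 = v ∧ (ends e).2 ≠ v := ⟨h, h'⟩
        rw [if_pos c, Finset.sum_eq_single (ends e).2]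
        · have c' : (ends e).1 = v ∧ (ends e).2 = (ends e).2 := ⟨h, rfl⟩
          rw [if_pos c']
        · intro w _ hne
          have c' : ¬ ((ends e).1 = v ∧ w = (ends e).2) := fun hh => hne hh.2
          rw [if_neg c']
        · intro hh; exact absurd (Finset.mem_erase.mpr ⟨h', Finset.mem_univ _⟩) hh
    · have c : ¬ ((ends e).1 = v ∧ (ends e).2 ≠ v) := fun hh => h hh.1
      rw [if_neg c]
      apply Finset.sum_eq_zero
      intro w _
      have c' : ¬ ((ends e).1 = v ∧ w = (ends e).2) := fun hh => h hh.1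
      rw [if_neg c']
  · by_cases h : (ends e).2 = v
    · by_cases h' : (ends e).1 = v
      · have c : ¬ ((ends e).2 = v ∧ (ends e).1 ≠ v) := fun hh => hh.2 h'
        rw [if_neg c]
        apply Finset.sum_eq_zero
        intro w hw
        have c' : ¬ ((ends e).2 = v ∧ w = (ends e).1) := by
          rintro ⟨-, hw2⟩
          exact Finset.ne_of_mem_erase hw (hw2.trans h')
        rw [if_neg c']
      · have c : (ends e).2 = v ∧ (ends e).1 ≠ v := ⟨h, h'⟩
        rw [if_pos c, Finset.sum_eq_single (ends e).1]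
        · have c' : (ends e).2 = v ∧ (ends e).1 = (ends e).1 := ⟨h, rfl⟩
          rw [if_pos c']
        · intro w _ hne
          have c' : ¬ ((ends e).2 = v ∧ w = (ends e).1) := fun hh => hne hh.2
          rw [if_neg c']
        · intro hh; exact absurd (Finset.mem_erase.mpr ⟨h', Finset.mem_univ _⟩) hh
    · have c : ¬ ((ends e).2 = v ∧ (ends e).1 ≠ v) := fun hh => h hh.1
      rw [if_neg c]
      apply Finset.sum_eq_zero
      intro w _
      have c' : ¬ ((ends e).2 = v ∧ w = (ends e).1) := fun hh => h hh.1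
      rw [if_neg c']

theorem mulVec_apply_eq (ends : E → V × V) (β x : V → ℤ) (v : V) :
    (mfMatrix ends β).mulVec x v = mfMatrix ends β v v * x v + nsum ends x v := by
  rw [← sum_mult_eq_nsum]
  have h0 : (mfMatrix ends β).mulVec x v = ∑ w, mfMatrix ends β v w * x w := rfl
  rw [h0, ← Finset.add_sum_erase univ _ (Finset.mem_univ v)]
  congr 1
  refine Finset.sum_congr rfl fun w hw => ?_
  have hwv : v ≠ w := (Finset.ne_of_mem_erase hw).symm
  have h1 : mfMatrix ends β v w = (edgeMult ends v w : ℤ) := if_neg hwv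
  rw [h1]; ring

theorem beta_mul_diag (ends : E → V × V) (β : V → ℤ) (hβ : IsMultFn ends β) (v : V) :
    β v * mfMatrix ends β v v = - nsum ends β v := by
  have h := (hβ v).2
  rw [← sum_mult_eq_nsum]
  have hd : mfMatrix ends β v v = -(∑ u ∈ univ.erase v, β u * (edgeMult ends v u : ℤ)) / β v :=
    if_pos rfl
  rw [hd]
  exact Int.mul_ediv_cancel' ((dvd_neg).mpr h)

theorem beta_mul_mulVec (ends : E → V × V) (β : V → ℤ) (hβ : IsMultFn ends β) (ζ : V → ℤ) (v : V) :
    β v * (mfMatrix ends β).mulVec ζ v = β v * nsum ends ζ v - ζ v * nsum ends β v := by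
  rw [mulVec_apply_eq, mul_add, ← mul_assoc, beta_mul_diag ends β hβ v]; ring

theorem mulVec_beta (ends : E → V × V) (β : V → ℤ) (hβ : IsMultFn ends β) (v : V) :
    (mfMatrix ends β).mulVec β v = 0 := by
  have h := beta_mul_diag ends β hβ v
  rw [mulVec_apply_eq]
  have : mfMatrix ends β v v * β v = β v * mfMatrix ends β v v := mul_comm _ _
  linarith

theorem edgeMult_comm (ends : E → V × V) (v w : V) : edgeMult ends v w = edgeMult ends w v := by
  unfold edgeMult
  congr 1
  apply Finset.filter_congr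
  intro e' _
  exact or_comm

theorem mfMatrix_symm_apply (ends : E → V × V) (β : V → ℤ) (v w : V) (h : v ≠ w) :
    mfMatrix ends β v w = mfMatrix ends β w v := by
  have h1 : mfMatrix ends β v w = (edgeMult ends v w : ℤ) := if_neg h
  have h2 : mfMatrix ends β w v = (edgeMult ends w v : ℤ) := if_neg h.symm
  rw [h1, h2, edgeMult_comm]

theorem betaHom_apply (β x : V → ℤ) : betaHom β x = ∑ v, x v * β v := by
  simp [betaHom, Fintype.linearCombination_apply]

theorem betaHom_mulVec (ends : E → V × V) (β : V → ℤ) (hβ : IsMultFn ends β) (z : V → ℤ) :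
    betaHom β ((mfMatrix ends β).mulVec z) = 0 := by
  rw [betaHom_apply]
  have h1 : ∀ v, (mfMatrix ends β).mulVec z v * β v = ∑ w, z w * (mfMatrix ends β w v * β v) := by
    intro v
    have h0 : (mfMatrix ends β).mulVec z v = ∑ w, mfMatrix ends β v w * z w := rfl
    rw [h0, Finset.sum_mul]
    refine Finset.sum_congr rfl fun w _ => ?_
    by_cases h : v = w
    · subst h; ring
    · rw [mfMatrix_symm_apply ends β v w h]; ring
  rw [Finset.sum_congr rfl (fun v _ => h1 v), Finset.sum_comm]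
  apply Finset.sum_eq_zero
  intro w _
  rw [← Finset.mul_sum]
  have h0 : ∑ v, mfMatrix ends β w v * β v = 0 := mulVec_beta ends β hβ w
  rw [h0, mul_zero]

theorem mulVec_single_one_apply (M : Matrix V V ℤ) (w v : V) :
    M.mulVec (Pi.single w 1) v = M v w := by
  have h0 : M.mulVec (Pi.single w 1) v = ∑ u, M v u * (Pi.single w (1:ℤ) : V → ℤ) u := rfl
  rw [h0, Finset.sum_eq_single w]
  · simp
  · intro u _ hu; simp [hu]
  · intro h; exact absurd (Finset.mem_univ _) h

/-! ### general contraction -/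

theorem ctrFn_mk (ends : E → V × V) (D : Finset E) (β : V → ℤ)
    (hcl : ∀ v w, ctrMk ends D v = ctrMk ends D w → β v = β w) (v : V) :
    ctrFn ends D β (ctrMk ends D v) = β v := by
  unfold ctrFn
  apply hcl
  exact Quotient.out_eq _

theorem sum_ctrEdge (D : Finset E) (F : E → ℤ) :
    ∑ e : CtrEdge D, F e.1 = ∑ e : E, if e ∉ D then F e else 0 := by
  rw [← Finset.sum_filter]
  exact (Finset.sum_subtype (Finset.univ.filter (fun e : E => e ∉ D)) (p := fun e => e ∉ D)
    (by intro e; simp) F).symm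

/-- twice the number of non-loop edges inside the class `c` -/
noncomputable def kin (ends : E → V × V) (D : Finset E) (c : CtrVert ends D) : ℤ :=
  ∑ e : E, if ctrMk ends D (ends e).1 = c ∧ ctrMk ends D (ends e).2 = c ∧ (ends e).1 ≠ (ends e).2
    then 2 else 0

theorem sum_class_nsum (ends : E → V × V) (D : Finset E) (x : V → ℤ) (c : CtrVert ends D) :
    ∑ v ∈ univ.filter (fun v => ctrMk ends D v = c), nsum ends x v =
      ∑ e : E, ((if ctrMk ends D (ends e).1 = c ∧ (ends e).2 ≠ (ends e).1 then x (ends e).2 else 0) +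
                (if ctrMk ends D (ends e).2 = c ∧ (ends e).1 ≠ (ends e).2 then x (ends e).1 else 0)) := by
  unfold nsum tterm
  rw [Finset.sum_comm]
  refine Finset.sum_congr rfl fun e _ => ?_
  rw [Finset.sum_add_distrib]
  congr 1
  · rw [Finset.sum_filter, Finset.sum_eq_single (ends e).1]
    · by_cases h : ctrMk ends D (ends e).1 = c
      · by_cases h2 : (ends e).2 = (ends e).1
        · have c1 : ¬ ((ends e).1 = (ends e).1 ∧ (ends e).2 ≠ (ends e).1) := fun hh => hh.2 h2
          have c2 : ¬ (ctrMk ends D (ends e).1 = c ∧ (ends e).2 ≠ (ends e).1) := fun hh => hh.2 h2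
          rw [if_pos h, if_neg c1, if_neg c2]
        · have c1 : (ends e).1 = (ends e).1 ∧ (ends e).2 ≠ (ends e).1 := ⟨rfl, h2⟩
          have c2 : ctrMk ends D (ends e).1 = c ∧ (ends e).2 ≠ (ends e).1 := ⟨h, h2⟩
          rw [if_pos h, if_pos c1, if_pos c2]
      · have c2 : ¬ (ctrMk ends D (ends e).1 = c ∧ (ends e).2 ≠ (ends e).1) := fun hh => h hh.1
        rw [if_neg h, if_neg c2]
    · intro v _ hv
      have c1 : ¬ ((ends e).1 = v ∧ (ends e).2 ≠ v) := fun hh => hv hh.1.symm
      rw [if_neg c1, ite_self]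
    · intro h; exact absurd (Finset.mem_univ _) h
  · rw [Finset.sum_filter, Finset.sum_eq_single (ends e).2]
    · by_cases h : ctrMk ends D (ends e).2 = c
      · by_cases h2 : (ends e).1 = (ends e).2
        · have c1 : ¬ ((ends e).2 = (ends e).2 ∧ (ends e).1 ≠ (ends e).2) := fun hh => hh.2 h2
          have c2 : ¬ (ctrMk ends D (ends e).2 = c ∧ (ends e).1 ≠ (ends e).2) := fun hh => hh.2 h2
          rw [if_pos h, if_neg c1, if_neg c2]
        · have c1 : (ends e).2 = (ends e).2 ∧ (ends e).1 ≠ (ends e).2 := ⟨rfl, h2⟩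
          have c2 : ctrMk ends D (ends e).2 = c ∧ (ends e).1 ≠ (ends e).2 := ⟨h, h2⟩
          rw [if_pos h, if_pos c1, if_pos c2]
      · have c2 : ¬ (ctrMk ends D (ends e).2 = c ∧ (ends e).1 ≠ (ends e).2) := fun hh => h hh.1
        rw [if_neg h, if_neg c2]
    · intro v _ hv
      have c1 : ¬ ((ends e).2 = v ∧ (ends e).1 ≠ v) := fun hh => hv hh.1.symm
      rw [if_neg c1, ite_self]
    · intro h; exact absurd (Finset.mem_univ _) h

theorem nsum_ctr_eq (ends : E → V × V) (D : Finset E) (x' : CtrVert ends D → ℤ) (c : CtrVert ends D) :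
    nsum (ctrEnds ends D) x' c =
      ∑ v ∈ univ.filter (fun v => ctrMk ends D v = c), nsum ends (fun v => x' (ctrMk ends D v)) v
        - x' c * kin ends D c := by
  have h1 : nsum (ctrEnds ends D) x' c = ∑ e : E, if e ∉ D then
      ((if ctrMk ends D (ends e).1 = c ∧ ctrMk ends D (ends e).2 ≠ c
          then x' (ctrMk ends D (ends e).2) else 0) +
       (if ctrMk ends D (ends e).2 = c ∧ ctrMk ends D (ends e).1 ≠ c
          then x' (ctrMk ends D (ends e).1) else 0))
      else 0 :=
    sum_ctrEdge D (fun e =>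
      (if ctrMk ends D (ends e).1 = c ∧ ctrMk ends D (ends e).2 ≠ c
          then x' (ctrMk ends D (ends e).2) else 0) +
       (if ctrMk ends D (ends e).2 = c ∧ ctrMk ends D (ends e).1 ≠ c
          then x' (ctrMk ends D (ends e).1) else 0))
  rw [h1, sum_class_nsum, kin, Finset.mul_sum, ← Finset.sum_sub_distrib]
  refine Finset.sum_congr rfl fun e _ => ?_
  by_cases h1 : ctrMk ends D (ends e).1 = c <;> by_cases h2 : ctrMk ends D (ends e).2 = c
  · by_cases hl : (ends e).1 = (ends e).2
    · simp [h1, h2, hl]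
    · have hl' : (ends e).2 ≠ (ends e).1 := fun h => hl h.symm
      simp [h1, h2, hl, hl']
      ring
  · have hD : e ∉ D := fun hD => h2 ((ctrMk_fst_eq_ctrMk_snd ends D hD).symm.trans h1)
    have hl : (ends e).1 ≠ (ends e).2 := fun h => h2 (h ▸ h1)
    have hl' : (ends e).2 ≠ (ends e).1 := fun h => hl h.symm
    simp [h1, h2, hD, hl, hl']
  · have hD : e ∉ D := fun hD => h1 ((ctrMk_fst_eq_ctrMk_snd ends D hD).trans h2)
    have hl : (ends e).1 ≠ (ends e).2 := fun h => h1 (h ▸ h2)
    have hl' : (ends e).2 ≠ (ends e).1 := fun h => hl h.symm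
    simp [h1, h2, hD, hl, hl']
  · simp [h1, h2]

theorem isMultFn_ctr (ends : E → V × V) (D : Finset E) (β : V → ℤ) (hβ : IsMultFn ends β)
    (hcl : ∀ v w, ctrMk ends D v = ctrMk ends D w → β v = β w) :
    IsMultFn (ctrEnds ends D) (ctrFn ends D β) := by
  intro c
  obtain ⟨v₀, rfl⟩ := ctrMk_surjective ends D c
  have hb : ctrFn ends D β (ctrMk ends D v₀) = β v₀ := ctrFn_mk ends D β hcl v₀
  refine ⟨by rw [hb]; exact (hβ v₀).1, ?_⟩
  rw [sum_mult_eq_nsum, nsum_ctr_eq]
  have hfun : (fun v => ctrFn ends D β (ctrMk ends D v)) = β := funext (ctrFn_mk ends D β hcl)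
  rw [hfun]
  apply dvd_sub
  · apply Finset.dvd_sum
    intro v hv
    have hv' : ctrMk ends D v = ctrMk ends D v₀ := (Finset.mem_filter.mp hv).2
    rw [hb, ← hcl v v₀ hv', ← sum_mult_eq_nsum]
    exact (hβ v).2
  · exact Dvd.intro _ rfl

theorem mulVec_ctr (ends : E → V × V) (D : Finset E) (β : V → ℤ) (hβ : IsMultFn ends β)
    (hcl : ∀ v w, ctrMk ends D v = ctrMk ends D w → β v = β w)
    (z' : CtrVert ends D → ℤ) (c : CtrVert ends D) :
    (mfMatrix (ctrEnds ends D) (ctrFn ends D β)).mulVec z' c =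
      ∑ v ∈ univ.filter (fun v => ctrMk ends D v = c),
        (mfMatrix ends β).mulVec (fun v => z' (ctrMk ends D v)) v := by
  have hβ' := isMultFn_ctr ends D β hβ hcl
  have hpos : ctrFn ends D β c ≠ 0 := (hβ' c).1.ne'
  apply Int.eq_of_mul_eq_mul_left hpos
  obtain ⟨z, hz⟩ : ∃ z : V → ℤ, z = fun v => z' (ctrMk ends D v) := ⟨_, rfl⟩
  rw [← hz]
  have hfun : (fun v => ctrFn ends D β (ctrMk ends D v)) = β := funext (ctrFn_mk ends D β hcl)
  have hterm : ∀ v ∈ univ.filter (fun v => ctrMk ends D v = c),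
      ctrFn ends D β c * (mfMatrix ends β).mulVec z v =
      ctrFn ends D β c * nsum ends z v - z' c * nsum ends β v := by
    intro v hv
    have hv' : ctrMk ends D v = c := (Finset.mem_filter.mp hv).2
    have hb : ctrFn ends D β c = β v := by rw [← hv']; exact ctrFn_mk ends D β hcl v
    have hzv : z v = z' c := by rw [hz]; exact congrArg z' hv'
    rw [hb, beta_mul_mulVec ends β hβ z v, hzv]
  rw [beta_mul_mulVec _ _ hβ', Finset.mul_sum, Finset.sum_congr rfl hterm, Finset.sum_sub_distrib,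
      ← Finset.mul_sum, ← Finset.mul_sum, nsum_ctr_eq, nsum_ctr_eq, hfun, ← hz]
  ring

theorem betaHom_pushV (ends : E → V × V) (D : Finset E) (β : V → ℤ)
    (hcl : ∀ v w, ctrMk ends D v = ctrMk ends D w → β v = β w) (u : V → ℤ) :
    betaHom (ctrFn ends D β) (pushV ends D u) = betaHom β u := by
  rw [betaHom_apply, betaHom_apply]
  have h1 : ∀ c, pushV ends D u c * ctrFn ends D β c =
      ∑ v ∈ univ.filter (fun v => ctrMk ends D v = c), u v * β v := by
    intro c
    have h0 : pushV ends D u c = ∑ v ∈ univ.filter (fun v => ctrMk ends D v = c), u v := rfl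
    rw [h0, Finset.sum_mul]
    refine Finset.sum_congr rfl fun v hv => ?_
    rw [← (Finset.mem_filter.mp hv).2, ctrFn_mk ends D β hcl]
  rw [Finset.sum_congr rfl (fun c _ => h1 c)]
  exact Finset.sum_fiberwise univ (ctrMk ends D) (fun v => u v * β v)

/-- `liftAt` as a linear map -/
noncomputable def liftAtLin (ends : E → V × V) (D : Finset E) (v₀ : V) :
    (CtrVert ends D → ℤ) →ₗ[ℤ] (V → ℤ) where
  toFun := liftAt ends D v₀
  map_add' x y := by
    funext v
    simp only [liftAt, Pi.add_apply]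
    split_ifs <;> simp
  map_smul' c x := by
    funext v
    simp only [liftAt, Pi.smul_apply, RingHom.id_apply]
    split_ifs <;> simp

end General

/-! ### the chain -/

section Chain

variable {V E : Type u} [Fintype V] [Fintype E] [DecidableEq V] [DecidableEq E]
variable (ends : E → V × V) {m : ℕ} (f : Fin (m + 1) → V) (e : Fin m → E)

/-- vertices of the chain indexed by naturals (clamped) -/
def fN (n : ℕ) : V := f ⟨min n m, Nat.lt_succ_of_le (Nat.min_le_right n m)⟩

theorem fN_val (j : Fin (m + 1)) : fN f j.val = f j := by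
  unfold fN
  congr 1
  apply Fin.ext
  exact Nat.min_eq_left (Nat.lt_succ_iff.mp j.2)

theorem fN_mk (n : ℕ) (hn : n < m + 1) : fN f n = f ⟨n, hn⟩ := fN_val f ⟨n, hn⟩

theorem fN_zero : fN f 0 = f 0 := by
  have := fN_val f (0 : Fin (m + 1))
  simpa using this

theorem mem_range_iff (v : V) : v ∈ Set.range f ↔ ∃ n, n ≤ m ∧ fN f n = v := by
  constructor
  · rintro ⟨j, rfl⟩; exact ⟨j.val, Nat.lt_succ_iff.mp j.2, fN_val f j⟩
  · rintro ⟨n, hn, rfl⟩; exact ⟨⟨n, Nat.lt_succ_of_le hn⟩, (fN_mk f n _).symm⟩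

theorem ends_e (hC : IsChain ends f e) (a : Fin m) :
    ends (e a) = (fN f a.val, fN f (a.val + 1)) ∨ ends (e a) = (fN f (a.val + 1), fN f a.val) := by
  have h1 : fN f a.val = f a.castSucc := by
    have := fN_val f a.castSucc; simpa using this
  have h2 : fN f (a.val + 1) = f a.succ := by
    have := fN_val f a.succ; simpa using this
  rw [h1, h2]; exact hC.2.2 a

theorem ends_e' (hC : IsChain ends f e) (n : ℕ) (hn : n < m) :
    ends (e ⟨n, hn⟩) = (fN f n, fN f (n + 1)) ∨ ends (e ⟨n, hn⟩) = (fN f (n + 1), fN f n) :=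
  ends_e ends f e hC ⟨n, hn⟩

theorem fN_inj (hC : IsChain ends f e) {a b : ℕ} (ha : a ≤ m) (hb : b ≤ m)
    (h : fN f a = fN f b) : a = b := by
  rw [fN_mk f a (Nat.lt_succ_of_le ha), fN_mk f b (Nat.lt_succ_of_le hb)] at h
  exact congrArg Fin.val (hC.1 h)

theorem e_ne (hC : IsChain ends f e) {a b : ℕ} (ha : a < m) (hb : b < m) (hab : a ≠ b) :
    e ⟨a, ha⟩ ≠ e ⟨b, hb⟩ := by
  intro h
  exact hab (congrArg Fin.val (hC.2.1 h))

theorem mem_D (a : Fin m) : e a ∈ univ.image e := Finset.mem_image_of_mem e (Finset.mem_univ a)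

theorem ctrMk_chain (hC : IsChain ends f e) (i : Fin (m + 1)) :
    ctrMk ends (univ.image e) (f i) = ctrMk ends (univ.image e) (f 0) := by
  induction i using Fin.induction with
  | zero => rfl
  | succ i ih =>
    have h := ctrMk_fst_eq_ctrMk_snd ends (univ.image e) (mem_D e i)
    rcases hC.2.2 i with h' | h'
    · simp only [h'] at h; exact h.symm.trans ih
    · simp only [h'] at h; exact h.trans ih

theorem ctrMk_fN (hC : IsChain ends f e) (n : ℕ) :
    ctrMk ends (univ.image e) (fN f n) = ctrMk ends (univ.image e) (f 0) :=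
  ctrMk_chain ends f e hC _

theorem ctrMk_eq_iff (hC : IsChain ends f e) (v w : V) :
    ctrMk ends (univ.image e) v = ctrMk ends (univ.image e) w ↔
      v = w ∨ (v ∈ Set.range f ∧ w ∈ Set.range f) := by
  constructor
  · intro h
    have h' : Relation.EqvGen (CtrRel ends (univ.image e)) v w := Quotient.exact h
    clear h
    induction h' with
    | rel x y hxy =>
      obtain ⟨e', he', hends⟩ := hxy
      obtain ⟨i, -, rfl⟩ := Finset.mem_image.mp he'
      right
      rcases hC.2.2 i with h' | h'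
      · rw [h'] at hends
        simp only [Prod.mk.injEq] at hends
        exact ⟨⟨_, hends.1⟩, ⟨_, hends.2⟩⟩
      · rw [h'] at hends
        simp only [Prod.mk.injEq] at hends
        exact ⟨⟨_, hends.1⟩, ⟨_, hends.2⟩⟩
    | refl x => exact Or.inl rfl
    | symm x y _ ih =>
      rcases ih with ih | ih
      · exact Or.inl ih.symm
      · exact Or.inr ⟨ih.2, ih.1⟩
    | trans x y z _ _ ih1 ih2 =>
      rcases ih1 with ih1 | ih1
      · rw [ih1]; exact ih2
      · rcases ih2 with ih2 | ih2
        · rw [← ih2]; exact Or.inr ih1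
        · exact Or.inr ⟨ih1.1, ih2.2⟩
  · rintro (rfl | ⟨⟨i, rfl⟩, ⟨j, rfl⟩⟩)
    · rfl
    · rw [ctrMk_chain ends f e hC i, ctrMk_chain ends f e hC j]

theorem class_singleton (hC : IsChain ends f e) (v : V) (hv : v ∉ Set.range f) (w : V)
    (h : ctrMk ends (univ.image e) w = ctrMk ends (univ.image e) v) : w = v := by
  rcases (ctrMk_eq_iff ends f e hC w v).mp h with h | h
  · exact h
  · exact absurd h.2 hv

theorem class_chain (hC : IsChain ends f e) (w : V)
    (h : ctrMk ends (univ.image e) w = ctrMk ends (univ.image e) (f 0)) : w ∈ Set.range f := by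
  rcases (ctrMk_eq_iff ends f e hC w (f 0)).mp h with h | h
  · exact ⟨0, h.symm⟩
  · exact h.1

/-! #### sides of a connecting edge -/

theorem side_cross (hC : IsChain ends f e) (a : ℕ) (ha : a < m) (S : Finset V)
    (hS : ∀ e' : E, ((ends e').1 ∈ S ↔ (ends e').2 ∉ S) ↔ e' = e ⟨a, ha⟩) :
    fN f a ∈ S ↔ fN f (a + 1) ∉ S := by
  have hc := (hS (e ⟨a, ha⟩)).mpr rfl
  rcases ends_e' ends f e hC a ha with h | h
  · rw [h] at hc; dsimp only at hc; exact hc
  · rw [h] at hc; dsimp only at hc; tauto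

theorem side_right (hC : IsChain ends f e) (a : ℕ) (ha : a < m) (S : Finset V)
    (hS : ∀ e' : E, ((ends e').1 ∈ S ↔ (ends e').2 ∉ S) ↔ e' = e ⟨a, ha⟩) :
    ∀ k, a + 1 + k ≤ m → (fN f (a + 1 + k) ∈ S ↔ fN f (a + 1) ∈ S) := by
  intro k
  induction k with
  | zero => intro _; exact Iff.rfl
  | succ k ih =>
    intro hk
    have ih' := ih (by omega)
    have hb : a + 1 + k < m := by omega
    have hne : e ⟨a + 1 + k, hb⟩ ≠ e ⟨a, ha⟩ := e_ne ends f e hC hb ha (by omega)
    have hnc := (not_congr (hS (e ⟨a + 1 + k, hb⟩))).mpr hne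
    have e1 : a + 1 + (k + 1) = a + 1 + k + 1 := rfl
    rw [e1]
    rcases ends_e' ends f e hC (a + 1 + k) hb with h | h
    · rw [h] at hnc; dsimp only at hnc; tauto
    · rw [h] at hnc; dsimp only at hnc; tauto

theorem no_chord (hC : IsChain ends f e) (hconn : ∀ i, IsConnecting ends (e i))
    (e' : E) (i j : ℕ) (hij : i < j) (hj : j ≤ m)
    (h : ends e' = (fN f i, fN f j) ∨ ends e' = (fN f j, fN f i)) :
    ∃ hi : i < m, e' = e ⟨i, hi⟩ ∧ j = i + 1 := by
  have hi : i < m := by omega
  refine ⟨hi, ?_⟩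
  obtain ⟨S, hS⟩ := hconn ⟨i, hi⟩
  have hr := side_right ends f e hC i hi S hS (j - i - 1) (by omega)
  have hc := side_cross ends f e hC i hi S hS
  have hji : i + 1 + (j - i - 1) = j := by omega
  rw [hji] at hr
  have hcr : ((ends e').1 ∈ S ↔ (ends e').2 ∉ S) := by
    rcases h with h | h
    · rw [h]; dsimp only; tauto
    · rw [h]; dsimp only; tauto
  have he' : e' = e ⟨i, hi⟩ := (hS e').mp hcr
  refine ⟨he', ?_⟩
  have hE := ends_e' ends f e hC i hi
  rw [← he'] at hE
  have hfi : fN f i ≠ fN f j := fun hh => by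
    have := fN_inj ends f e hC (by omega) hj hh; omega
  have hjj : fN f j = fN f (i + 1) := by
    rcases h with h | h
    · rcases hE with hE | hE
      · rw [h] at hE; simp only [Prod.mk.injEq] at hE; exact hE.2
      · rw [h] at hE; simp only [Prod.mk.injEq] at hE; exact absurd hE.2.symm hfi
    · rcases hE with hE | hE
      · rw [h] at hE; simp only [Prod.mk.injEq] at hE; exact absurd hE.1.symm hfi
      · rw [h] at hE; simp only [Prod.mk.injEq] at hE; exact hE.1
  exact fN_inj ends f e hC hj (by omega) hjj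

theorem mult_chain (hC : IsChain ends f e) (hconn : ∀ i, IsConnecting ends (e i))
    (i j : ℕ) (hij : i < j) (hj : j ≤ m) :
    edgeMult ends (fN f i) (fN f j) = if j = i + 1 then 1 else 0 := by
  unfold edgeMult
  split_ifs with h
  · subst h
    have hi : i < m := by omega
    rw [Finset.card_eq_one]
    refine ⟨e ⟨i, hi⟩, ?_⟩
    ext e'
    simp only [Finset.mem_filter, Finset.mem_univ, true_and, Finset.mem_singleton]
    constructor
    · intro h'
      obtain ⟨_, he', _⟩ := no_chord ends f e hC hconn e' i (i + 1) hij hj h'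
      exact he'
    · intro h'
      rw [h']
      exact ends_e' ends f e hC i hi
  · rw [Finset.card_eq_zero, Finset.filter_eq_empty_iff]
    intro e' _ h'
    obtain ⟨_, _, hj'⟩ := no_chord ends f e hC hconn e' i j hij hj h'
    exact h hj'

theorem mfMatrix_chain (β : V → ℤ) (hC : IsChain ends f e) (hconn : ∀ i, IsConnecting ends (e i))
    (i j : ℕ) (hi : i ≤ m) (hj : j ≤ m) (hij : i ≠ j) :
    mfMatrix ends β (fN f i) (fN f j) = if (j = i + 1 ∨ i = j + 1) then 1 else 0 := by
  have hne : fN f i ≠ fN f j := fun h => hij (fN_inj ends f e hC hi hj h)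
  have h0 : mfMatrix ends β (fN f i) (fN f j) = (edgeMult ends (fN f i) (fN f j) : ℤ) := if_neg hne
  rw [h0]
  rcases Nat.lt_or_gt_of_ne hij with h | h
  · rw [mult_chain ends f e hC hconn i j h hj]
    by_cases h1 : j = i + 1
    · have h2 : (j = i + 1 ∨ i = j + 1) := Or.inl h1
      rw [if_pos h1, if_pos h2]; rfl
    · have h2 : ¬ (j = i + 1 ∨ i = j + 1) := by omega
      rw [if_neg h1, if_neg h2]; rfl
  · rw [edgeMult_comm, mult_chain ends f e hC hconn j i h hi]
    by_cases h1 : i = j + 1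
    · have h2 : (j = i + 1 ∨ i = j + 1) := Or.inr h1
      rw [if_pos h1, if_pos h2]; rfl
    · have h2 : ¬ (j = i + 1 ∨ i = j + 1) := by omega
      rw [if_neg h1, if_neg h2]; rfl

/-- reduction of a vector modulo the image of `α` to one vanishing on `f 1, …, f m` -/
theorem exists_reduce (hC : IsChain ends f e) (hconn : ∀ i, IsConnecting ends (e i))
    (β : V → ℤ) (y : V → ℤ) :
    ∀ d k, k + d = m → ∃ z : V → ℤ, ∀ n, k < n → n ≤ m →
      (y - (mfMatrix ends β).mulVec z) (fN f n) = 0 := by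
  intro d
  induction d with
  | zero => intro k hk; exact ⟨0, fun n h1 h2 => by omega⟩
  | succ d ih =>
    intro k hk
    obtain ⟨z₁, hz₁⟩ := ih (k + 1) (by omega)
    obtain ⟨c, hc⟩ : ∃ c : ℤ, c = (y - (mfMatrix ends β).mulVec z₁) (fN f (k + 1)) := ⟨_, rfl⟩
    refine ⟨z₁ + c • Pi.single (fN f k) 1, ?_⟩
    intro n h1 h2
    have hcol : (mfMatrix ends β).mulVec (Pi.single (fN f k) 1) (fN f n) =
        if n = k + 1 then 1 else 0 := by
      rw [mulVec_single_one_apply, mfMatrix_chain ends f e β hC hconn n k h2 (by omega) (by omega)]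
      by_cases h : n = k + 1
      · have h' : (k = n + 1 ∨ n = k + 1) := Or.inr h
        rw [if_pos h, if_pos h']
      · have h' : ¬ (k = n + 1 ∨ n = k + 1) := by omega
        rw [if_neg h, if_neg h']
    rw [Matrix.mulVec_add, Matrix.mulVec_smul]
    simp only [Pi.sub_apply, Pi.add_apply, Pi.smul_apply, smul_eq_mul, hcol]
    by_cases h : n = k + 1
    · rw [if_pos h, hc, h]
      simp only [Pi.sub_apply]
      ring
    · have := hz₁ n (by omega) h2
      simp only [Pi.sub_apply] at this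
      rw [if_neg h]; linarith

/-! #### interior vertices -/

theorem nsum_beta_chain (β : V → ℤ) (hβ : IsMultFn ends β) (hβN : ∀ n, β (fN f n) = m)
    (hαN : ∀ n, mfMatrix ends β (fN f n) (fN f n) = -2) (n : ℕ) :
    nsum ends β (fN f n) = 2 * m := by
  have := beta_mul_diag ends β hβ (fN f n)
  rw [hβN, hαN] at this; linarith

theorem interior_tterm_zero (hC : IsChain ends f e) (β : V → ℤ) (hβ : IsMultFn ends β)
    (hβN : ∀ n, β (fN f n) = m) (hαN : ∀ n, mfMatrix ends β (fN f n) (fN f n) = -2)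
    (i : ℕ) (hi : i + 1 < m) (e' : E)
    (h1 : e' ≠ e ⟨i, Nat.lt_of_succ_lt hi⟩) (h2 : e' ≠ e ⟨i + 1, hi⟩) :
    tterm ends β (fN f (i + 1)) e' = 0 := by
  have hsum := nsum_beta_chain ends f β hβ hβN hαN (i + 1)
  unfold nsum at hsum
  have hi0 : i < m := Nat.lt_of_succ_lt hi
  have hne1 : fN f (i + 1) ≠ fN f i := fun h => by
    have := fN_inj ends f e hC (by omega) (by omega) h; omega
  have hne2 : fN f (i + 1) ≠ fN f (i + 1 + 1) := fun h => by
    have := fN_inj ends f e hC (by omega) (by omega) h; omega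
  have ha : tterm ends β (fN f (i + 1)) (e ⟨i, hi0⟩) = m := by
    have hE := ends_e' ends f e hC i hi0
    rw [tterm_of_ends' ends β (fN f (i + 1)) (fN f i) (fN f (i + 1)) hne1 _ hE.symm,
      if_pos rfl, if_neg (fun h => hne1 h.symm), add_zero]
    exact hβN i
  have hb : tterm ends β (fN f (i + 1)) (e ⟨i + 1, hi⟩) = m := by
    have hE := ends_e' ends f e hC (i + 1) hi
    rw [tterm_of_ends' ends β (fN f (i + 1)) (fN f (i + 1 + 1)) (fN f (i + 1)) hne2 _ hE,
      if_pos rfl, if_neg (fun h => hne2 h.symm), add_zero]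
    exact hβN _
  have hab : e ⟨i + 1, hi⟩ ≠ e ⟨i, hi0⟩ := e_ne ends f e hC hi hi0 (by omega)
  have hsplit : ∑ e'' : E, tterm ends β (fN f (i + 1)) e'' =
      tterm ends β (fN f (i + 1)) (e ⟨i, hi0⟩) + (tterm ends β (fN f (i + 1)) (e ⟨i + 1, hi⟩) +
        ∑ e'' ∈ (univ.erase (e ⟨i, hi0⟩)).erase (e ⟨i + 1, hi⟩), tterm ends β (fN f (i + 1)) e'') := by
    rw [Finset.add_sum_erase _ _ (Finset.mem_erase.mpr ⟨hab, Finset.mem_univ _⟩),
      Finset.add_sum_erase _ _ (Finset.mem_univ _)]
  rw [hsplit, ha, hb] at hsum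
  have hrest : ∑ e'' ∈ (univ.erase (e ⟨i, hi0⟩)).erase (e ⟨i + 1, hi⟩),
      tterm ends β (fN f (i + 1)) e'' = 0 := by linarith
  exact (Finset.sum_eq_zero_iff_of_nonneg
    (fun e'' _ => tterm_nonneg ends β (fun v => (hβ v).1.le) _ e'')).mp hrest e'
    (Finset.mem_erase.mpr ⟨h2, Finset.mem_erase.mpr ⟨h1, Finset.mem_univ _⟩⟩)

theorem nsum_interior (hC : IsChain ends f e) (β : V → ℤ) (hβ : IsMultFn ends β)
    (hβN : ∀ n, β (fN f n) = m) (hαN : ∀ n, mfMatrix ends β (fN f n) (fN f n) = -2)
    (i : ℕ) (hi : i + 1 < m) (x : V → ℤ) :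
    nsum ends x (fN f (i + 1)) = x (fN f i) + x (fN f (i + 2)) := by
  unfold nsum
  have hi0 : i < m := Nat.lt_of_succ_lt hi
  have hne1 : fN f (i + 1) ≠ fN f i := fun h => by
    have := fN_inj ends f e hC (by omega) (by omega) h; omega
  have hne2 : fN f (i + 1) ≠ fN f (i + 1 + 1) := fun h => by
    have := fN_inj ends f e hC (by omega) (by omega) h; omega
  have hab : e ⟨i, hi0⟩ ≠ e ⟨i + 1, hi⟩ := e_ne ends f e hC hi0 hi (by omega)
  have hsub := Finset.sum_subset (Finset.subset_univ ({e ⟨i, hi0⟩, e ⟨i + 1, hi⟩} : Finset E))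
    (f := fun e'' => tterm ends x (fN f (i + 1)) e'') (by
      intro e' _ hn
      simp only [Finset.mem_insert, Finset.mem_singleton, not_or] at hn
      exact tterm_eq_zero_of ends x β (fun v => (hβ v).1) _ e'
        (interior_tterm_zero ends f e hC β hβ hβN hαN i hi e' hn.1 hn.2))
  rw [← hsub, Finset.sum_pair hab]
  have hE1 := ends_e' ends f e hC i hi0
  have hE2 := ends_e' ends f e hC (i + 1) hi
  have t1 : tterm ends x (fN f (i + 1)) (e ⟨i, hi0⟩) = x (fN f i) := by
    rw [tterm_of_ends' ends x (fN f (i + 1)) (fN f i) (fN f (i + 1)) hne1 _ hE1.symm,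
      if_pos rfl, if_neg (fun h => hne1 h.symm), add_zero]
  have t2 : tterm ends x (fN f (i + 1)) (e ⟨i + 1, hi⟩) = x (fN f (i + 2)) := by
    rw [tterm_of_ends' ends x (fN f (i + 1)) (fN f (i + 1 + 1)) (fN f (i + 1)) hne2 _ hE2,
      if_pos rfl, if_neg (fun h => hne2 h.symm), add_zero]
  rw [t1, t2]

theorem mulVec_interior (hC : IsChain ends f e) (β : V → ℤ) (hβ : IsMultFn ends β)
    (hβN : ∀ n, β (fN f n) = m) (hαN : ∀ n, mfMatrix ends β (fN f n) (fN f n) = -2)
    (i : ℕ) (hi : i + 1 < m) (x : V → ℤ) :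
    (mfMatrix ends β).mulVec x (fN f (i + 1)) =
      -2 * x (fN f (i + 1)) + x (fN f i) + x (fN f (i + 2)) := by
  rw [mulVec_apply_eq, hαN, nsum_interior ends f e hC β hβ hβN hαN i hi x]; ring

/-! #### the near side of the first edge and the vector `ζ` -/

theorem exists_near_side (hC : IsChain ends f e) (hconn : ∀ i, IsConnecting ends (e i))
    (hm : 0 < m) :
    ∃ T : Finset V, fN f 0 ∈ T ∧ (∀ n, 1 ≤ n → n ≤ m → fN f n ∉ T) ∧
      ∀ e' : E, e' ≠ e ⟨0, hm⟩ → ((ends e').1 ∈ T ↔ (ends e').2 ∈ T) := by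
  obtain ⟨S, hS⟩ := hconn ⟨0, hm⟩
  have hc := side_cross ends f e hC 0 hm S hS
  have hr' : ∀ n, 1 ≤ n → n ≤ m → (fN f n ∈ S ↔ fN f (0 + 1) ∈ S) := by
    intro n h1 hn
    have := side_right ends f e hC 0 hm S hS (n - 1) (by omega)
    have e1 : 0 + 1 + (n - 1) = n := by omega
    rw [e1] at this; exact this
  have hnc : ∀ e', e' ≠ e ⟨0, hm⟩ → ((ends e').1 ∈ S ↔ (ends e').2 ∈ S) := by
    intro e' he'
    have := (not_congr (hS e')).mpr he'
    tauto
  by_cases h0 : fN f 0 ∈ S
  · refine ⟨S, h0, ?_, hnc⟩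
    intro n h1 hn hmem
    have h1S : fN f (0 + 1) ∈ S := (hr' n h1 hn).mp hmem
    exact (hc.mp h0) h1S
  · refine ⟨Sᶜ, Finset.mem_compl.mpr h0, ?_, ?_⟩
    · intro n h1 hn hmem
      rw [Finset.mem_compl] at hmem
      have h1S : fN f (0 + 1) ∈ S := by
        by_contra h; exact h0 (hc.mpr h)
      exact hmem ((hr' n h1 hn).mpr h1S)
    · intro e' he'
      rw [Finset.mem_compl, Finset.mem_compl]
      exact not_congr (hnc e' he')

/-- the vector `ζ`: `j` at `f j`, `0` on the near side `T`, `β` on the far side -/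
noncomputable def zeta (β : V → ℤ) (T : Finset V) : V → ℤ :=
  Function.extend f (fun j => (j.val : ℤ)) (fun v => if v ∈ T then 0 else β v)

theorem zeta_fN (hC : IsChain ends f e) (β : V → ℤ) (T : Finset V) (n : ℕ) (hn : n ≤ m) :
    zeta f β T (fN f n) = n := by
  rw [fN_mk f n (Nat.lt_succ_of_le hn)]
  exact hC.1.extend_apply _ _ _

theorem zeta_not_range (β : V → ℤ) (T : Finset V) (v : V) (hv : v ∉ Set.range f) :
    zeta f β T v = if v ∈ T then 0 else β v :=
  Function.extend_apply' _ _ _ hv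

theorem zeta_nonint (hC : IsChain ends f e) (β : V → ℤ) (hβN : ∀ n, β (fN f n) = m)
    (T : Finset V) (h0 : fN f 0 ∈ T) (hT : ∀ n, 1 ≤ n → n ≤ m → fN f n ∉ T)
    (v : V) (hv : ∀ i, i + 1 < m → v ≠ fN f (i + 1)) :
    zeta f β T v = if v ∈ T then 0 else β v := by
  by_cases hr : v ∈ Set.range f
  · obtain ⟨n, hn, rfl⟩ := (mem_range_iff f v).mp hr
    rw [zeta_fN ends f e hC β T n hn]
    rcases Nat.eq_zero_or_pos n with h | h
    · subst h; rw [if_pos h0]; rfl
    · have hnm : n = m := by
        by_contra hne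
        have e1 : n - 1 + 1 = n := by omega
        exact hv (n - 1) (by omega) (by rw [e1])
      rw [if_neg (hT n h hn), hβN, hnm]
  · exact zeta_not_range f β T v hr

theorem exists_zeta (hC : IsChain ends f e) (hconn : ∀ i, IsConnecting ends (e i))
    (β : V → ℤ) (hβ : IsMultFn ends β)
    (hβN : ∀ n, β (fN f n) = m) (hαN : ∀ n, mfMatrix ends β (fN f n) (fN f n) = -2)
    (hm : 0 < m) :
    ∃ ζ : V → ℤ, (∀ n, n ≤ m → ζ (fN f n) = n) ∧
      (mfMatrix ends β).mulVec ζ = Pi.single (f 0) 1 - Pi.single (fN f m) 1 := by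
  obtain ⟨T, hT0, hTn, hTnc⟩ := exists_near_side ends f e hC hconn hm
  have hpos : ∀ v, 0 < β v := fun v => (hβ v).1
  refine ⟨zeta f β T, fun n hn => zeta_fN ends f e hC β T n hn, ?_⟩
  funext v
  apply Int.eq_of_mul_eq_mul_left (hpos v).ne'
  rw [beta_mul_mulVec ends β hβ]
  unfold nsum
  rw [Finset.mul_sum, Finset.mul_sum, ← Finset.sum_sub_distrib]
  have claim1 : ∀ e' ∈ (univ : Finset E), e' ∉ univ.image e →
      β v * tterm ends (zeta f β T) v e' - zeta f β T v * tterm ends β v e' = 0 := by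
    intro e' _ he'
    by_cases hl : (ends e').1 = (ends e').2
    · have h1 : ∀ x : V → ℤ, tterm ends x v e' = 0 := by
        intro x; unfold tterm
        have c1 : ¬ ((ends e').1 = v ∧ (ends e').2 ≠ v) := by
          rintro ⟨h, h'⟩; exact h' (hl ▸ h)
        have c2 : ¬ ((ends e').2 = v ∧ (ends e').1 ≠ v) := by
          rintro ⟨h, h'⟩; exact h' (hl.symm ▸ h)
        rw [if_neg c1, if_neg c2, add_zero]
      rw [h1, h1]; ring
    · have hne0 : e' ≠ e ⟨0, hm⟩ := fun h => he' (by rw [h]; exact mem_D e _)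
      have hside := hTnc e' hne0
      have hni1 : ∀ i, i + 1 < m → (ends e').1 ≠ fN f (i + 1) := by
        intro i hi h
        have hz := interior_tterm_zero ends f e hC β hβ hβN hαN i hi e'
          (fun h' => he' (by rw [h']; exact mem_D e _))
          (fun h' => he' (by rw [h']; exact mem_D e _))
        have hp : 0 < tterm ends β (fN f (i + 1)) e' :=
          tterm_pos ends β hpos _ e' (Or.inl ⟨h, fun h2 => hl (h.trans h2.symm)⟩)
        omega
      have hni2 : ∀ i, i + 1 < m → (ends e').2 ≠ fN f (i + 1) := by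
        intro i hi h
        have hz := interior_tterm_zero ends f e hC β hβ hβN hαN i hi e'
          (fun h' => he' (by rw [h']; exact mem_D e _))
          (fun h' => he' (by rw [h']; exact mem_D e _))
        have hp : 0 < tterm ends β (fN f (i + 1)) e' :=
          tterm_pos ends β hpos _ e' (Or.inr ⟨h, fun h2 => hl (h2.trans h.symm)⟩)
        omega
      have hz1 := zeta_nonint ends f e hC β hβN T hT0 hTn (ends e').1 hni1
      have hz2 := zeta_nonint ends f e hC β hβN T hT0 hTn (ends e').2 hni2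
      unfold tterm
      by_cases c1 : (ends e').1 = v ∧ (ends e').2 ≠ v
      · have c2 : ¬ ((ends e').2 = v ∧ (ends e').1 ≠ v) := fun h => c1.2 h.1
        rw [if_pos c1, if_neg c2, if_pos c1, if_neg c2, ← c1.1, hz1, hz2]
        by_cases ht : (ends e').1 ∈ T
        · rw [if_pos ht, if_pos (hside.mp ht)]; ring
        · rw [if_neg ht, if_neg (fun h => ht (hside.mpr h))]; ring
      · by_cases c2 : (ends e').2 = v ∧ (ends e').1 ≠ v
        · rw [if_neg c1, if_pos c2, if_neg c1, if_pos c2, ← c2.1, hz1, hz2]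
          by_cases ht : (ends e').1 ∈ T
          · rw [if_pos ht, if_pos (hside.mp ht)]; ring
          · rw [if_neg ht, if_neg (fun h => ht (hside.mpr h))]; ring
        · rw [if_neg c1, if_neg c2, if_neg c1, if_neg c2]; ring
  have claim2 : ∀ a : Fin m,
      β v * tterm ends (zeta f β T) v (e a) - zeta f β T v * tterm ends β v (e a) =
      (m : ℤ) * ((if fN f a.val = v then 1 else 0) - (if fN f (a.val + 1) = v then 1 else 0)) := by
    intro a
    have ham : a.val < m := a.2
    have hE := ends_e ends f e hC a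
    have hpq : fN f a.val ≠ fN f (a.val + 1) := fun h => by
      have := fN_inj ends f e hC (by omega) (by omega) h; omega
    have hzp := zeta_fN ends f e hC β T a.val (by omega)
    have hzq := zeta_fN ends f e hC β T (a.val + 1) (by omega)
    have t0 := tterm_of_ends' ends (zeta f β T) (fN f a.val) (fN f (a.val + 1)) v hpq (e a) hE
    have t0' := tterm_of_ends' ends β (fN f a.val) (fN f (a.val + 1)) v hpq (e a) hE
    by_cases h1 : fN f a.val = v
    · have h2 : ¬ fN f (a.val + 1) = v := fun h => hpq (h1.trans h.symm)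
      rw [if_pos h1, if_neg h2, add_zero] at t0 t0'
      have t3 : zeta f β T v = a.val := by rw [← h1]; exact hzp
      have t4 : β v = m := by rw [← h1]; exact hβN _
      rw [t0, t0', t3, t4, hzq, hβN, if_pos h1, if_neg h2]
      push_cast; ring
    · by_cases h2 : fN f (a.val + 1) = v
      · rw [if_neg h1, if_pos h2, zero_add] at t0 t0'
        have t3 : zeta f β T v = (a.val + 1 : ℕ) := by rw [← h2]; exact hzq
        have t4 : β v = m := by rw [← h2]; exact hβN _
        rw [t0, t0', t3, t4, hzp, hβN, if_neg h1, if_pos h2]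
        push_cast; ring
      · rw [if_neg h1, if_neg h2, add_zero] at t0 t0'
        rw [t0, t0', if_neg h1, if_neg h2]; ring
  have hsum : ∑ e' : E, (β v * tterm ends (zeta f β T) v e' - zeta f β T v * tterm ends β v e') =
      (m : ℤ) * ((if fN f 0 = v then 1 else 0) - (if fN f m = v then 1 else 0)) := by
    rw [← Finset.sum_subset (Finset.subset_univ (univ.image e)) claim1,
      Finset.sum_image (fun a _ b _ h => hC.2.1 h)]
    refine (Finset.sum_congr rfl (fun a _ => claim2 a)).trans ?_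
    rw [Fin.sum_univ_eq_sum_range (fun n => (m : ℤ) *
        ((if fN f n = v then 1 else 0) - (if fN f (n + 1) = v then 1 else 0))) m,
      ← Finset.mul_sum, Finset.sum_range_sub' (fun n => (if fN f n = v then (1:ℤ) else 0))]
  rw [hsum]
  simp only [Pi.sub_apply, Pi.single_apply]
  have hf0 : fN f 0 = f 0 := fN_zero f
  have hne : f 0 ≠ fN f m := by
    rw [← hf0]; intro h
    have := fN_inj ends f e hC (Nat.zero_le m) le_rfl h; omega
  by_cases h0 : v = f 0
  · have hb : β v = m := by rw [h0, ← hf0]; exact hβN 0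
    rw [hb, h0, hf0, if_pos rfl, if_neg hne.symm, if_neg hne]
  · by_cases h1 : v = fN f m
    · have hb : β v = m := by rw [h1]; exact hβN m
      rw [hb, h1, hf0, if_neg hne, if_pos rfl, if_neg hne.symm]
    · have h0' : ¬ fN f 0 = v := fun h => h0 (by rw [← h, hf0])
      have h1' : ¬ fN f m = v := fun h => h1 h.symm
      rw [if_neg h0', if_neg h1', if_neg h0, if_neg h1]; ring

/-! #### `pushV` and `liftAt` -/

theorem pushV_apply (D : Finset E) (u : V → ℤ) (c : CtrVert ends D) :
    pushV ends D u c = ∑ w ∈ univ.filter (fun w => ctrMk ends D w = c), u w := rfl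

theorem pushV_liftAt (hC : IsChain ends f e) (x' : CtrVert ends (univ.image e) → ℤ) :
    pushV ends (univ.image e) (liftAt ends (univ.image e) (f 0) x') = x' := by
  funext c
  obtain ⟨v₁, rfl⟩ := ctrMk_surjective ends (univ.image e) c
  rw [pushV_apply]
  by_cases hc : ctrMk ends (univ.image e) v₁ = ctrMk ends (univ.image e) (f 0)
  · rw [Finset.sum_eq_single (f 0)]
    · unfold liftAt
      have c1 : ¬ (ctrMk ends (univ.image e) (f 0) = ctrMk ends (univ.image e) (f 0) ∧ f 0 ≠ f 0) :=
        fun h => h.2 rfl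
      rw [if_neg c1, hc]
    · intro w hw hne
      have hw' := (Finset.mem_filter.mp hw).2
      unfold liftAt
      have c1 : ctrMk ends (univ.image e) w = ctrMk ends (univ.image e) (f 0) ∧ w ≠ f 0 :=
        ⟨hw'.trans hc, hne⟩
      rw [if_pos c1]
    · intro h; exact (h (Finset.mem_filter.mpr ⟨Finset.mem_univ _, hc.symm⟩)).elim
  · have hv₁ : v₁ ∉ Set.range f := by
      rintro ⟨j, hj⟩
      exact hc (by rw [← hj]; exact ctrMk_chain ends f e hC j)
    rw [Finset.sum_eq_single v₁]
    · unfold liftAt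
      have c1 : ¬ (ctrMk ends (univ.image e) v₁ = ctrMk ends (univ.image e) (f 0) ∧ v₁ ≠ f 0) :=
        fun h => hc h.1
      rw [if_neg c1]
    · intro w hw hne
      exact absurd (class_singleton ends f e hC v₁ hv₁ w (Finset.mem_filter.mp hw).2) hne
    · intro h; exact (h (Finset.mem_filter.mpr ⟨Finset.mem_univ _, rfl⟩)).elim

theorem pushV_single_sub (hC : IsChain ends f e) :
    pushV ends (univ.image e) (Pi.single (f 0) 1 - Pi.single (fN f m) 1) = 0 := by
  funext c
  rw [pushV_apply]
  simp only [Pi.sub_apply, Pi.single_apply, Finset.sum_sub_distrib, Finset.sum_ite_eq',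
    Finset.mem_filter, Finset.mem_univ, true_and, Pi.zero_apply]
  rw [ctrMk_fN ends f e hC m]
  simp

theorem liftAt_pushV (hC : IsChain ends f e) (hm : 0 < m) (u : V → ℤ)
    (hu : ∀ i, i + 1 < m → u (fN f (i + 1)) = 0) :
    liftAt ends (univ.image e) (f 0) (pushV ends (univ.image e) u) =
      u + u (fN f m) • (Pi.single (f 0) 1 - Pi.single (fN f m) 1) := by
  funext v
  have hf0 : fN f 0 = f 0 := fN_zero f
  have hne : f 0 ≠ fN f m := by
    rw [← hf0]; intro h
    have := fN_inj ends f e hC (Nat.zero_le m) le_rfl h; omega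
  unfold liftAt
  simp only [Pi.add_apply, Pi.smul_apply, Pi.sub_apply, Pi.single_apply, smul_eq_mul]
  by_cases hv : v ∈ Set.range f
  · obtain ⟨n, hn, rfl⟩ := (mem_range_iff f v).mp hv
    have hcl : ctrMk ends (univ.image e) (fN f n) = ctrMk ends (univ.image e) (f 0) :=
      ctrMk_fN ends f e hC n
    rcases Nat.eq_zero_or_pos n with h0 | hpos
    · subst h0
      have c1 : ¬ (ctrMk ends (univ.image e) (fN f 0) = ctrMk ends (univ.image e) (f 0) ∧
          fN f 0 ≠ f 0) := fun h => h.2 hf0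
      rw [if_neg c1]
      have hsum : pushV ends (univ.image e) u (ctrMk ends (univ.image e) (fN f 0)) =
          u (f 0) + u (fN f m) := by
        rw [pushV_apply]
        apply Finset.sum_eq_add_of_mem (f 0) (fN f m)
          (Finset.mem_filter.mpr ⟨Finset.mem_univ _, hcl.symm⟩)
          (Finset.mem_filter.mpr ⟨Finset.mem_univ _, (ctrMk_fN ends f e hC m).trans hcl.symm⟩) hne
        intro w hw hw2
        have hw' := (Finset.mem_filter.mp hw).2
        have hwr : w ∈ Set.range f := class_chain ends f e hC w (hw'.trans hcl)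
        obtain ⟨k, hk, rfl⟩ := (mem_range_iff f w).mp hwr
        have hk0 : k ≠ 0 := fun h => hw2.1 (by rw [h, hf0])
        have hkm : k ≠ m := fun h => hw2.2 (by rw [h])
        have := hu (k - 1) (by omega)
        have e1 : k - 1 + 1 = k := by omega
        rwa [e1] at this
      rw [hsum, hf0, if_pos rfl, if_neg hne]; ring
    · have hn0 : fN f n ≠ f 0 := by
        rw [← hf0]; intro h
        have := fN_inj ends f e hC hn (Nat.zero_le m) h; omega
      have c1 : ctrMk ends (univ.image e) (fN f n) = ctrMk ends (univ.image e) (f 0) ∧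
          fN f n ≠ f 0 := ⟨hcl, hn0⟩
      rw [if_pos c1, if_neg hn0]
      by_cases hnm : n = m
      · rw [hnm, if_pos rfl]; ring
      · have hnm' : fN f n ≠ fN f m := fun h => hnm (fN_inj ends f e hC hn le_rfl h)
        have := hu (n - 1) (by omega)
        have e1 : n - 1 + 1 = n := by omega
        rw [e1] at this
        rw [this, if_neg hnm']; ring
  · have c1 : ¬ (ctrMk ends (univ.image e) v = ctrMk ends (univ.image e) (f 0) ∧ v ≠ f 0) :=
      fun h => hv (class_chain ends f e hC v h.1)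
    rw [if_neg c1]
    have hpv : pushV ends (univ.image e) u (ctrMk ends (univ.image e) v) = u v := by
      rw [pushV_apply, Finset.sum_eq_single v]
      · intro w hw hne
        exact absurd (class_singleton ends f e hC v hv w (Finset.mem_filter.mp hw).2) hne
      · intro h; exact (h (Finset.mem_filter.mpr ⟨Finset.mem_univ _, rfl⟩)).elim
    have h1 : v ≠ f 0 := fun h => hv ⟨0, h.symm⟩
    have h2 : v ≠ fN f m := fun h => hv ((mem_range_iff f v).mpr ⟨m, le_rfl, h.symm⟩)
    rw [hpv, if_neg h1, if_neg h2]; ring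

end Chain

end Groth.Agent.H88.ChainCtr
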