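import Mathlib
import Groth.Prelude.Def_CohB1

/-!
# Few forms of positive degree have a common zero in projective space

Over a field `k`, if `m < n` then `m + 1` homogeneous polynomials of the same positive degree in
`n + 1` variables have a common zero in `Proj k[X_0, …, X_n]` (Krull's height theorem).
-/

set_option autoImplicit false
universe u

noncomputable section

namespace Groth.Agent.H88.CommonZero

open MvPolynomial

variable (n : ℕ) (k : Type u) [Field k]

/-- kill the first `j` variables -/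
def kill (j : ℕ) : MvPolynomial (Fin (n + 1)) k →ₐ[k] MvPolynomial (Fin (n + 1)) k :=
  aeval (fun i : Fin (n + 1) => if (i : ℕ) < j then (0 : MvPolynomial (Fin (n + 1)) k) else X i)

theorem kill_X (j : ℕ) (i : Fin (n + 1)) :
    kill n k j (X i) = if (i : ℕ) < j then 0 else X i := by
  unfold kill
  rw [aeval_X]

theorem kill_comp (j : ℕ) : (kill n k (j + 1)).comp (kill n k j) = kill n k (j + 1) := by
  apply MvPolynomial.algHom_ext
  intro i
  rw [AlgHom.comp_apply, kill_X n k j i]
  by_cases h1 : (i : ℕ) < j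
  · have h2 : (i : ℕ) < j + 1 := by omega
    rw [if_pos h1, map_zero, kill_X, if_pos h2]
  · rw [if_neg h1]

theorem kill_top (a : MvPolynomial (Fin (n + 1)) k) :
    kill n k (n + 1) a = C (constantCoeff a) := by
  have h : kill n k (n + 1) = aeval (0 : Fin (n + 1) → MvPolynomial (Fin (n + 1)) k) := by
    unfold kill
    congr 1
    funext i
    rw [if_pos i.2]
    rfl
  rw [h, aeval_zero]
  rfl

/-- the chain of primes `(X_0, …, X_{j-1})` -/
def qs (j : ℕ) : PrimeSpectrum (MvPolynomial (Fin (n + 1)) k) :=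
  ⟨RingHom.ker (kill n k j).toRingHom, RingHom.ker_isPrime _⟩

theorem qs_lt (j : ℕ) (hj : j < n + 1) : qs n k j < qs n k (j + 1) := by
  rw [← PrimeSpectrum.asIdeal_lt_asIdeal]
  refine SetLike.lt_iff_le_and_exists.mpr ⟨?_, X ⟨j, hj⟩, ?_, ?_⟩
  · intro a ha
    have ha' : kill n k j a = 0 := ha
    show kill n k (j + 1) a = 0
    rw [← kill_comp, AlgHom.comp_apply, ha', map_zero]
  · show kill n k (j + 1) (X ⟨j, hj⟩) = 0
    rw [kill_X, if_pos (Nat.lt_succ_self j)]
  · intro h
    have h' : kill n k j (X ⟨j, hj⟩) = 0 := h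
    rw [kill_X, if_neg (lt_irrefl j)] at h'
    exact X_ne_zero _ h'

/-- the chain as an `LTSeries` -/
def chain : LTSeries (PrimeSpectrum (MvPolynomial (Fin (n + 1)) k)) where
  length := n + 1
  toFun i := qs n k i
  step i := qs_lt n k i i.2

theorem le_height_m0 :
    ((n + 1 : ℕ) : ℕ∞) ≤ (RingHom.ker (kill n k (n + 1)).toRingHom).height := by
  have h := Order.length_le_height_last (p := chain n k)
  have h2 := PrimeSpectrum.height_eq_orderHeight (qs n k (n + 1))
  have h3 : (chain n k).last = qs n k (n + 1) := rfl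
  rw [h3, ← h2] at h
  exact h

theorem constantCoeff_eq_zero_of_homogeneous {d : ℕ} (hd : 0 < d)
    {F : MvPolynomial (Fin (n + 1)) k} (hF : F ∈ CohB1.polyGrading n k d) :
    constantCoeff F = 0 := by
  have hF' : F.IsHomogeneous d := hF
  rw [constantCoeff_eq]
  refine hF'.coeff_eq_zero ?_
  rw [map_zero]
  omega

theorem mem_span_X_of_constantCoeff_eq_zero (a : MvPolynomial (Fin (n + 1)) k)
    (ha : constantCoeff a = 0) :
    a ∈ Ideal.span (Set.range (X : Fin (n + 1) → MvPolynomial (Fin (n + 1)) k)) := by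
  have h := (mem_pow_idealOfVars_iff' (σ := Fin (n + 1)) (R := k) 1 a).mpr (fun x hx => by
    have hx0 : x = 0 := by
      have h0 : Finsupp.degree x = 0 := by omega
      exact (Finsupp.degree_eq_zero_iff x).mp h0
    rw [hx0]
    exact ha)
  rwa [pow_one] at h

theorem exists_common_zero (m : ℕ) (hmn : m < n) (d : ℕ) (hd : 0 < d)
    (F : Fin (m + 1) → MvPolynomial (Fin (n + 1)) k)
    (hF : ∀ j, F j ∈ CohB1.polyGrading n k d) :
    ∃ x : ProjectiveSpectrum (CohB1.polyGrading n k), ∀ j, F j ∈ x.asHomogeneousIdeal := by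
  classical
  obtain ⟨s, hs⟩ : ∃ s : Finset (MvPolynomial (Fin (n + 1)) k), s = Finset.univ.image F :=
    ⟨_, rfl⟩
  have hFs : ∀ j, F j ∈ s := fun j => by
    rw [hs]
    exact Finset.mem_image_of_mem F (Finset.mem_univ j)
  have hscard : s.card ≤ m + 1 := by
    rw [hs]
    refine Finset.card_image_le.trans ?_
    rw [Finset.card_univ, Fintype.card_fin]
  have hsF : ∀ a ∈ s, ∃ j, F j = a := by
    intro a ha
    rw [hs, Finset.mem_image] at ha
    obtain ⟨j, _, hj⟩ := ha
    exact ⟨j, hj⟩
  have hM0prime : (RingHom.ker (kill n k (n + 1)).toRingHom).IsPrime := RingHom.ker_isPrime _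
  have hIM : Ideal.span (s : Set (MvPolynomial (Fin (n + 1)) k)) ≤
      RingHom.ker (kill n k (n + 1)).toRingHom := by
    rw [Ideal.span_le]
    intro a ha
    obtain ⟨j, rfl⟩ := hsF a ha
    show kill n k (n + 1) (F j) = 0
    rw [kill_top, constantCoeff_eq_zero_of_homogeneous n k hd (hF j), map_zero]
  obtain ⟨p, hp, hpM⟩ := Ideal.exists_minimalPrimes_le hIM
  have hpprime : p.IsPrime := hp.1.1
  have hht : p.height ≤ ((m + 1 : ℕ) : ℕ∞) :=
    (Ideal.height_le_card_of_mem_minimalPrimes_span_finset hp).trans (by exact_mod_cast hscard)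
  have hIhom : (Ideal.span (s : Set (MvPolynomial (Fin (n + 1)) k))).IsHomogeneous
      (CohB1.polyGrading n k) :=
    Ideal.homogeneous_span _ _ (fun a ha => by
      obtain ⟨j, rfl⟩ := hsF a ha
      exact ⟨d, hF j⟩)
  have hcore : (p.homogeneousCore (CohB1.polyGrading n k)).toIdeal = p := by
    apply le_antisymm (Ideal.toIdeal_homogeneousCore_le _ p)
    have hcp : ((p.homogeneousCore (CohB1.polyGrading n k)).toIdeal).IsPrime :=
      hpprime.homogeneousCore
    have hIc : Ideal.span (s : Set (MvPolynomial (Fin (n + 1)) k)) ≤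
        (p.homogeneousCore (CohB1.polyGrading n k)).toIdeal := by
      have h1 : (⟨Ideal.span (s : Set (MvPolynomial (Fin (n + 1)) k)), hIhom⟩ :
          HomogeneousIdeal (CohB1.polyGrading n k)) ≤
          p.homogeneousCore (CohB1.polyGrading n k) :=
        (Ideal.homogeneousCore.gc (CohB1.polyGrading n k)).le_u hp.1.2
      exact h1
    exact hp.2 ⟨hcp, hIc⟩ (Ideal.toIdeal_homogeneousCore_le _ p)
  have hphom : p.IsHomogeneous (CohB1.polyGrading n k) := by
    rw [← hcore]
    exact (p.homogeneousCore (CohB1.polyGrading n k)).isHomogeneous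
  have hirr : ¬ (HomogeneousIdeal.irrelevant (CohB1.polyGrading n k)).toIdeal ≤ p := by
    intro hle
    have hX : ∀ i, (X i : MvPolynomial (Fin (n + 1)) k) ∈ p := fun i =>
      hle (HomogeneousIdeal.mem_irrelevant_of_mem _ Nat.one_pos (isHomogeneous_X k i))
    have hMp : RingHom.ker (kill n k (n + 1)).toRingHom ≤ p := by
      intro a ha
      have ha' : kill n k (n + 1) a = 0 := ha
      rw [kill_top] at ha'
      have hc : constantCoeff a = 0 := by
        apply C_injective (Fin (n + 1)) k
        rw [ha', C_0]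
      have h1 := mem_span_X_of_constantCoeff_eq_zero n k a hc
      have h2 : Ideal.span (Set.range (X : Fin (n + 1) → MvPolynomial (Fin (n + 1)) k)) ≤ p := by
        rw [Ideal.span_le]
        rintro _ ⟨i, rfl⟩
        exact hX i
      exact h2 h1
    have hpeq : p = RingHom.ker (kill n k (n + 1)).toRingHom := le_antisymm hpM hMp
    have h1 := le_height_m0 n k
    rw [← hpeq] at h1
    have h2 : ((n + 1 : ℕ) : ℕ∞) ≤ ((m + 1 : ℕ) : ℕ∞) := h1.trans hht
    have h3 : n + 1 ≤ m + 1 := by exact_mod_cast h2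
    omega
  refine ⟨⟨⟨p, hphom⟩, hpprime, fun h => hirr (fun a ha => h ha)⟩, fun j => ?_⟩
  show F j ∈ p
  exact hp.1.2 (Ideal.subset_span (hFs j))

end Groth.Agent.H88.CommonZero
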