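import Groth.Agent.H88.EtLocal
import Groth.Agent.H32.DiagDict

/-!
# Diagonals of base changes and of products of 1-morphisms (helper88)

`with_diag_fpSnd`, `with_diag_pasteMid`, `with_diag_pasteMidR`: the diagonal of a base change has
the property of the diagonal (no hypothesis on `P`); `with_diag_prodF2_et`: the diagonal of
`f₁ ×_𝒵 f₂` for `P` stable under composition and étale local on the base.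
-/

set_option autoImplicit false
open CategoryTheory CategoryTheory.Limits AlgebraicGeometry Opposite
universe u

namespace Groth.Agent.H88.DiagBC

open FibCat Stk Groth.Agent.H32.FibProd Groth.Agent.H32.Fp2 Groth.Agent.H32.Fp3
  Groth.Agent.H32.Fp4 Groth.Agent.H32.SpBridge Groth.Agent.H32.PFacts
  Groth.Agent.H32.AlgStackEquiv Groth.Agent.H32.AtlasRep Groth.Agent.H32.SpComp
  Groth.Agent.H32.StackOps Groth.Agent.H32.Magic Groth.Agent.H32.Sect Groth.Agent.H32.Repr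
  Groth.Agent.H32.SectSt Groth.Agent.H32.DiagDict Groth.Agent.H32.AlgStackFp
  Groth.Agent.H88.EtLocal

variable {S : Scheme.{u}}

/-- the diagonal of the base change `fpSnd y k` of `y` has the property of the diagonal of `y`. -/
theorem with_diag_fpSnd (P : MorphismProperty (AlgSp.Sp S)) {𝒳 𝒴 𝒵 : AlgSt.Cat S}
    (h𝒳 : IsFibGrpd 𝒳.p) (h𝒴 : IsFibGrpd 𝒴.p) (h𝒵 : IsFibGrpd 𝒵.p)
    (y : 𝒵 ⥤ᵇ 𝒴) (k : 𝒳 ⥤ᵇ 𝒴) (hΔ : AlgSt.RepByAlgSpWith P (FibCat.diag y)) :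
    AlgSt.RepByAlgSpWith P (FibCat.diag (FibCat.fpSnd y k)) := by
  have h1 : AlgSt.RepByAlgSpWith P (FibCat.diag (fpFst k y)) :=
    with_diag_fpFst P h𝒵 h𝒴 h𝒳 k y hΔ
  have i1 : IsFibGrpd (fp k y).p := fp_isFibGrpd _ _ h𝒳 h𝒵 h𝒴
  have i2 : IsFibGrpd (fp y k).p := fp_isFibGrpd _ _ h𝒵 h𝒳 h𝒴
  exact (with_diag_sq P i1 h𝒳 i2 h𝒳 (fpFst k y) (fpSnd y k) (swap y k) (BasedFunctor.id 𝒳)
    (swap_isEquivOver y k) (isEquivOver_id _) (Iso.refl _)).mp h1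

/-- the diagonal of `𝒰 ×_𝒴 𝒳 ⟶ 𝒵 ×_𝒴 𝒳` has the property of the diagonal of `y : 𝒰 ⟶ 𝒵`. -/
theorem with_diag_pasteMid (P : MorphismProperty (AlgSp.Sp S)) {𝒰 𝒵 𝒴 𝒳 : AlgSt.Cat S}
    (h𝒰 : IsFibGrpd 𝒰.p) (h𝒵 : IsFibGrpd 𝒵.p) (h𝒴 : IsFibGrpd 𝒴.p) (h𝒳 : IsFibGrpd 𝒳.p)
    (y : 𝒰 ⥤ᵇ 𝒵) (g : 𝒵 ⥤ᵇ 𝒴) (f : 𝒳 ⥤ᵇ 𝒴) (hΔ : AlgSt.RepByAlgSpWith P (FibCat.diag y)) :
    AlgSt.RepByAlgSpWith P (FibCat.diag (pasteMid y g f)) := by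
  have hgf : IsFibGrpd (fp g f).p := fp_isFibGrpd _ _ h𝒵 h𝒳 h𝒴
  have h1 : AlgSt.RepByAlgSpWith P (FibCat.diag (fpSnd y (fpFst g f))) :=
    with_diag_fpSnd P hgf h𝒵 h𝒰 y (fpFst g f) hΔ
  have i1 : IsFibGrpd (fp y (fpFst g f)).p := fp_isFibGrpd _ _ h𝒰 hgf h𝒵
  have i2 : IsFibGrpd (fp (BasedFunctor.comp y g) f).p := fp_isFibGrpd _ _ h𝒰 h𝒳 h𝒴
  exact (with_diag_sq P i1 hgf i2 hgf (fpSnd y (fpFst g f)) (pasteMid y g f) (paste y g f)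
    (BasedFunctor.id _) (paste_isEquivOver y g f) (isEquivOver_id _) (Iso.refl _)).mp h1

/-- the diagonal of `𝒰 ×_𝒴 𝒳 ⟶ 𝒰 ×_𝒴 𝒵` has the property of the diagonal of `E : 𝒳 ⟶ 𝒵`. -/
theorem with_diag_pasteMidR (P : MorphismProperty (AlgSp.Sp S)) {𝒰 𝒵 𝒴 𝒳 : AlgSt.Cat S}
    (h𝒰 : IsFibGrpd 𝒰.p) (h𝒵 : IsFibGrpd 𝒵.p) (h𝒴 : IsFibGrpd 𝒴.p) (h𝒳 : IsFibGrpd 𝒳.p)
    (y : 𝒰 ⥤ᵇ 𝒴) (E : 𝒳 ⥤ᵇ 𝒵) (h : 𝒵 ⥤ᵇ 𝒴) (hΔ : AlgSt.RepByAlgSpWith P (FibCat.diag E)) :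
    AlgSt.RepByAlgSpWith P (FibCat.diag (pasteMidR y E h)) := by
  have h1 : AlgSt.RepByAlgSpWith P (FibCat.diag (pasteMid E h y)) :=
    with_diag_pasteMid P h𝒳 h𝒵 h𝒴 h𝒰 E h y hΔ
  have i1 : IsFibGrpd (fp (BasedFunctor.comp E h) y).p := fp_isFibGrpd _ _ h𝒳 h𝒰 h𝒴
  have i2 : IsFibGrpd (fp h y).p := fp_isFibGrpd _ _ h𝒵 h𝒰 h𝒴
  have i3 : IsFibGrpd (fp y (BasedFunctor.comp E h)).p := fp_isFibGrpd _ _ h𝒰 h𝒳 h𝒴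
  have i4 : IsFibGrpd (fp y h).p := fp_isFibGrpd _ _ h𝒰 h𝒵 h𝒴
  have h2 : AlgSt.RepByAlgSpWith P
      (FibCat.diag (BasedFunctor.comp (pasteMid E h y) (swap h y))) :=
    (with_diag_sq P i1 i4 i1 i2 (BasedFunctor.comp (pasteMid E h y) (swap h y)) (pasteMid E h y)
      (BasedFunctor.id _) (swap h y) (isEquivOver_id _) (swap_isEquivOver h y) (Iso.refl _)).mpr h1
  exact (with_diag_sq P i1 i4 i3 i4 (BasedFunctor.comp (pasteMid E h y) (swap h y))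
    (pasteMidR y E h) (swap y (BasedFunctor.comp E h)) (BasedFunctor.id _)
    (swap_isEquivOver _ _) (isEquivOver_id _) (Iso.refl _)).mp h2

/-- the diagonal of `f₁ ×_𝒵 f₂`, for `P` stable under composition and étale local on the base. -/
theorem with_diag_prodF2_et (P : MorphismProperty (AlgSp.Sp S))
    (hPc : ∀ ⦃X Y Z : AlgSp.Sp S⦄, AlgSp.IsAlgSpace X → AlgSp.IsAlgSpace Y → AlgSp.IsAlgSpace Z →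
      ∀ (a : X ⟶ Y) (b : Y ⟶ Z), P a → P b → P (a ≫ b))
    (hP : AlgSp.IsLocalOnBase AlgSp.IsEtCover P) {𝒳₁ 𝒳₂ 𝒴₁ 𝒴₂ 𝒵 : AlgSt.Cat S}
    (h𝒳₁ : IsFibGrpd 𝒳₁.p) (h𝒳₂ : IsFibGrpd 𝒳₂.p) (h𝒴₁ : IsFibGrpd 𝒴₁.p) (h𝒴₂ : IsFibGrpd 𝒴₂.p)
    (h𝒵 : IsFibGrpd 𝒵.p) (f₁ : 𝒳₁ ⥤ᵇ 𝒴₁) (f₂ : 𝒳₂ ⥤ᵇ 𝒴₂) (s₁ : 𝒴₁ ⥤ᵇ 𝒵) (s₂ : 𝒴₂ ⥤ᵇ 𝒵)
    (h₁ : AlgSt.RepByAlgSpWith P (FibCat.diag f₁)) (h₂ : AlgSt.RepByAlgSpWith P (FibCat.diag f₂)) :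
    AlgSt.RepByAlgSpWith P (FibCat.diag (prodF2 f₁ f₂ s₁ s₂)) := by
  have i1 : IsFibGrpd (fp (BasedFunctor.comp f₁ s₁) (BasedFunctor.comp f₂ s₂)).p :=
    fp_isFibGrpd _ _ h𝒳₁ h𝒳₂ h𝒵
  have i2 : IsFibGrpd (fp (BasedFunctor.comp f₁ s₁) s₂).p := fp_isFibGrpd _ _ h𝒳₁ h𝒴₂ h𝒵
  have i3 : IsFibGrpd (fp s₁ s₂).p := fp_isFibGrpd _ _ h𝒴₁ h𝒴₂ h𝒵
  have hA : AlgSt.RepByAlgSpWith P
      (FibCat.diag (pasteMidR (BasedFunctor.comp f₁ s₁) f₂ s₂)) :=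
    with_diag_pasteMidR P h𝒳₁ h𝒴₂ h𝒵 h𝒳₂ _ f₂ s₂ h₂
  have hB : AlgSt.RepByAlgSpWith P (FibCat.diag (pasteMid f₁ s₁ s₂)) :=
    with_diag_pasteMid P h𝒳₁ h𝒴₁ h𝒵 h𝒴₂ f₁ s₁ s₂ h₁
  have hC := with_diag_comp_et i1 i2 i3 P hPc hP _ _ hA hB
  exact (with_diag_sq P i1 i3 i1 i3
    (BasedFunctor.comp (pasteMidR (BasedFunctor.comp f₁ s₁) f₂ s₂) (pasteMid f₁ s₁ s₂))
    (prodF2 f₁ f₂ s₁ s₂) (BasedFunctor.id _) (BasedFunctor.id _)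
    (isEquivOver_id _) (isEquivOver_id _) (prodF2Iso f₁ f₂ s₁ s₂)).mp hC

end Groth.Agent.H88.DiagBC
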