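import Mathlib

/-!
# Directed colimits of algebras from an elementwise criterion (helper88)

Given a directed system `B i` of commutative `R`-algebras (transition maps `tr`), an `R`-algebra `A`
and compatible maps `leg i : B i →ₐ[R] A` which are jointly surjective and such that two elements
of `B i` with the same image in `A` become equal in some `B j`, the cocone with point `A` over the
diagram `i ↦ (R → B i)` in `Under (CommRingCat.of R)` is a colimit cocone.
-/

set_option autoImplicit false
universe u
open CategoryTheory CategoryTheory.Limits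

namespace Groth.Agent.H88.DirColimAlg

section

variable (R : Type u) [CommRing R] {ι : Type u} [Preorder ι]
  (B : ι → Type u) [∀ i, CommRing (B i)] [∀ i, Algebra R (B i)]
  (tr : ∀ i j, i ≤ j → B i →ₐ[R] B j)
  (A : Type u) [CommRing A] [Algebra R A]
  (leg : ∀ i, B i →ₐ[R] A)

/-- the diagram `i ↦ (R → B i)`. -/
def diag (tr_id : ∀ i (x : B i), tr i i le_rfl x = x)
    (tr_comp : ∀ i j k (hij : i ≤ j) (hjk : j ≤ k) (x : B i),
      tr j k hjk (tr i j hij x) = tr i k (hij.trans hjk) x) :
    ι ⥤ Under (CommRingCat.of R) where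
  obj i := Under.mk (CommRingCat.ofHom (algebraMap R (B i)))
  map {i j} φ := Under.homMk (CommRingCat.ofHom (tr i j (leOfHom φ)).toRingHom) (by
    apply CommRingCat.hom_ext
    apply RingHom.ext
    intro r
    exact (tr i j (leOfHom φ)).commutes r)
  map_id i := by
    apply Under.UnderMorphism.ext
    apply CommRingCat.hom_ext
    apply RingHom.ext
    intro x
    exact tr_id i x
  map_comp {i j k} φ ψ := by
    apply Under.UnderMorphism.ext
    apply CommRingCat.hom_ext
    apply RingHom.ext
    intro x
    exact (tr_comp i j k (leOfHom φ) (leOfHom ψ) x).symm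

/-- the cocone with point `A`. -/
def cocone (tr_id : ∀ i (x : B i), tr i i le_rfl x = x)
    (tr_comp : ∀ i j k (hij : i ≤ j) (hjk : j ≤ k) (x : B i),
      tr j k hjk (tr i j hij x) = tr i k (hij.trans hjk) x)
    (leg_tr : ∀ i j (h : i ≤ j) (x : B i), leg j (tr i j h x) = leg i x) :
    Cocone (diag R B tr tr_id tr_comp) where
  pt := Under.mk (CommRingCat.ofHom (algebraMap R A))
  ι :=
    { app := fun i => Under.homMk (CommRingCat.ofHom (leg i).toRingHom) (by
        apply CommRingCat.hom_ext
        apply RingHom.ext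
        intro r
        exact (leg i).commutes r)
      naturality := fun i j φ => by
        apply Under.UnderMorphism.ext
        apply CommRingCat.hom_ext
        apply RingHom.ext
        intro x
        exact leg_tr i j (leOfHom φ) x }

variable [IsDirectedOrder ι] [Nonempty ι]

theorem phi_bijective
    (leg_tr : ∀ i j (h : i ≤ j) (x : B i), leg j (tr i j h x) = leg i x)
    (hsurj : ∀ a : A, ∃ i, ∃ y : B i, leg i y = a)
    (hinj : ∀ i (y y' : B i), leg i y = leg i y' → ∃ j, ∃ h : i ≤ j, tr i j h y = tr i j h y') :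
    Function.Bijective (Ring.DirectLimit.lift B (fun i j h => ⇑(tr i j h)) A
      (fun i => (leg i).toRingHom) (fun i j hij x => leg_tr i j hij x)) := by
  constructor
  · rw [injective_iff_map_eq_zero]
    intro z hz
    obtain ⟨i, y, rfl⟩ := Ring.DirectLimit.exists_of z
    rw [Ring.DirectLimit.lift_of] at hz
    have h0 : leg i y = leg i 0 := by
      rw [map_zero]
      exact hz
    obtain ⟨j, h, hj⟩ := hinj i y 0 h0
    rw [← Ring.DirectLimit.of_f h y]
    show Ring.DirectLimit.of B _ j (tr i j h y) = 0
    rw [hj, map_zero, map_zero]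
  · intro a
    obtain ⟨i, y, rfl⟩ := hsurj a
    exact ⟨Ring.DirectLimit.of B _ i y, Ring.DirectLimit.lift_of _ _ _ _ _⟩

/-- the direct limit ring is `A`. -/
noncomputable def equiv
    (leg_tr : ∀ i j (h : i ≤ j) (x : B i), leg j (tr i j h x) = leg i x)
    (hsurj : ∀ a : A, ∃ i, ∃ y : B i, leg i y = a)
    (hinj : ∀ i (y y' : B i), leg i y = leg i y' → ∃ j, ∃ h : i ≤ j, tr i j h y = tr i j h y') :
    Ring.DirectLimit B (fun i j h => ⇑(tr i j h)) ≃+* A :=
  RingEquiv.ofBijective _ (phi_bijective R B tr A leg leg_tr hsurj hinj)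

theorem equiv_symm_leg
    (leg_tr : ∀ i j (h : i ≤ j) (x : B i), leg j (tr i j h x) = leg i x)
    (hsurj : ∀ a : A, ∃ i, ∃ y : B i, leg i y = a)
    (hinj : ∀ i (y y' : B i), leg i y = leg i y' → ∃ j, ∃ h : i ≤ j, tr i j h y = tr i j h y')
    (i : ι) (y : B i) :
    (equiv R B tr A leg leg_tr hsurj hinj).symm (leg i y) =
      Ring.DirectLimit.of B (fun i j h => ⇑(tr i j h)) i y := by
  rw [RingEquiv.symm_apply_eq]
  exact (Ring.DirectLimit.lift_of (G := B) (f := fun i j h => ⇑(tr i j h)) A
    (fun i => (leg i).toRingHom) (fun i j hij x => leg_tr i j hij x) i y).symm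

/-- the map out of the direct limit induced by a cocone. -/
noncomputable def descHom (tr_id : ∀ i (x : B i), tr i i le_rfl x = x)
    (tr_comp : ∀ i j k (hij : i ≤ j) (hjk : j ≤ k) (x : B i),
      tr j k hjk (tr i j hij x) = tr i k (hij.trans hjk) x)
    (s : Cocone (diag R B tr tr_id tr_comp)) :
    Ring.DirectLimit B (fun i j h => ⇑(tr i j h)) →+* s.pt.right :=
  Ring.DirectLimit.lift B (fun i j h => ⇑(tr i j h)) s.pt.right
    (fun i => (s.ι.app i).right.hom) (fun i j hij x => by
      have h1 := s.w (homOfLE hij)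
      have h2 := congrArg (fun m => m.right.hom x) h1
      exact h2)

theorem descHom_of (tr_id : ∀ i (x : B i), tr i i le_rfl x = x)
    (tr_comp : ∀ i j k (hij : i ≤ j) (hjk : j ≤ k) (x : B i),
      tr j k hjk (tr i j hij x) = tr i k (hij.trans hjk) x)
    (s : Cocone (diag R B tr tr_id tr_comp)) (i : ι) (y : B i) :
    descHom R B tr tr_id tr_comp s (Ring.DirectLimit.of B (fun i j h => ⇑(tr i j h)) i y) =
      (s.ι.app i).right.hom y :=
  Ring.DirectLimit.lift_of _ _ _ _ _

/-- the cocone with point `A` is a colimit. -/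
noncomputable def isColimit (tr_id : ∀ i (x : B i), tr i i le_rfl x = x)
    (tr_comp : ∀ i j k (hij : i ≤ j) (hjk : j ≤ k) (x : B i),
      tr j k hjk (tr i j hij x) = tr i k (hij.trans hjk) x)
    (leg_tr : ∀ i j (h : i ≤ j) (x : B i), leg j (tr i j h x) = leg i x)
    (hsurj : ∀ a : A, ∃ i, ∃ y : B i, leg i y = a)
    (hinj : ∀ i (y y' : B i), leg i y = leg i y' → ∃ j, ∃ h : i ≤ j, tr i j h y = tr i j h y') :
    IsColimit (cocone R B tr A leg tr_id tr_comp leg_tr) where
  desc s := Under.homMk (CommRingCat.ofHom ((descHom R B tr tr_id tr_comp s).comp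
      (equiv R B tr A leg leg_tr hsurj hinj).symm.toRingHom)) (by
    apply CommRingCat.hom_ext
    apply RingHom.ext
    intro r
    show descHom R B tr tr_id tr_comp s
      ((equiv R B tr A leg leg_tr hsurj hinj).symm (algebraMap R A r)) = s.pt.hom.hom r
    have i₀ : ι := Classical.arbitrary ι
    have h1 : algebraMap R A r = leg i₀ (algebraMap R (B i₀) r) := ((leg i₀).commutes r).symm
    rw [h1, equiv_symm_leg, descHom_of]
    exact congrArg (fun m => m.hom r) (Under.w (s.ι.app i₀)))
  fac s j := by
    apply Under.UnderMorphism.ext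
    apply CommRingCat.hom_ext
    apply RingHom.ext
    intro x
    show descHom R B tr tr_id tr_comp s
      ((equiv R B tr A leg leg_tr hsurj hinj).symm (leg j x)) = (s.ι.app j).right.hom x
    rw [equiv_symm_leg, descHom_of]
  uniq s m hm := by
    apply Under.UnderMorphism.ext
    apply CommRingCat.hom_ext
    apply RingHom.ext
    intro a
    show m.right.hom a = descHom R B tr tr_id tr_comp s
      ((equiv R B tr A leg leg_tr hsurj hinj).symm a)
    obtain ⟨i, y, rfl⟩ := hsurj a
    rw [equiv_symm_leg, descHom_of]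
    exact congrArg (fun t => t.right.hom y) (hm i)

end

end Groth.Agent.H88.DirColimAlg
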