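import Groth.Agent.H32.PFacts
import Groth.Agent.H32.FppfLocal
import Groth.Agent.H51.EtaleIff
import Groth.Agent.H52.EtLocalInst

/-!
# `AlgSp.IsEtaleMor` is a good property (helper88)

base change, composition (among algebraic spaces) and fppf locality on the base, assembled from
helper51's comparison `IsEtaleMor ↔ LocP @Etale` for algebraic spaces.
-/

set_option autoImplicit false
open CategoryTheory CategoryTheory.Limits AlgebraicGeometry Opposite
universe u

namespace Groth.Agent.H88.GoodEtale

open Groth.Agent.H32.PFacts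

variable {S : Scheme.{u}}

theorem good_etale : Good (AlgSp.IsEtaleMor (S := S)) where
  bc := fun _ _ _ _ hX₁ hY₁ hX₂ hY₂ a _ a' _ sq ha =>
    Groth.Agent.H51.isEtaleMor_of_locP_etale hX₂ hY₂ a'
      (Groth.Agent.H52.locP_baseChange Groth.Agent.H52.etLocal_etale hX₁ hY₁ hY₂ sq
        (Groth.Agent.H51.locP_etale_of_isEtaleMor a ha))
  comp := fun _ _ _ hX hY hZ a b ha hb =>
    Groth.Agent.H51.isEtaleMor_of_locP_etale hX hZ (a ≫ b)
      (Groth.Agent.H52.locP_comp Groth.Agent.H52.etLocal_etale hY a b
        (Groth.Agent.H51.locP_etale_of_isEtaleMor a ha)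
        (Groth.Agent.H51.locP_etale_of_isEtaleMor b hb))
  loc := Groth.Agent.H32.FppfLocal.isLocalOnBase_fppf_of_fpqc _
    Groth.Agent.H51.isLocalOnBase_fpqc_isEtaleMor

end Groth.Agent.H88.GoodEtale
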