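import Groth.Agent.H88.AlgCore
import Groth.Agent.H88.GoodEtale

/-!
# Transport of atlases with a good property (helper88)

For a good property `P` of morphisms of algebraic spaces such that every algebraic space has a
`P`-atlas from a scheme (e.g. `P` = étale, smooth): atlases of products, of sources of morphisms
representable by algebraic spaces, and of 2-fibre products.  With `P = AlgSp.IsEtaleMor` this gives
the étale atlas of a 2-fibre product of Deligne–Mumford stacks.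
-/

set_option autoImplicit false
open CategoryTheory CategoryTheory.Limits AlgebraicGeometry Opposite
universe u

namespace Groth.Agent.H88.EtAtlas

open FibCat Stk Groth.Agent.H32.FibProd Groth.Agent.H32.Fp2 Groth.Agent.H32.Fp3
  Groth.Agent.H32.Fp4 Groth.Agent.H32.SpBridge Groth.Agent.H32.PFacts
  Groth.Agent.H32.AlgStackEquiv Groth.Agent.H32.AtlasRep Groth.Agent.H32.SpComp
  Groth.Agent.H32.StackOps Groth.Agent.H32.Magic Groth.Agent.H32.Sect Groth.Agent.H32.Repr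
  Groth.Agent.H32.SectSt Groth.Agent.H32.DiagRep Groth.Agent.H32.GoodMore
  Groth.Agent.H32.AtlasCover Groth.Agent.H32.DiagApps Groth.Agent.H32.DiagDescent
  Groth.Agent.H32.Prod Groth.Agent.H32.Cover Groth.Agent.H32.CompMap Groth.Agent.H32.AlgStackFp

variable {S : Scheme.{u}}

theorem hasAtlas_prod {P : MorphismProperty (AlgSp.Sp S)} (hG : Good P) {𝒳 𝒴 : AlgSt.Cat S}
    (iX : IsFibGrpd 𝒳.p) (iY : IsFibGrpd 𝒴.p) (a𝒳 : AlgSt.HasAtlas P 𝒳)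
    (a𝒴 : AlgSt.HasAtlas P 𝒴) :
    AlgSt.HasAtlas P (FibCat.fp (FibCat.toSelf 𝒳) (FibCat.toSelf 𝒴)) := by
  have hself : IsFibGrpd (FibCat.selfOver (Over S)).p := self_isFibGrpd
  have iP : IsFibGrpd (fp (FibCat.toSelf 𝒳) (FibCat.toSelf 𝒴)).p := fp_isFibGrpd _ _ iX iY hself
  obtain ⟨U, x, hx1, hx2⟩ := a𝒳
  obtain ⟨V, y, hy1, hy2⟩ := a𝒴
  obtain ⟨E, hE⟩ := exists_prod_equiv U V (BasedFunctor.comp x (FibCat.toSelf 𝒳))
    (BasedFunctor.comp y (FibCat.toSelf 𝒴))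
  have iU := Groth.Agent.S6411.over_isFibGrpd U
  have iV := Groth.Agent.S6411.over_isFibGrpd V
  have i1 : IsFibGrpd (fp (BasedFunctor.comp x (FibCat.toSelf 𝒳))
      (BasedFunctor.comp y (FibCat.toSelf 𝒴))).p := fp_isFibGrpd _ _ iU iV hself
  refine ⟨U ⨯ V, BasedFunctor.comp E (prodF2 x y (FibCat.toSelf 𝒳) (FibCat.toSelf 𝒴)), ?_, ?_⟩
  · exact with_precomp_equiv _ (Groth.Agent.S6411.over_isFibGrpd _) i1 iP E hE _
      (with_prodF2 x y _ _ hG iU iV iX iY hself hx1 hy1)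
  · exact with_precomp_equiv _ (Groth.Agent.S6411.over_isFibGrpd _) i1 iP E hE _
      (with_prodF2 x y _ _ good_surjective iU iV iX iY hself hx2 hy2)

theorem hasAtlas_of_space_chart {P : MorphismProperty (AlgSp.Sp S)} (hG : Good P)
    (hsp : ∀ F : AlgSp.Space S, AlgSt.HasAtlas P (AlgSt.ofSp F.obj)) {𝒳 : AlgSt.Cat S}
    (h𝒳 : IsFibGrpd 𝒳.p) (F : AlgSp.Space S)
    (z : AlgSt.ofSp F.obj ⥤ᵇ 𝒳) (hz1 : AlgSt.RepByAlgSpWith P z)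
    (hz2 : AlgSt.RepByAlgSpWith AlgSp.IsSurjectiveMor z) : AlgSt.HasAtlas P 𝒳 := by
  obtain ⟨T, x₀, h1, h2⟩ := hsp F
  exact ⟨T, BasedFunctor.comp x₀ z,
    with_comp hG (Groth.Agent.S6411.over_isFibGrpd T) (ofSp_isFibGrpd F.obj) h𝒳 x₀ z h1 hz1,
    with_comp good_surjective (Groth.Agent.S6411.over_isFibGrpd T) (ofSp_isFibGrpd F.obj) h𝒳 x₀ z
      h2 hz2⟩

theorem hasAtlas_of_repByAlgSp1 {P : MorphismProperty (AlgSp.Sp S)} (hG : Good P)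
    (hsp : ∀ F : AlgSp.Space S, AlgSt.HasAtlas P (AlgSt.ofSp F.obj)) {𝒳 𝒴 : AlgSt.Cat S}
    (h𝒳 : IsFibGrpd 𝒳.p) (h𝒴 : IsFibGrpd 𝒴.p) (a𝒴 : AlgSt.HasAtlas P 𝒴)
    (j : 𝒳 ⥤ᵇ 𝒴) (hj : AlgSt.RepByAlgSp1 j) : AlgSt.HasAtlas P 𝒳 := by
  obtain ⟨U, y, hy1, hy2⟩ := a𝒴
  obtain ⟨F, eF, heF⟩ := hj U y
  have hfp : IsFibGrpd (fp y j).p :=
    Groth.Agent.H32.Repr.fp_isFibGrpd _ _ (Groth.Agent.S6411.over_isFibGrpd U) h𝒳 h𝒴
  exact hasAtlas_of_space_chart hG hsp h𝒳 F (BasedFunctor.comp eF (fpSnd y j))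
    (with_precomp_equiv _ (ofSp_isFibGrpd F.obj) hfp h𝒳 eF heF _ (repByAlgSpWith_fpSnd _ y j hy1))
    (with_precomp_equiv _ (ofSp_isFibGrpd F.obj) hfp h𝒳 eF heF _ (repByAlgSpWith_fpSnd _ y j hy2))

theorem hasAtlas_fp {P : MorphismProperty (AlgSp.Sp S)} (hG : Good P)
    (hsp : ∀ F : AlgSp.Space S, AlgSt.HasAtlas P (AlgSt.ofSp F.obj)) {𝒳 𝒴 𝒵 : AlgSt.Cat S}
    (h𝒵 : IsFibGrpd 𝒵.p) (hΔ : AlgSt.RepByAlgSp1 (FibCat.diag (FibCat.toSelf 𝒵)))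
    (iX : IsFibGrpd 𝒳.p) (iY : IsFibGrpd 𝒴.p) (a𝒳 : AlgSt.HasAtlas P 𝒳)
    (a𝒴 : AlgSt.HasAtlas P 𝒴) (f : 𝒳 ⥤ᵇ 𝒵) (g : 𝒴 ⥤ᵇ 𝒵) :
    AlgSt.HasAtlas P (FibCat.fp f g) := by
  have hself : IsFibGrpd (FibCat.selfOver (Over S)).p := self_isFibGrpd
  have hP : AlgSt.HasAtlas P
      (FibCat.fp (BasedFunctor.comp f (FibCat.toSelf 𝒵)) (BasedFunctor.comp g (FibCat.toSelf 𝒵))) := by
    rw [eq_toSelf (BasedFunctor.comp f (FibCat.toSelf 𝒵)),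
      eq_toSelf (BasedFunctor.comp g (FibCat.toSelf 𝒵))]
    exact hasAtlas_prod hG iX iY a𝒳 a𝒴
  have hj : AlgSt.RepByAlgSp1 (fpLift (F := BasedFunctor.comp f (FibCat.toSelf 𝒵))
      (G := BasedFunctor.comp g (FibCat.toSelf 𝒵)) (fpFst f g) (fpSnd f g)
      (whiskerR (fpIso f g) (FibCat.toSelf 𝒵))) :=
    (repByAlgSp1_iff_top _).mpr (with_compMap f g (FibCat.toSelf 𝒵) _ (fun _ => rfl) _ iX iY h𝒵 hself
      ((repByAlgSp1_iff_top _).mp hΔ))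
  exact hasAtlas_of_repByAlgSp1 hG hsp (fp_isFibGrpd _ _ iX iY h𝒵)
    (fp_isFibGrpd _ _ iX iY hself) hP _ hj

/-- the étale atlas of a 2-fibre product of categories fibred in groupoids with étale atlases. -/
theorem hasAtlas_etale_fp {𝒳 𝒴 𝒵 : AlgSt.Cat S}
    (h𝒵 : IsFibGrpd 𝒵.p) (hΔ : AlgSt.RepByAlgSp1 (FibCat.diag (FibCat.toSelf 𝒵)))
    (iX : IsFibGrpd 𝒳.p) (iY : IsFibGrpd 𝒴.p) (a𝒳 : AlgSt.HasAtlas AlgSp.IsEtaleMor 𝒳)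
    (a𝒴 : AlgSt.HasAtlas AlgSp.IsEtaleMor 𝒴) (f : 𝒳 ⥤ᵇ 𝒵) (g : 𝒴 ⥤ᵇ 𝒵) :
    AlgSt.HasAtlas AlgSp.IsEtaleMor (FibCat.fp f g) :=
  hasAtlas_fp Groth.Agent.H88.GoodEtale.good_etale (fun F => (hasAtlas_ofSp F).2) h𝒵 hΔ iX iY
    a𝒳 a𝒴 f g

end Groth.Agent.H88.EtAtlas
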