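import Groth.Agent.H32.AlgStackFp

/-!
# Composition for properties that are only étale local on the base (helper88)

helper32's `P_baseChange` / `S12780` (composition of 1-morphisms representable by algebraic spaces
with `P`) assume `P` fppf local on the base but only ever use the étale atlas of an algebraic space
as a covering.  Here are the versions for `P` étale local on the base
(`AlgSp.IsLocalOnBase AlgSp.IsEtCover P`), with the same proofs.
-/

set_option autoImplicit false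
open CategoryTheory CategoryTheory.Limits AlgebraicGeometry Opposite
universe u

namespace Groth.Agent.H88.EtLocal

open FibCat Stk Groth.Agent.H32.FibProd Groth.Agent.H32.Fp2 Groth.Agent.H32.Fp3
  Groth.Agent.H32.Fp4 Groth.Agent.H32.PshFp Groth.Agent.H32.PshStack Groth.Agent.H32.SpBridge
  Groth.Agent.H32.SpTrack Groth.Agent.H32.AtlasCover Groth.Agent.H32.SpComp
  Groth.Agent.H32.AtlasRep Groth.Agent.H32.Repr Groth.Agent.H32.SectSt Groth.Agent.H32.StackOps
  Groth.Agent.H32.Sect Groth.Agent.H32.Magic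

variable {S : Scheme.{u}} {𝒳 𝒴 : AlgSt.Cat S}

/-- the étale atlas of an algebraic space is an étale covering. -/
theorem isEtCover_atlas {G : AlgSp.Sp S} {T : Over S} (p : (AlgSp.yon S).obj T ⟶ G)
    (h1 : AlgSp.RepWith @Etale p) (h2 : AlgSp.RepWith @Surjective p) :
    AlgSp.IsEtCover (fun _ : PUnit.{u + 1} => (AlgSp.yon S).obj T) (fun _ => p) :=
  ⟨fun _ => isEtaleMor_of_repWith_etale p h1,
    fun x => ⟨PUnit.unit, isSurjectiveMor_of_repWith p h2 x⟩⟩

/-- the base change of `f` (representable by algebraic spaces with `P`) to an algebraic space `G`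
is a morphism of algebraic spaces with `P`, for `P` étale local on the base. -/
theorem P_baseChange_et (P : MorphismProperty (AlgSp.Sp S))
    (hP : AlgSp.IsLocalOnBase AlgSp.IsEtCover P) (f : 𝒳 ⥤ᵇ 𝒴)
    (hf : AlgSt.RepByAlgSpWith P f) (G F : AlgSp.Space S) (h : AlgSt.ofSp G.obj ⥤ᵇ 𝒴)
    (eF : AlgSt.ofSp F.obj ⥤ᵇ fp h f) (heF : IsEquivOver eF) :
    P (ObjectProperty.homMk (pshMapOf (BasedFunctor.comp eF (fpFst h f))) : F.obj ⟶ G.obj) := by
  obtain ⟨T, p, hp1, hp2⟩ := G.property.atlas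
  obtain ⟨FT, eT, heT, hPT⟩ := hf T (BasedFunctor.comp (ofPoint p.hom) h)
  obtain ⟨α⟩ := ofPshMap_pshMapOf (BasedFunctor.comp eF (fpFst h f))
  obtain ⟨E2, hE2, -, ⟨ε2⟩⟩ := exists_inv_isEquivOver
    (pasteMidR_isEquivOver (ofPoint p.hom) eF (fpFst h f) heF)
  obtain ⟨E, hEdef⟩ : ∃ E : AlgSt.ofSp FT.obj ⥤ᵇ fp (Stk.ofPshMap p.hom)
      (Stk.ofPshMap (pshMapOf (BasedFunctor.comp eF (fpFst h f)))),
      E = BasedFunctor.comp eT (BasedFunctor.comp (paste (ofPoint p.hom) h f)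
        (BasedFunctor.comp E2 (BasedFunctor.comp (congrRight (ofPoint p.hom) α.symm)
          (pasteMid (AlgSt.ofOverCat T) (Stk.ofPshMap p.hom)
            (Stk.ofPshMap (pshMapOf (BasedFunctor.comp eF (fpFst h f)))))))) := ⟨_, rfl⟩
  have hE : IsEquivOver E := by
    rw [hEdef]
    exact isEquivOver_comp _ _ heT (isEquivOver_comp _ _ (paste_isEquivOver _ _ _)
      (isEquivOver_comp _ _ hE2 (isEquivOver_comp _ _ (congrRight_isEquivOver _ _)
        (pasteMid_isEquivOver _ _ _ (ofOverCat_isEquivOver T)))))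
  have sq := isPullback_of_equiv (pshMapOf (BasedFunctor.comp eF (fpFst h f))) p.hom E hE
  have e1 : pshMapOf (BasedFunctor.comp E (fpFst _ _)) =
      (AlgSt.spMapOfOver (BasedFunctor.comp eT
        (fpFst (BasedFunctor.comp (ofPoint p.hom) h) f))).hom := by
    rw [spMapOfOver_hom, hEdef]
    refine pshMapOf_eq_of_hom _ _ (fun a => ?_)
    exact ⟨(AlgSt.ofOverCat T).map ((fpFst (ofPoint p.hom) (fpFst h f)).map
        (appIso ε2 ((paste (ofPoint p.hom) h f).obj (eT.obj a))).hom),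
      isHomLift_id_of_eq _ (eT.w_obj a) _
        ((BasedFunctor.isHomLift_iff (AlgSt.ofOverCat T) _ _).mpr
          ((BasedFunctor.isHomLift_iff (fpFst (ofPoint p.hom) (fpFst h f)) _ _).mpr
            (appIso_isHomLift ε2 ((paste (ofPoint p.hom) h f).obj (eT.obj a)))))⟩
  rw [e1] at sq
  have sq' : IsPullback
      (ObjectProperty.homMk (pshMapOf (BasedFunctor.comp E (fpSnd _ _))) : FT.obj ⟶ F.obj)
      (AlgSt.spMapOfOver (BasedFunctor.comp eT (fpFst (BasedFunctor.comp (ofPoint p.hom) h) f)))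
      (ObjectProperty.homMk (pshMapOf (BasedFunctor.comp eF (fpFst h f))) : F.obj ⟶ G.obj) p :=
    IsPullback.of_map_of_faithful (sheafToPresheaf (AlgSp.J S) (Type (u + 1))) sq
  exact (hP (ι := PUnit.{u + 1}) (fun _ => (AlgSp.yon S).obj T) (fun _ => p) G.property
    (fun _ => AlgSp.IsAlgSpace.yon_obj T) (isEtCover_atlas p hp1 hp2) _ F.property
    (fun _ => FT.obj) (fun _ => _) (fun _ => _) (fun _ => FT.property) (fun _ => sq')).mpr
    (fun _ => hPT)

/-- composition of 1-morphisms representable by algebraic spaces with `P`, for `P` stable under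
base change and composition and étale local on the base (étale version of `S12780`). -/
theorem with_comp_et {𝒵 : AlgSt.Cat S}
    (h𝒳 : FibCat.IsFibGrpd 𝒳.p) (h𝒴 : FibCat.IsFibGrpd 𝒴.p) (h𝒵 : FibCat.IsFibGrpd 𝒵.p)
    (P : MorphismProperty (AlgSp.Sp S))
    (hPc : ∀ ⦃X Y Z : AlgSp.Sp S⦄, AlgSp.IsAlgSpace X → AlgSp.IsAlgSpace Y → AlgSp.IsAlgSpace Z →
      ∀ (a : X ⟶ Y) (b : Y ⟶ Z), P a → P b → P (a ≫ b))
    (hP : AlgSp.IsLocalOnBase AlgSp.IsEtCover P)
    (f : 𝒳 ⥤ᵇ 𝒴) (g : 𝒴 ⥤ᵇ 𝒵) (hf : AlgSt.RepByAlgSpWith P f) (hg : AlgSt.RepByAlgSpWith P g) :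
    AlgSt.RepByAlgSpWith P (BasedFunctor.comp f g) := by
  intro U z
  obtain ⟨G, eG, heG, hPG⟩ := hg U z
  have hf1 : AlgSt.RepByAlgSp1 f := fun U y => by
    obtain ⟨F, e, he, -⟩ := hf U y
    exact ⟨F, e, he⟩
  obtain ⟨F, eF, heF⟩ := Groth.Agent.H32.SpBoot.repByAlgSp_fp_ofSp h𝒳 h𝒴 G
    (BasedFunctor.comp eG (fpSnd z g)) f hf1
  have hPb' := P_baseChange_et P hP f hf G F (BasedFunctor.comp eG (fpSnd z g)) eF heF
  refine ⟨F, BasedFunctor.comp eF (BasedFunctor.comp (pasteMid eG (fpSnd z g) f) (assoc z g f)),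
    isEquivOver_comp _ _ heF (isEquivOver_comp _ _ (pasteMid_isEquivOver eG (fpSnd z g) f heG)
      (assoc_isEquivOver z g f)), ?_⟩
  have key : AlgSt.spMapOfOver (BasedFunctor.comp (BasedFunctor.comp eF
      (BasedFunctor.comp (pasteMid eG (fpSnd z g) f) (assoc z g f)))
        (fpFst z (BasedFunctor.comp f g))) =
      (ObjectProperty.homMk (pshMapOf (BasedFunctor.comp eF
        (fpFst (BasedFunctor.comp eG (fpSnd z g)) f))) : F.obj ⟶ G.obj) ≫
        AlgSt.spMapOfOver (BasedFunctor.comp eG (fpFst z g)) := by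
    apply ObjectProperty.hom_ext
    rw [spMapOfOver_hom]
    change _ = pshMapOf (BasedFunctor.comp eF (fpFst (BasedFunctor.comp eG (fpSnd z g)) f)) ≫
      (AlgSt.spMapOfOver (BasedFunctor.comp eG (fpFst z g))).hom
    rw [spMapOfOver_hom, ← pshMapOf_comp]
    rfl
  rw [key]
  exact hPc F.property G.property (AlgSp.IsAlgSpace.yon_obj U) _ _ hPb' hPG

/-- the diagonal of a composite, for `P` étale local on the base. -/
theorem with_diag_comp_et {𝒵 : AlgSt.Cat S}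
    (h𝒳 : IsFibGrpd 𝒳.p) (h𝒴 : IsFibGrpd 𝒴.p) (h𝒵 : IsFibGrpd 𝒵.p)
    (P : MorphismProperty (AlgSp.Sp S))
    (hPc : ∀ ⦃X Y Z : AlgSp.Sp S⦄, AlgSp.IsAlgSpace X → AlgSp.IsAlgSpace Y → AlgSp.IsAlgSpace Z →
      ∀ (a : X ⟶ Y) (b : Y ⟶ Z), P a → P b → P (a ≫ b))
    (hP : AlgSp.IsLocalOnBase AlgSp.IsEtCover P)
    (f : 𝒳 ⥤ᵇ 𝒴) (g : 𝒴 ⥤ᵇ 𝒵) (hf : AlgSt.RepByAlgSpWith P (FibCat.diag f))
    (hg : AlgSt.RepByAlgSpWith P (FibCat.diag g)) :
    AlgSt.RepByAlgSpWith P (FibCat.diag (BasedFunctor.comp f g)) := by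
  have hff : IsFibGrpd (fp f f).p := fp_isFibGrpd _ _ h𝒳 h𝒳 h𝒴
  have h1 : IsFibGrpd (fp (BasedFunctor.comp f g) (BasedFunctor.comp f g)).p :=
    fp_isFibGrpd _ _ h𝒳 h𝒳 h𝒵
  have h2 := with_comp_et h𝒳 hff h1 P hPc hP (diag f) (diagMap f g) hf
    (with_diagMap P h𝒳 h𝒴 h𝒵 f g hg)
  exact with_of_iso P h𝒳 h1 (diagCompIso f g).symm h2

end Groth.Agent.H88.EtLocal
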