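import Mathlib.Algebra.Group.ForwardDiff
import Mathlib.Data.Nat.Choose.Sum
import Mathlib.Tactic.LinearCombination
import Mathlib.Tactic.Ring

set_option autoImplicit false

namespace Groth.Agent.H88

open Finset Nat Function
open scoped fwdDiff

/-- The `n`-th forward difference of `x ↦ x^(n+1)`. -/
theorem fwdDiff_iter_pow_succ (n : ℕ) :
    Δ_[1]^[n] (fun (r : ℤ) ↦ r ^ (n + 1)) =
      fun y ↦ ((n + 1)! : ℤ) * y + (((n + 1).choose 2 * n ! : ℕ) : ℤ) := by
  induction n with
  | zero => ext y; simp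
  | succ n IH =>
    have : (Δ_[1] fun (r : ℤ) ↦ r ^ (n + 1 + 1)) =
      ∑ i ∈ range (n + 1 + 1), (n + 1 + 1).choose i • fun r ↦ r ^ i := by
      ext x
      simp [nsmul_eq_mul, fwdDiff, add_pow, sum_range_succ, mul_comm]
    simp_rw [iterate_succ_apply, this, fwdDiff_iter_finsetSum, fwdDiff_iter_const_smul,
       sum_range_succ]
    rw [IH, fwdDiff_iter_eq_factorial]
    have h0 : ∑ x ∈ range n, (n + 1 + 1).choose x • Δ_[1]^[n] (fun (r : ℤ) ↦ r ^ x) = 0 := by
      apply sum_eq_zero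
      intro i hi
      rw [fwdDiff_iter_pow_eq_zero_of_lt (by have := mem_range.1 hi; omega), smul_zero]
    rw [h0]
    ext y
    simp only [Pi.add_apply, nsmul_eq_mul, zero_add, Pi.natCast_apply,
      Pi.mul_apply]
    have e1 : (n + 1 + 1).choose n = (n + 2).choose 2 := by
      rw [show n + 1 + 1 = n + 2 from rfl, ← Nat.choose_symm_of_eq_add (show n + 2 = n + 2 from rfl)]
    have e2 : (n + 1 + 1).choose (n + 1) = n + 2 := by
      rw [show n + 1 + 1 = (n + 1) + 1 from rfl, Nat.choose_succ_self_right]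
    rw [e1, e2]
    have e3 : ((n + 1 + 1).choose 2 : ℕ) = (n + 2).choose 2 := rfl
    have c1 : (n + 1).choose 2 * 2 = (n + 1) * n := by
      rw [Nat.choose_two_right, Nat.div_mul_cancel]
      · simp
      · exact Nat.even_mul_pred_self (n + 1) |>.two_dvd
    have c2 : (n + 2).choose 2 * 2 = (n + 2) * (n + 1) := by
      rw [Nat.choose_two_right, Nat.div_mul_cancel]
      · simp
      · exact Nat.even_mul_pred_self (n + 2) |>.two_dvd
    have c1' : (((n + 1).choose 2 : ℕ) : ℤ) * 2 = ((n : ℤ) + 1) * n := by exact_mod_cast c1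
    have c2' : (((n + 2).choose 2 : ℕ) : ℤ) * 2 = ((n : ℤ) + 2) * (n + 1) := by exact_mod_cast c2
    have f1 : ((n + 1 + 1)! : ℤ) = ((n : ℤ) + 2) * ((n : ℤ) + 1) * (n ! : ℤ) := by
      rw [Nat.factorial_succ, Nat.factorial_succ]; push_cast; ring
    have f2 : ((n + 1)! : ℤ) = ((n : ℤ) + 1) * (n ! : ℤ) := by
      rw [Nat.factorial_succ]; push_cast; ring
    rw [e3]
    push_cast
    rw [f1, f2]
    have : (2 : ℤ) ≠ 0 := two_ne_zero
    apply mul_right_cancel₀ this
    linear_combination ((n : ℤ) + 2) * (n ! : ℤ) * c1' + (n ! : ℤ) * c2' - ((n : ℤ) + 1) * (n ! : ℤ) * c2'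

end Groth.Agent.H88
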