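import Mathlib
import Groth.Agent.H53.ModEpi
import Groth.Agent.H8.FreeMod
import Groth.Agent.H8.QCohQcqs
import Groth.Agent.H8.IsoCover
import Groth.Agent.H18.SecTw

/-!
# An epimorphism from a free module: local spans (piece (LS) of S11489)
-/

set_option autoImplicit false
set_option linter.style.haveILetI false
universe u
open CategoryTheory CategoryTheory.Limits AlgebraicGeometry Opposite TopologicalSpace
open Groth.Agent.H18.SecTw

namespace Groth.Agent.H88.GGTrivLS

/-- `s f = f • s 1`. -/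
theorem app_fun {X : Scheme.{u}} {E : X.Modules} (s : Coh.structureModule X ⟶ E) (U : X.Opens)
    (f : Γ(X, U)) :
    s.app U (show Γ(Coh.structureModule X, U) from f) = f • sv s U := by
  have h2 := Scheme.Modules.Hom.app_smul s f
    (show Γ(Coh.structureModule X, U) from (1 : Γ(X, U)))
  refine Eq.trans ?_ h2
  exact congrArg (s.app U) (mul_one f).symm

/-- (LS) an epimorphism from a free module: a frame is locally in the span of the images of the
standard generators -/
theorem exists_affine_span_of_epi {X : Scheme.{u}} {E : X.Modules} {N : ℕ}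
    (φ : FlatMod.freeMod X N ⟶ E) [Epi φ] {U : X.Opens} {r : ℕ} (σ : Fin r → Γ(E, U))
    (x : X) (hx : x ∈ U) :
    ∃ (V : X.affineOpens) (hV : V.1 ≤ U) (B : Matrix (Fin r) (Fin N) Γ(X, V.1)), x ∈ V.1 ∧
      ∀ i, E.presheaf.map (homOfLE hV).op (σ i) =
        ∑ j, B i j • sv (Groth.Agent.H8.freeι X N j ≫ φ) V.1 := by
  classical
  have h1 : ∀ i, ∃ (V : X.Opens) (hV : V ≤ U) (s : Γ(FlatMod.freeMod X N, V)), x ∈ V ∧
      φ.app V s = E.presheaf.map (homOfLE hV).op (σ i) :=
    fun i => Groth.Agent.H53.modules_epi_locally_surjective φ U (σ i) x hx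
  choose V₁ hV₁ s hxV₁ hs using h1
  let W : X.Opens := ⟨(U : Set X) ∩ ⋂ i, (V₁ i : Set X),
    U.2.inter (isOpen_iInter_of_finite (fun i => (V₁ i).2))⟩
  have hxW : x ∈ W := ⟨hx, Set.mem_iInter.mpr (fun i => hxV₁ i)⟩
  obtain ⟨V, hVaff, hxV, hVW⟩ := (Opens.isBasis_iff_nbhd.mp X.isBasis_affineOpens) hxW
  have hVi : ∀ i, V ≤ V₁ i := fun i y hy => Set.mem_iInter.mp (hVW hy).2 i
  have hVU : V ≤ U := fun y hy => (hVW hy).1
  refine ⟨⟨V, hVaff⟩, hVU, fun i j => (Groth.Agent.H8.freeπ X N j).app V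
    ((FlatMod.freeMod X N).presheaf.map (homOfLE (hVi i)).op (s i)), hxV, fun i => ?_⟩
  obtain ⟨t, ht⟩ : ∃ t : Γ(FlatMod.freeMod X N, V),
      t = (FlatMod.freeMod X N).presheaf.map (homOfLE (hVi i)).op (s i) := ⟨_, rfl⟩
  have e1 : E.presheaf.map (homOfLE hVU).op (σ i) = φ.app V t := by
    rw [ht, Groth.Agent.H8.app_res, hs i, Groth.Agent.H8.res_res]
  have e2 : t = ∑ j, (Groth.Agent.H8.freeι X N j).app V ((Groth.Agent.H8.freeπ X N j).app V t) := by
    have h := congrArg (fun ψ : FlatMod.freeMod X N ⟶ FlatMod.freeMod X N => ψ.app V t)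
      (Groth.Agent.H8.sum_freeπ_ι X N)
    simp only [Groth.Agent.H8.app_sum] at h
    exact h.symm
  show E.presheaf.map (homOfLE hVU).op (σ i) = _
  rw [e1]
  conv_lhs => rw [e2]
  rw [map_sum]
  refine Finset.sum_congr rfl (fun j _ => ?_)
  subst ht
  exact app_fun (Groth.Agent.H8.freeι X N j ≫ φ) V ((Groth.Agent.H8.freeπ X N j).app V _)

end Groth.Agent.H88.GGTrivLS
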