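import Mathlib
import Groth.Prelude.Def_ExtPow2
import Groth.Agent.H88.Frame
import Groth.Agent.H33.P1Frame
import Groth.Agent.H26.P1DescFrames
import Groth.Agent.H22.P1FrameBasis
import Groth.Agent.H53.ModEpi
import Groth.Agent.H8.FreeMod
import Groth.Agent.H18.SecTw
import Groth.Agent.H26.GGTriv_AL
import Groth.Agent.H26.GGTriv_FB
import Groth.Agent.H26.GGTriv_GL
import Groth.Agent.H88.GGTrivLS
import Groth.Agent.H88.PicPn
import Groth.Agent.H18.ProjSpaceGlobal

/-!
# A globally generated vector bundle with trivial determinant on `P^n_k` is trivial (S11489)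

Pieces (AL), (ML), (FB), (FD), (GL) are by helper26 (`Groth.Agent.H26.GGTriv_*`).
-/

set_option autoImplicit false
set_option linter.style.haveILetI false
universe u
open CategoryTheory CategoryTheory.Limits AlgebraicGeometry Opposite TopologicalSpace
open Groth.Agent.H18.TensorGen (IsGen)
open Groth.Agent.H88.Frame Groth.Agent.H18.SecTw
open Groth.Agent.H26.GGTriv Groth.Agent.H88.GGTrivLS

namespace Groth.Agent.H88.GGTriv

section General

variable {X : Scheme.{u}} {E L : X.Modules} {r : ℕ}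

/-- the wedge of `r` global sections, as a global section of an `r`-th exterior power -/
theorem exists_wedge
    (ψ : ∀ U : X.affineOpens, (L.val.obj (op U.1)) ≃ₗ[Γ(X, U.1)]
      ↥(⋀[Γ(X, U.1)]^r (E.val.obj (op U.1))))
    (hψ : ∀ (U V : X.affineOpens) (h : V.1 ≤ U.1) (e : Fin r → E.val.obj (op U.1)),
      L.val.map (homOfLE h).op ((ψ U).symm (exteriorPower.ιMulti _ r e)) =
        (ψ V).symm (exteriorPower.ιMulti _ r (fun j => E.val.map (homOfLE h).op (e j))))
    (v : Fin r → Γ(E, ⊤)) :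
    ∃ w : Γ(L, ⊤), ∀ U : X.affineOpens,
      L.presheaf.map (homOfLE (le_top : U.1 ≤ ⊤)).op w =
        (ψ U).symm (exteriorPower.ιMulti _ r
          (fun i => E.presheaf.map (homOfLE (le_top : U.1 ≤ ⊤)).op (v i))) := by
  refine exists_section_of_affine_family L
    (fun U => (ψ U).symm (exteriorPower.ιMulti _ r
      (fun i => E.presheaf.map (homOfLE (le_top : U.1 ≤ ⊤)).op (v i)))) ?_
  intro U V h
  refine (hψ U V h _).trans ?_
  congr 2
  funext i
  exact Groth.Agent.H8.res_res E h le_top (v i)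

/-- generators of `L(V)` from a global section mapping to a unit under `L ≅ O` -/
theorem span_res_eq_top (ι : L ≅ Coh.structureModule X) (w : Γ(L, ⊤))
    (hu : IsUnit (show Γ(X, ⊤) from ι.hom.app ⊤ w)) (V : X.Opens) :
    Submodule.span Γ(X, V) {(show L.val.obj (op V) from
      L.presheaf.map (homOfLE (le_top : V ≤ ⊤)).op w)} = ⊤ := by
  have hbij : Function.Bijective (ι.hom.app V) := by
    have h1 : IsIso (ι.hom.app V) :=
      (Scheme.Modules.Hom.isIso_iff_isIso_app (φ := ι.hom)).mp inferInstance V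
    exact (ConcreteCategory.isIso_iff_bijective _).mp h1
  obtain ⟨uV, huV⟩ : ∃ uV : Γ(X, V), uV = X.presheaf.map (homOfLE (le_top : V ≤ ⊤)).op
      (show Γ(X, ⊤) from ι.hom.app ⊤ w) := ⟨_, rfl⟩
  have huVunit : IsUnit uV := by
    rw [huV]
    exact hu.map (X.presheaf.map (homOfLE (le_top : V ≤ ⊤)).op).hom
  have hres : ι.hom.app V (L.presheaf.map (homOfLE (le_top : V ≤ ⊤)).op w) =
      (show Γ(Coh.structureModule X, V) from uV) := by
    rw [Groth.Agent.H8.app_res, huV]
    rfl
  rw [Submodule.eq_top_iff']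
  intro y
  rw [Submodule.mem_span_singleton]
  obtain ⟨g, hg⟩ : ∃ g : Γ(X, V), g = (show Γ(X, V) from ι.hom.app V y) := ⟨_, rfl⟩
  obtain ⟨uinv, huinv⟩ := huVunit.exists_right_inv
  refine ⟨g * uinv, ?_⟩
  apply hbij.1
  have h2 := Scheme.Modules.Hom.app_smul ι.hom (g * uinv)
    (L.presheaf.map (homOfLE (le_top : V ≤ ⊤)).op w)
  refine h2.trans ?_
  rw [hres]
  show (g * uinv) * uV = ι.hom.app V y
  rw [mul_assoc, mul_comm uinv uV, huinv, mul_one, hg]

/-- The general statement. -/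
theorem nonempty_iso_freeMod [Nonempty X] {N : ℕ}
    (hK : ∀ f : Γ(X, ⊤), f = 0 ∨ IsUnit f)
    (hfr : ∀ x : X, ∃ (U : X.Opens) (σ : Fin r → Γ(E, U)), x ∈ U ∧ IsFrame E U σ)
    (φ : FlatMod.freeMod X N ⟶ E) [Epi φ]
    (ψ : ∀ U : X.affineOpens, (L.val.obj (op U.1)) ≃ₗ[Γ(X, U.1)]
      ↥(⋀[Γ(X, U.1)]^r (E.val.obj (op U.1))))
    (hψ : ∀ (U V : X.affineOpens) (h : V.1 ≤ U.1) (e : Fin r → E.val.obj (op U.1)),
      L.val.map (homOfLE h).op ((ψ U).symm (exteriorPower.ιMulti _ r e)) =
        (ψ V).symm (exteriorPower.ιMulti _ r (fun j => E.val.map (homOfLE h).op (e j))))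
    (ι : L ≅ Coh.structureModule X) :
    Nonempty (E ≅ FlatMod.freeMod X r) := by
  classical
  obtain ⟨sj, hsj⟩ : ∃ sj : Fin N → (Coh.structureModule X ⟶ E),
      sj = fun j => Groth.Agent.H8.freeι X N j ≫ φ := ⟨_, rfl⟩
  have hw : ∀ I : Fin r → Fin N, ∃ w : Γ(L, ⊤), ∀ U : X.affineOpens,
      L.presheaf.map (homOfLE (le_top : U.1 ≤ ⊤)).op w =
        (ψ U).symm (exteriorPower.ιMulti _ r (fun i => sv (sj (I i)) U.1)) := by
    intro I
    obtain ⟨w, hw⟩ := exists_wedge ψ hψ (fun i => sv (sj (I i)) ⊤)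
    refine ⟨w, fun U => ?_⟩
    rw [hw U]
    congr 2
    funext i
    exact sv_res (sj (I i)) le_top
  choose w hw using hw
  -- the wedge over an affine open
  have hwψ : ∀ (I : Fin r → Fin N) (U : X.affineOpens),
      exteriorPower.ιMulti Γ(X, U.1) r (fun i => sv (sj (I i)) U.1) =
        ψ U (L.presheaf.map (homOfLE (le_top : U.1 ≤ ⊤)).op (w I)) := by
    intro I U
    have h0 := congrArg (ψ U) (hw I U)
    rw [LinearEquiv.apply_symm_apply] at h0
    exact h0.symm
  -- some wedge is a unit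
  have hex : ∃ I, IsUnit (show Γ(X, ⊤) from ι.hom.app ⊤ (w I)) := by
    by_contra hcon
    push Not at hcon
    have hbij : Function.Bijective (ι.hom.app ⊤) := by
      have h1 : IsIso (ι.hom.app ⊤) :=
        (Scheme.Modules.Hom.isIso_iff_isIso_app (φ := ι.hom)).mp inferInstance ⊤
      exact (ConcreteCategory.isIso_iff_bijective _).mp h1
    have hz : ∀ I, w I = 0 := by
      intro I
      rcases hK (ι.hom.app ⊤ (w I)) with h | h
      · apply hbij.1
        rw [map_zero]
        exact h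
      · exact absurd h (hcon I)
    obtain ⟨x⟩ := ‹Nonempty X›
    obtain ⟨U₀, σ, hxU, hσ⟩ := hfr x
    obtain ⟨V, hV, B, hxV, hB⟩ := exists_affine_span_of_epi φ σ x hxU
    obtain ⟨b, hb⟩ := exists_basis_of_isFrame (hσ.res hV)
    have hsub : Subsingleton Γ(X, V.1) := by
      refine subsingleton_of_wedges_zero b (fun j => sv (sj j) V.1) B (fun i => ?_) (fun I => ?_)
      · rw [hb i, hsj]
        exact hB i
      · have h1 := hwψ I V
        rw [hz I, map_zero] at h1
        rw [h1]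
        exact map_zero (ψ V)
    haveI : Nonempty V.1 := ⟨⟨x, hxV⟩⟩
    haveI : Nontrivial Γ(X, V.1) := by
      have h1 : (X.presheaf.germ V.1 x hxV).hom (1 : Γ(X, V.1)) ≠
          (X.presheaf.germ V.1 x hxV).hom 0 := by
        rw [map_one, map_zero]
        exact one_ne_zero
      exact ⟨⟨1, 0, fun h => h1 (congrArg _ h)⟩⟩
    exact not_subsingleton _ hsub
  obtain ⟨I, hI⟩ := hex
  -- frames
  have hframe : ∀ x : X, ∃ V : X.Opens, x ∈ V ∧ IsFrame E V (fun i => sv (sj (I i)) V) := by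
    intro x
    obtain ⟨U₀, σ, hxU, hσ⟩ := hfr x
    obtain ⟨V, hVaff, hxV, hVU⟩ : ∃ V : X.Opens, IsAffineOpen V ∧ x ∈ V ∧ V ≤ U₀ := by
      obtain ⟨V, hVmem, hxV, hVU⟩ := (Opens.isBasis_iff_nbhd.mp X.isBasis_affineOpens) hxU
      exact ⟨V, hVmem, hxV, hVU⟩
    have hσV := hσ.res hVU
    obtain ⟨b, hb⟩ := exists_basis_of_isFrame hσV
    refine ⟨V, hxV, isFrame_of_isUnit_det hσV b hb _ (isUnit_det_of_span_ιMulti b _ ?_)⟩
    have h1 := hwψ I ⟨V, hVaff⟩
    have h2 := span_res_eq_top ι (w I) hI V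
    have h3 := congrArg (Submodule.map (ψ ⟨V, hVaff⟩).toLinearMap) h2
    rw [Submodule.map_span, Set.image_singleton, Submodule.map_top,
      LinearEquiv.range] at h3
    rw [h1]
    exact h3
  choose V hxV hV using hframe
  have hiso := Groth.Agent.H26.P1DescFrames.isIso_desc_of_frames
    (fun _ : Fin r => Coh.structureModule X) E (fun i => sj (I i)) V (fun x => ⟨x, hxV x⟩)
    (fun x _ => (show Γ(Coh.structureModule X, V x) from (1 : Γ(X, V x))))
    (fun x _ => Groth.Agent.H18.TensorGen.isGen_one (V x)) (fun x => hV x)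
  exact ⟨(asIso (Sigma.desc fun i => sj (I i))).symm⟩

end General

section PN

variable (n : ℕ) (k : Type u) [Field k]

/-- global functions on `P^n_k` are zero or invertible -/
theorem eq_zero_or_isUnit (f : Γ(Proj (CohB1.polyGrading n k), ⊤)) : f = 0 ∨ IsUnit f := by
  haveI := Groth.Agent.H18.ProjSpaceGlobal.isIso_appTop_aux n k
  let e : CommRingCat.of k ≅ Γ(Proj (CohB1.polyGrading n k), ⊤) :=
    (Scheme.ΓSpecIso (CommRingCat.of k)).symm ≪≫
      asIso (Proj.toSpecZero (CohB1.polyGrading n k) ≫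
        Spec.map (CommRingCat.ofHom (algebraMap k (CohB1.polyGrading n k 0)))).appTop
  let e' : k ≃+* Γ(Proj (CohB1.polyGrading n k), ⊤) := e.commRingCatIsoToRingEquiv
  by_cases h : e'.symm f = 0
  · left
    have h1 := congrArg e' h
    rw [RingEquiv.apply_symm_apply, map_zero] at h1
    exact h1
  · right
    have h1 := (IsUnit.mk0 _ h).map e'
    rw [RingEquiv.apply_symm_apply] at h1
    exact h1

end PN

end Groth.Agent.H88.GGTriv
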