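/-
Helper library (helper88): twists, cuts and the Basic Inequality on finite multigraphs.
-/
import Groth.Prelude.Def_W4c1nerontoraddGraph
import Groth.Prelude.Def_W4c4cptpiccptjacBI
import Mathlib.LinearAlgebra.FiniteDimensional.Basic
import Mathlib.LinearAlgebra.FiniteDimensional.Lemmas
import Mathlib.LinearAlgebra.Dimension.Constructions
import Mathlib.Tactic

set_option autoImplicit false
universe u

namespace Groth.Agent.H88
namespace LG
open LabGraph

variable {V E : Type u} [Fintype V] [Fintype E] [DecidableEq V] [DecidableEq E]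

/-- integer indicator of a vertex set -/
def ind (Y : Finset V) (v : V) : ℤ := if v ∈ Y then 1 else 0

theorem cut_eq_sum (ends : E → V × V) (Y : Finset V) :
    (cut ends Y : ℤ) = ∑ e : E, (ind Y (ends e).1 - ind Y (ends e).2) ^ 2 := by
  unfold cut
  rw [Finset.card_filter]
  push_cast
  apply Finset.sum_congr rfl
  intro e _
  unfold ind
  by_cases h1 : (ends e).1 ∈ Y <;> by_cases h2 : (ends e).2 ∈ Y <;> simp [h1, h2]

theorem sum_twist (ends : E → V × V) (φ : V → ℤ) (Y : Finset V) :
    ∑ v ∈ Y, twist ends φ v = ∑ e : E, (ind Y (ends e).1 * (φ (ends e).2 - φ (ends e).1) +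
      ind Y (ends e).2 * (φ (ends e).1 - φ (ends e).2)) := by
  unfold twist
  rw [Finset.sum_comm]
  apply Finset.sum_congr rfl
  intro e _
  rw [Finset.sum_add_distrib, Finset.sum_ite_eq, Finset.sum_ite_eq]
  unfold ind
  by_cases h1 : (ends e).1 ∈ Y <;> by_cases h2 : (ends e).2 ∈ Y <;> simp [h1, h2]

theorem sum_endCount (ends : E → V × V) :
    (∑ v : V, (endCount ends Finset.univ v : ℤ)) = 2 * (Fintype.card E : ℤ) := by
  unfold endCount
  push_cast
  rw [Finset.sum_comm]
  have h : ∀ e ∈ (Finset.univ : Finset E), (∑ v : V, (((if (ends e).1 = v then 1 else 0) : ℤ) +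
      (if (ends e).2 = v then 1 else 0))) = 2 := by
    intro e _
    rw [Finset.sum_add_distrib, Finset.sum_ite_eq, Finset.sum_ite_eq]
    simp
  rw [Finset.sum_congr rfl h, Finset.sum_const, Finset.card_univ, nsmul_eq_mul]
  ring

theorem canDeg_univ (ends : E → V × V) (w : V → ℕ) :
    canDeg ends w Finset.univ = 2 * genus ends w - 2 := by
  unfold canDeg genus
  rw [Finset.sum_add_distrib, Finset.sum_sub_distrib, sum_endCount, ← Finset.mul_sum,
    Finset.sum_const, Finset.card_univ, nsmul_eq_mul]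
  ring

theorem sum_twist_univ (ends : E → V × V) (φ : V → ℤ) : ∑ v : V, twist ends φ v = 0 := by
  rw [sum_twist]
  apply Finset.sum_eq_zero
  intro e _
  simp only [ind, Finset.mem_univ, if_true]
  ring

theorem twist_sub_mul (ends : E → V × V) (ψ φ : V → ℤ) (M : ℤ) (v : V) :
    twist ends (fun u => ψ u - M * φ u) v = twist ends ψ v - M * twist ends φ v := by
  unfold twist
  rw [Finset.mul_sum, ← Finset.sum_sub_distrib]
  apply Finset.sum_congr rfl
  intro e _
  split_ifs <;> ring

theorem twist_neg (ends : E → V × V) (φ : V → ℤ) (v : V) :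
    twist ends (fun u => - φ u) v = - twist ends φ v := by
  unfold twist
  rw [← Finset.sum_neg_distrib]
  apply Finset.sum_congr rfl
  intro e _
  split_ifs <;> ring

theorem twist_shift (ends : E → V × V) (φ : V → ℤ) (c : ℤ) (v : V) :
    twist ends (fun u => φ u - c) v = twist ends φ v := by
  unfold twist
  apply Finset.sum_congr rfl
  intro e _
  split_ifs <;> ring

/-- Dirichlet energy of an integer vertex labelling. -/
def energy (ends : E → V × V) (θ : V → ℤ) : ℤ := ∑ e : E, (θ (ends e).1 - θ (ends e).2) ^ 2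

theorem energy_nonneg (ends : E → V × V) (θ : V → ℤ) : 0 ≤ energy ends θ :=
  Finset.sum_nonneg (fun _ _ => sq_nonneg _)

theorem energy_add_ind (ends : E → V × V) (θ : V → ℤ) (t : ℤ) (Y : Finset V) :
    energy ends (fun v => θ v + t * ind Y v) =
      energy ends θ - 2 * t * (∑ v ∈ Y, twist ends θ v) + t ^ 2 * (cut ends Y : ℤ) := by
  unfold energy
  rw [cut_eq_sum, sum_twist, Finset.mul_sum, Finset.mul_sum, ← Finset.sum_sub_distrib,
    ← Finset.sum_add_distrib]
  apply Finset.sum_congr rfl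
  intro e _
  ring

/-! ### the rational Laplacian -/

/-- rational twist -/
def twQ (ends : E → V × V) (θ : V → ℚ) (v : V) : ℚ :=
  ∑ e : E, ((if (ends e).1 = v then θ (ends e).2 - θ (ends e).1 else 0) +
    (if (ends e).2 = v then θ (ends e).1 - θ (ends e).2 else 0))

theorem twQ_add (ends : E → V × V) (x y : V → ℚ) (v : V) :
    twQ ends (x + y) v = twQ ends x v + twQ ends y v := by
  unfold twQ
  rw [← Finset.sum_add_distrib]
  apply Finset.sum_congr rfl
  intro e _
  simp only [Pi.add_apply]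
  split_ifs <;> ring

theorem twQ_smul (ends : E → V × V) (c : ℚ) (x : V → ℚ) (v : V) :
    twQ ends (c • x) v = c * twQ ends x v := by
  unfold twQ
  rw [Finset.mul_sum]
  apply Finset.sum_congr rfl
  intro e _
  simp only [Pi.smul_apply, smul_eq_mul]
  split_ifs <;> ring

theorem sum_twQ (ends : E → V × V) (θ : V → ℚ) : ∑ v, twQ ends θ v = 0 := by
  unfold twQ
  rw [Finset.sum_comm]
  apply Finset.sum_eq_zero
  intro e _
  rw [Finset.sum_add_distrib, Finset.sum_ite_eq, Finset.sum_ite_eq]
  simp only [Finset.mem_univ, if_true]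
  ring

theorem sum_mul_twQ (ends : E → V × V) (θ : V → ℚ) :
    ∑ v, θ v * twQ ends θ v = - ∑ e : E, (θ (ends e).1 - θ (ends e).2) ^ 2 := by
  unfold twQ
  simp_rw [Finset.mul_sum]
  rw [Finset.sum_comm, ← Finset.sum_neg_distrib]
  apply Finset.sum_congr rfl
  intro e _
  simp only [mul_add, mul_ite, mul_zero]
  rw [Finset.sum_add_distrib, Finset.sum_ite_eq, Finset.sum_ite_eq]
  simp only [Finset.mem_univ, if_true]
  ring

theorem const_of_twQ_eq_zero (ends : E → V × V) (hconn : Connected ends) (θ : V → ℚ)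
    (h : ∀ v, twQ ends θ v = 0) : ∀ v w, θ v = θ w := by
  have h0 : ∑ e : E, (θ (ends e).1 - θ (ends e).2) ^ 2 = 0 := by
    have h1 := sum_mul_twQ ends θ
    have h5 : ∑ v, θ v * twQ ends θ v = 0 :=
      Finset.sum_eq_zero (fun v _ => by rw [h v, mul_zero])
    rw [h5] at h1
    linarith
  have h2 : ∀ e : E, θ (ends e).1 = θ (ends e).2 := by
    intro e
    have h3 := (Finset.sum_eq_zero_iff_of_nonneg
      (fun e _ => sq_nonneg (θ (ends e).1 - θ (ends e).2))).mp h0 e (Finset.mem_univ e)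
    have h4 : θ (ends e).1 - θ (ends e).2 = 0 := by
      rcases pow_eq_zero_iff (two_ne_zero) |>.mp h3 with h
      exact h
    linarith
  have hadj : ∀ v w, Adj ends v w → θ v = θ w := by
    rintro v w ⟨e, he | he⟩
    · have h3 := h2 e
      rw [he] at h3
      exact h3
    · have h3 := h2 e
      rw [he] at h3
      exact h3.symm
  intro v w
  have hp := hconn.2 v w
  induction hp with
  | refl => rfl
  | tail _ hbc ih => exact ih.trans (hadj _ _ hbc)

/-- the rational Laplacian plus the total sum: an injective endomorphism. -/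
def lapQ (ends : E → V × V) : (V → ℚ) →ₗ[ℚ] (V → ℚ) where
  toFun θ v := twQ ends θ v + ∑ u, θ u
  map_add' x y := by
    funext v
    show twQ ends (x + y) v + ∑ u, (x + y) u
      = (twQ ends x v + ∑ u, x u) + (twQ ends y v + ∑ u, y u)
    rw [twQ_add]
    simp only [Pi.add_apply]
    rw [Finset.sum_add_distrib]
    ring
  map_smul' c x := by
    funext v
    show twQ ends (c • x) v + ∑ u, (c • x) u = c * (twQ ends x v + ∑ u, x u)
    rw [twQ_smul]
    simp only [Pi.smul_apply, smul_eq_mul]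
    rw [← Finset.mul_sum]
    ring

theorem lapQ_apply (ends : E → V × V) (θ : V → ℚ) (v : V) :
    lapQ ends θ v = twQ ends θ v + ∑ u, θ u := rfl

theorem lapQ_injective (ends : E → V × V) (hconn : Connected ends) :
    Function.Injective (lapQ ends) := by
  rw [← LinearMap.ker_eq_bot, LinearMap.ker_eq_bot']
  intro θ hθ
  have hθ' : ∀ v, twQ ends θ v + ∑ u, θ u = 0 := fun v => by
    have h1 := congrFun hθ v
    rw [lapQ_apply] at h1
    exact h1
  obtain ⟨v₀⟩ := hconn.1
  haveI : Nonempty V := ⟨v₀⟩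
  have hcard : (0 : ℚ) < Fintype.card V := by exact_mod_cast Fintype.card_pos
  have hs : (Fintype.card V : ℚ) * ∑ u, θ u = 0 := by
    have h1 : ∑ v, (twQ ends θ v + ∑ u, θ u) = 0 := Finset.sum_eq_zero (fun v _ => hθ' v)
    rw [Finset.sum_add_distrib, sum_twQ, Finset.sum_const, Finset.card_univ, nsmul_eq_mul,
      zero_add] at h1
    exact h1
  have hs0 : ∑ u, θ u = 0 := by
    rcases mul_eq_zero.mp hs with h | h
    · exact absurd h hcard.ne'
    · exact h
  have htw : ∀ v, twQ ends θ v = 0 := fun v => by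
    have h1 := hθ' v
    rw [hs0, add_zero] at h1
    exact h1
  have hconst := const_of_twQ_eq_zero ends hconn θ htw
  have hc : (Fintype.card V : ℚ) * θ v₀ = 0 := by
    have h1 : ∑ u, θ u = ∑ _u : V, θ v₀ := Finset.sum_congr rfl (fun u _ => hconst u v₀)
    rw [Finset.sum_const, Finset.card_univ, nsmul_eq_mul] at h1
    rw [← h1]
    exact hs0
  have h0 : θ v₀ = 0 := by
    rcases mul_eq_zero.mp hc with h | h
    · exact absurd h hcard.ne'
    · exact h
  funext v
  rw [hconst v v₀, h0]
  rfl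

theorem exists_twQ_eq (ends : E → V × V) (hconn : Connected ends) (x : V → ℚ)
    (hx : ∑ v, x v = 0) : ∃ θ : V → ℚ, ∀ v, twQ ends θ v = x v := by
  obtain ⟨θ, hθ⟩ := (LinearMap.injective_iff_surjective.mp (lapQ_injective ends hconn)) x
  obtain ⟨v₀⟩ := hconn.1
  haveI : Nonempty V := ⟨v₀⟩
  have hcard : (0 : ℚ) < Fintype.card V := by exact_mod_cast Fintype.card_pos
  have hθ' : ∀ v, twQ ends θ v + ∑ u, θ u = x v := fun v => by
    rw [← hθ]
    rfl
  have hs : (Fintype.card V : ℚ) * ∑ u, θ u = 0 := by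
    have h1 : ∑ v, (twQ ends θ v + ∑ u, θ u) = ∑ v, x v :=
      Finset.sum_congr rfl (fun v _ => hθ' v)
    rw [Finset.sum_add_distrib, sum_twQ, Finset.sum_const, Finset.card_univ, nsmul_eq_mul,
      zero_add, hx] at h1
    exact h1
  have hs0 : ∑ u, θ u = 0 := by
    rcases mul_eq_zero.mp hs with h | h
    · exact absurd h hcard.ne'
    · exact h
  refine ⟨θ, fun v => ?_⟩
  have h1 := hθ' v
  rw [hs0, add_zero] at h1
  exact h1

theorem exists_common_den (q : V → ℚ) :
    ∃ N : ℕ, 0 < N ∧ ∀ v, ∃ z : ℤ, (z : ℚ) = (N : ℚ) * q v := by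
  have key : ∀ (r : ℚ) (n : ℤ) (d m : ℕ), d ≠ 0 → r = (n : ℚ) / (d : ℚ) →
      ((m : ℚ) * (n : ℚ)) = ((d : ℚ) * (m : ℚ)) * r := by
    intro r n d m hd hr
    have hd' : (d : ℚ) ≠ 0 := by exact_mod_cast hd
    rw [hr]
    field_simp
  refine ⟨∏ v, (q v).den, Finset.prod_pos (fun v _ => (q v).den_pos), fun v => ?_⟩
  obtain ⟨m, hm⟩ := Finset.dvd_prod_of_mem (fun u => (q u).den) (Finset.mem_univ v)
  refine ⟨(m : ℤ) * (q v).num, ?_⟩
  rw [hm]
  push_cast
  exact key (q v) (q v).num (q v).den m (q v).den_nz (Rat.num_div_den (q v)).symm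

theorem cast_twist (ends : E → V × V) (z : V → ℤ) (v : V) :
    ((twist ends z v : ℤ) : ℚ) = twQ ends (fun u => (z u : ℚ)) v := by
  unfold twist twQ
  rw [Int.cast_sum]
  apply Finset.sum_congr rfl
  intro e _
  split_ifs <;> push_cast <;> ring

/-- On a connected multigraph every integer vector of total zero has a positive multiple which is
a twist. -/
theorem exists_twist_eq_smul (ends : E → V × V) (hconn : Connected ends) (x : V → ℤ)
    (hx : ∑ v, x v = 0) :
    ∃ (N : ℤ) (ψ : V → ℤ), 0 < N ∧ ∀ v, twist ends ψ v = N * x v := by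
  have hxQ : ∑ v, ((x v : ℤ) : ℚ) = 0 := by exact_mod_cast hx
  obtain ⟨θ, hθ⟩ := exists_twQ_eq ends hconn (fun v => (x v : ℚ)) hxQ
  obtain ⟨N, hN, hz⟩ := exists_common_den θ
  choose z hz using hz
  refine ⟨(N : ℤ), z, by exact_mod_cast hN, fun v => ?_⟩
  have h1 : ((twist ends z v : ℤ) : ℚ) = (((N : ℤ) * x v : ℤ) : ℚ) := by
    rw [cast_twist]
    have h2 : (fun u => (z u : ℚ)) = (N : ℚ) • θ := by
      funext u
      rw [hz u]
      rfl
    rw [h2, twQ_smul, hθ]
    simp
  exact_mod_cast h1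

/-! ### consequences of the Basic Inequality -/

theorem BI_diff_ge (ends : E → V × V) (w : V → ℕ) (d d' : V → ℤ)
    (hK : 0 < canDeg ends w Finset.univ) (hBI : SatisfiesBI ends w d)
    (hBI' : SatisfiesBI ends w d') (hD : ∑ v, d v = ∑ v, d' v) (Y : Finset V) :
    - (cut ends Y : ℤ) ≤ ∑ v ∈ Y, (d v - d' v) := by
  have h1 := hBI Y
  have h2 := hBI' Y
  rw [← hD] at h2
  rw [Finset.sum_sub_distrib]
  have hA := neg_abs_le (canDeg ends w Finset.univ * ∑ v ∈ Y, d v
    - (∑ v, d v) * canDeg ends w Y)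
  have hB := le_abs_self (canDeg ends w Finset.univ * ∑ v ∈ Y, d' v
    - (∑ v, d v) * canDeg ends w Y)
  have h4 : canDeg ends w Finset.univ * (-(cut ends Y : ℤ))
      ≤ canDeg ends w Finset.univ * (∑ v ∈ Y, d v - ∑ v ∈ Y, d' v) := by
    nlinarith [h1, h2, hA, hB]
  exact le_of_mul_le_mul_left h4 hK

theorem exists_crossing (ends : E → V × V) (hconn : Connected ends) (P : V → Prop) (v w : V)
    (hv : P v) (hw : ¬ P w) :
    ∃ e : E, (P (ends e).1 ∧ ¬ P (ends e).2) ∨ (¬ P (ends e).1 ∧ P (ends e).2) := by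
  have hpath := hconn.2 v w
  induction hpath with
  | refl => exact absurd hv hw
  | tail hab hbc ih =>
    rename_i b c
    by_cases hb : P b
    · obtain ⟨e, he | he⟩ := hbc
      · exact ⟨e, Or.inl (by rw [he]; exact ⟨hb, hw⟩)⟩
      · exact ⟨e, Or.inr (by rw [he]; exact ⟨hw, hb⟩)⟩
    · exact ih hb

end LG
end Groth.Agent.H88
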