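/-
Helper library (helper88): more lemmas on twists of indicator functions and cuts.
-/
import Groth.Agent.H88.LabGraphBI

set_option autoImplicit false
universe u

namespace Groth.Agent.H88
namespace LG
open LabGraph

variable {V E : Type u} [Fintype V] [Fintype E] [DecidableEq V] [DecidableEq E]

theorem twist_const (ends : E → V × V) (c : ℤ) (v : V) : twist ends (fun _ => c) v = 0 := by
  unfold twist
  apply Finset.sum_eq_zero
  intro e _
  split_ifs <;> ring

theorem twist_ind_term_nonpos (W : Finset V) (v : V) (hv : v ∈ W) (a b : V) :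
    ((if a = v then (if b ∈ W then (1 : ℤ) else 0) - (if a ∈ W then (1 : ℤ) else 0) else 0) +
     (if b = v then (if a ∈ W then (1 : ℤ) else 0) - (if b ∈ W then (1 : ℤ) else 0) else 0)) ≤ 0 := by
  have hA : ∀ x : V, (0 : ℤ) ≤ (if x ∈ W then (1 : ℤ) else 0) ∧
      (if x ∈ W then (1 : ℤ) else 0) ≤ 1 ∧ (x = v → (if x ∈ W then (1 : ℤ) else 0) = 1) := by
    intro x
    by_cases hx : x ∈ W
    · rw [if_pos hx]
      exact ⟨by norm_num, le_refl _, fun _ => rfl⟩
    · rw [if_neg hx]
      refine ⟨le_refl _, by norm_num, fun hxv => ?_⟩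
      exact absurd (by rw [hxv]; exact hv : x ∈ W) hx
  obtain ⟨a0, a1, a2⟩ := hA a
  obtain ⟨b0, b1, b2⟩ := hA b
  generalize (if a ∈ W then (1 : ℤ) else 0) = A at *
  generalize (if b ∈ W then (1 : ℤ) else 0) = B at *
  by_cases h1 : a = v <;> by_cases h2 : b = v
  · rw [if_pos h1, if_pos h2]
    linarith
  · rw [if_pos h1, if_neg h2]
    have h3 := a2 h1
    linarith
  · rw [if_neg h1, if_pos h2]
    have h3 := b2 h2
    linarith
  · rw [if_neg h1, if_neg h2]
    norm_num

theorem twist_ind_nonpos (ends : E → V × V) (W : Finset V) (v : V) (h : v ∈ W ∨ W = ∅) :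
    twist ends (fun u => if u ∈ W then (1 : ℤ) else 0) v ≤ 0 := by
  rcases h with h | h
  · simp only [twist]
    apply Finset.sum_nonpos
    intro e _
    exact twist_ind_term_nonpos W v h (ends e).1 (ends e).2
  · subst h
    have h0 : (fun u : V => if u ∈ (∅ : Finset V) then (1 : ℤ) else 0) = fun _ => 0 := by
      funext u
      simp
    rw [h0, twist_const]

theorem twist_ind_neg (ends : E → V × V) (W : Finset V) (v : V) (hv : v ∈ W) (e₀ : E)
    (he₀ : ((ends e₀).1 = v ∧ (ends e₀).2 ∉ W) ∨ ((ends e₀).2 = v ∧ (ends e₀).1 ∉ W)) :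
    twist ends (fun u => if u ∈ W then (1 : ℤ) else 0) v < 0 := by
  simp only [twist]
  refine lt_of_lt_of_eq (Finset.sum_lt_sum (g := fun _ => (0 : ℤ)) ?_ ?_) Finset.sum_const_zero
  · intro e _
    exact twist_ind_term_nonpos W v hv (ends e).1 (ends e).2
  · refine ⟨e₀, Finset.mem_univ _, ?_⟩
    rcases he₀ with ⟨h1, h2⟩ | ⟨h1, h2⟩
    · have h3 : (ends e₀).1 ∈ W := by rw [h1]; exact hv
      have h4 : (ends e₀).2 ≠ v := fun h => h2 (by rw [h]; exact hv)
      rw [if_pos h1, if_neg h4, if_neg h2, if_pos h3]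
      norm_num
    · have h3 : (ends e₀).2 ∈ W := by rw [h1]; exact hv
      have h4 : (ends e₀).1 ≠ v := fun h => h2 (by rw [h]; exact hv)
      rw [if_neg h4, if_pos h1, if_neg h2, if_pos h3]
      norm_num

theorem ind_insert (T : Finset V) (v : V) (hv : v ∉ T) (x : V) :
    ind (insert v T) x = ind T x + ind {v} x := by
  unfold ind
  by_cases h1 : x = v
  · subst h1
    simp [hv]
  · by_cases h2 : x ∈ T <;> simp [h1, h2]

theorem ind_facts (T : Finset V) (v : V) (hv : v ∉ T) (x : V) :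
    0 ≤ ind T x ∧ 0 ≤ ind {v} x ∧ ind T x * ind {v} x = 0 := by
  unfold ind
  by_cases h1 : x = v
  · subst h1
    simp [hv]
  · by_cases h2 : x ∈ T <;> simp [h1, h2]

theorem cut_insert_lt (ends : E → V × V) (T : Finset V) (v : V) (hv : v ∉ T) (e₀ : E)
    (he₀ : ((ends e₀).1 = v ∧ (ends e₀).2 ∈ T) ∨ ((ends e₀).2 = v ∧ (ends e₀).1 ∈ T)) :
    (cut ends (insert v T) : ℤ) < cut ends T + cut ends {v} := by
  rw [cut_eq_sum, cut_eq_sum, cut_eq_sum, ← Finset.sum_add_distrib]
  apply Finset.sum_lt_sum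
  · intro e _
    rw [ind_insert T v hv, ind_insert T v hv]
    obtain ⟨hA, hα, hAα⟩ := ind_facts T v hv (ends e).1
    obtain ⟨hB, hβ, hBβ⟩ := ind_facts T v hv (ends e).2
    nlinarith [mul_nonneg hA hβ, mul_nonneg hB hα, hAα, hBβ]
  · refine ⟨e₀, Finset.mem_univ _, ?_⟩
    rcases he₀ with ⟨h1, h2⟩ | ⟨h1, h2⟩
    · have hb : (ends e₀).2 ≠ v := fun h => hv (by rw [← h]; exact h2)
      simp [ind, h1, h2, hb, hv]
    · have ha : (ends e₀).1 ≠ v := fun h => hv (by rw [← h]; exact h2)
      simp [ind, h1, h2, ha, hv]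

theorem endCount_univ_eq_cut_singleton (ends : E → V × V) (v : V)
    (hnl : ∀ e : E, ends e ≠ (v, v)) :
    (endCount ends Finset.univ v : ℤ) = cut ends {v} := by
  rw [cut_eq_sum]
  unfold endCount
  push_cast
  apply Finset.sum_congr rfl
  intro e _
  have h := hnl e
  unfold ind
  by_cases h1 : (ends e).1 = v <;> by_cases h2 : (ends e).2 = v
  · exact absurd (Prod.ext h1 h2) h
  · simp [h1, h2]
  · simp [h1, h2]
  · simp [h1, h2]

end LG
end Groth.Agent.H88
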