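/-
Helper library (helper88): exact insertion formula for cuts, neighbour counts, and
cuts of unions with independent sets of exceptional vertices.
-/
import Groth.Agent.H88.LabGraphBI2

set_option autoImplicit false
universe u

namespace Groth.Agent.H88
namespace LG
open LabGraph

variable {V E : Type u} [Fintype V] [Fintype E] [DecidableEq V] [DecidableEq E]

theorem ind_nonneg (A : Finset V) (x : V) : 0 ≤ ind A x := by
  unfold ind; split_ifs <;> norm_num

theorem ind_le_one (A : Finset V) (x : V) : ind A x ≤ 1 := by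
  unfold ind; split_ifs <;> norm_num

theorem ind_of_mem {A : Finset V} {x : V} (h : x ∈ A) : ind A x = 1 := if_pos h

theorem ind_of_not_mem {A : Finset V} {x : V} (h : x ∉ A) : ind A x = 0 := if_neg h

theorem ind_singleton (s x : V) : ind {s} x = if x = s then 1 else 0 := by
  unfold ind; simp only [Finset.mem_singleton]

/-- number of edge-ends at `s` whose other end lies in `A` -/
def nb (ends : E → V × V) (s : V) (A : Finset V) : ℤ :=
  ∑ e : E, (ind {s} (ends e).1 * ind A (ends e).2 + ind {s} (ends e).2 * ind A (ends e).1)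

theorem cut_insert_eq (ends : E → V × V) (A : Finset V) (s : V) (hs : s ∉ A) :
    (cut ends (insert s A) : ℤ) = cut ends A + cut ends {s} - 2 * nb ends s A := by
  rw [cut_eq_sum, cut_eq_sum, cut_eq_sum]
  unfold nb
  rw [Finset.mul_sum, ← Finset.sum_add_distrib, ← Finset.sum_sub_distrib]
  apply Finset.sum_congr rfl
  intro e _
  rw [ind_insert A s hs, ind_insert A s hs]
  obtain ⟨_, _, h1⟩ := ind_facts A s hs (ends e).1
  obtain ⟨_, _, h2⟩ := ind_facts A s hs (ends e).2
  linear_combination 2 * h1 + 2 * h2

theorem endCount_eq_sum_ind (ends : E → V × V) (s : V) :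
    (endCount ends Finset.univ s : ℤ) = ∑ e : E, (ind {s} (ends e).1 + ind {s} (ends e).2) := by
  unfold endCount
  push_cast
  apply Finset.sum_congr rfl
  intro e _
  rw [ind_singleton, ind_singleton]

theorem nb_le (ends : E → V × V) (s : V) (A : Finset V) :
    nb ends s A ≤ (endCount ends Finset.univ s : ℤ) := by
  rw [endCount_eq_sum_ind]
  unfold nb
  apply Finset.sum_le_sum
  intro e _
  have a1 := mul_le_of_le_one_right (ind_nonneg {s} (ends e).1) (ind_le_one A (ends e).2)
  have a2 := mul_le_of_le_one_right (ind_nonneg {s} (ends e).2) (ind_le_one A (ends e).1)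
  linarith

theorem nb_eq_of_all (ends : E → V × V) (s : V) (A : Finset V)
    (h : ∀ e : E, ((ends e).1 = s → (ends e).2 ∈ A) ∧ ((ends e).2 = s → (ends e).1 ∈ A)) :
    nb ends s A = (endCount ends Finset.univ s : ℤ) := by
  rw [endCount_eq_sum_ind]
  unfold nb
  apply Finset.sum_congr rfl
  intro e _
  obtain ⟨h1, h2⟩ := h e
  have t1 : ind {s} (ends e).1 * ind A (ends e).2 = ind {s} (ends e).1 := by
    by_cases ha : (ends e).1 = s
    · rw [ind_of_mem (h1 ha), mul_one]
    · rw [ind_of_not_mem (show (ends e).1 ∉ ({s} : Finset V) from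
        fun hm => ha (Finset.mem_singleton.mp hm)), zero_mul]
  have t2 : ind {s} (ends e).2 * ind A (ends e).1 = ind {s} (ends e).2 := by
    by_cases ha : (ends e).2 = s
    · rw [ind_of_mem (h2 ha), mul_one]
    · rw [ind_of_not_mem (show (ends e).2 ∉ ({s} : Finset V) from
        fun hm => ha (Finset.mem_singleton.mp hm)), zero_mul]
  rw [t1, t2]

theorem nb_lt_of_not_all (ends : E → V × V) (s : V) (A : Finset V)
    (h : ∃ e : E, ((ends e).1 = s ∧ (ends e).2 ∉ A) ∨ ((ends e).2 = s ∧ (ends e).1 ∉ A)) :
    nb ends s A < (endCount ends Finset.univ s : ℤ) := by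
  obtain ⟨e₀, he₀⟩ := h
  rw [endCount_eq_sum_ind]
  unfold nb
  apply Finset.sum_lt_sum
  · intro e _
    have a1 := mul_le_of_le_one_right (ind_nonneg {s} (ends e).1) (ind_le_one A (ends e).2)
    have a2 := mul_le_of_le_one_right (ind_nonneg {s} (ends e).2) (ind_le_one A (ends e).1)
    linarith
  · refine ⟨e₀, Finset.mem_univ _, ?_⟩
    have a1 := mul_le_of_le_one_right (ind_nonneg {s} (ends e₀).1) (ind_le_one A (ends e₀).2)
    have a2 := mul_le_of_le_one_right (ind_nonneg {s} (ends e₀).2) (ind_le_one A (ends e₀).1)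
    rcases he₀ with ⟨ha, hb⟩ | ⟨ha, hb⟩
    · have hb0 : ind A (ends e₀).2 = 0 := ind_of_not_mem hb
      have ha1 : ind {s} (ends e₀).1 = 1 := ind_of_mem (Finset.mem_singleton.mpr ha)
      rw [hb0, ha1]
      linarith
    · have hb0 : ind A (ends e₀).1 = 0 := ind_of_not_mem hb
      have ha1 : ind {s} (ends e₀).2 = 1 := ind_of_mem (Finset.mem_singleton.mpr ha)
      rw [hb0, ha1]
      linarith

theorem nb_union_exc (ends : E → V × V) (w : V → ℕ)
    (hq : ∀ e : E, (ends e).1 ≠ (ends e).2 →
      ¬ (IsExceptional ends w (ends e).1 ∧ IsExceptional ends w (ends e).2))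
    (S : Finset V) (hS : ∀ v ∈ S, IsExceptional ends w v) (W T : Finset V) (hT : T ⊆ S)
    (s : V) (hsS : s ∈ S) (hsT : s ∉ T) :
    nb ends s (W ∪ T) = nb ends s W := by
  unfold nb
  apply Finset.sum_congr rfl
  intro e _
  have t1 : ind {s} (ends e).1 * ind (W ∪ T) (ends e).2 = ind {s} (ends e).1 * ind W (ends e).2 := by
    by_cases ha : (ends e).1 = s
    · have hnT : (ends e).2 ∉ T := by
        intro hb
        have hne : (ends e).1 ≠ (ends e).2 := by
          intro heq
          rw [← heq, ha] at hb
          exact hsT hb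
        refine hq e hne ⟨?_, hS _ (hT hb)⟩
        rw [ha]
        exact hS s hsS
      have h3 : ind (W ∪ T) (ends e).2 = ind W (ends e).2 := by
        unfold ind
        simp only [Finset.mem_union, hnT, or_false]
      rw [h3]
    · rw [ind_of_not_mem (show (ends e).1 ∉ ({s} : Finset V) from
        fun hm => ha (Finset.mem_singleton.mp hm)), zero_mul, zero_mul]
  have t2 : ind {s} (ends e).2 * ind (W ∪ T) (ends e).1 = ind {s} (ends e).2 * ind W (ends e).1 := by
    by_cases ha : (ends e).2 = s
    · have hnT : (ends e).1 ∉ T := by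
        intro hb
        have hne : (ends e).1 ≠ (ends e).2 := by
          intro heq
          rw [heq, ha] at hb
          exact hsT hb
        refine hq e hne ⟨hS _ (hT hb), ?_⟩
        rw [ha]
        exact hS s hsS
      have h3 : ind (W ∪ T) (ends e).1 = ind W (ends e).1 := by
        unfold ind
        simp only [Finset.mem_union, hnT, or_false]
      rw [h3]
    · rw [ind_of_not_mem (show (ends e).2 ∉ ({s} : Finset V) from
        fun hm => ha (Finset.mem_singleton.mp hm)), zero_mul, zero_mul]
  rw [t1, t2]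

theorem cut_union_exc (ends : E → V × V) (w : V → ℕ)
    (hq : ∀ e : E, (ends e).1 ≠ (ends e).2 →
      ¬ (IsExceptional ends w (ends e).1 ∧ IsExceptional ends w (ends e).2))
    (S : Finset V) (hS : ∀ v ∈ S, IsExceptional ends w v) (W : Finset V) (hW : Disjoint W S)
    (T : Finset V) (hT : T ⊆ S) :
    (cut ends (W ∪ T) : ℤ) = cut ends W + ∑ s ∈ T, (2 - 2 * nb ends s W) := by
  revert hT
  refine Finset.induction_on T ?_ ?_
  · intro _
    simp
  · intro s T hs ih hT
    have hsS : s ∈ S := hT (Finset.mem_insert_self s T)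
    have hTS : T ⊆ S := fun x hx => hT (Finset.mem_insert_of_mem hx)
    have hsW : s ∉ W := fun h => (Finset.disjoint_left.mp hW h) hsS
    have hsWT : s ∉ W ∪ T := by
      intro h
      rcases Finset.mem_union.mp h with h | h
      · exact hsW h
      · exact hs h
    rw [Finset.union_insert, cut_insert_eq ends (W ∪ T) s hsWT, ih hTS, Finset.sum_insert hs,
      nb_union_exc ends w hq S hS W T hTS s hsS hs, (hS s hsS).2.2]
    push_cast
    ring

end LG
end Groth.Agent.H88
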