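import Mathlib

/-!
# Modules that are locally free of rank one, elementwise formulation

`IsLocGen f m0`: after inverting `f`, the element `m0` is a free generator of `M`
(stated without localisations).  If every prime has such an `f` outside it, `M` is finitely
presented, projective, and of rank one at every prime; if the local generators can be taken among
a finite family `m i`, that family spans `M`.
-/

set_option autoImplicit false

namespace Groth.Agent.H88.LocRankOne

variable {R : Type*} [CommRing R] {M : Type*} [AddCommGroup M] [Module R M]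

/-- `m0` is a free generator of `M` after inverting `f`. -/
def IsLocGen (f : R) (m0 : M) : Prop :=
  (∀ x : M, ∃ (k : ℕ) (r : R), f ^ k • x = r • m0) ∧
    (∀ r : R, r • m0 = 0 → ∃ k : ℕ, f ^ k * r = 0)

theorem IsLocGen.map_equiv {N : Type*} [AddCommGroup N] [Module R N] (e : M ≃ₗ[R] N) {f : R}
    {m0 : M} (h : IsLocGen f m0) : IsLocGen f (e m0) := by
  refine ⟨fun y => ?_, fun r hr => ?_⟩
  · obtain ⟨k, r, hk⟩ := h.1 (e.symm y)
    refine ⟨k, r, ?_⟩
    have := congrArg e hk
    rwa [map_smul, map_smul, LinearEquiv.apply_symm_apply] at this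
  · apply h.2 r
    apply e.injective
    rw [map_smul, hr, map_zero]

/-- Transfer along a ring isomorphism (given as a pair of inverse ring maps): the `R`-module
structure on the `A`-module `N` is the one induced by `ψ`. -/
theorem IsLocGen.compHom {A : Type*} [CommRing A] {N : Type*} [AddCommGroup N] [Module A N]
    (ψ : R →+* A) (ψ' : A →+* R) (h1 : ∀ a, ψ (ψ' a) = a) (h2 : ∀ r, ψ' (ψ r) = r) {a : A}
    {m0 : N} (h : IsLocGen a m0) :
    letI : Module R N := Module.compHom N ψ
    IsLocGen (ψ' a) m0 := by
  letI : Module R N := Module.compHom N ψ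
  have hsm : ∀ (r : R) (x : N), r • x = ψ r • x := fun _ _ => rfl
  refine ⟨fun x => ?_, fun r hr => ?_⟩
  · obtain ⟨k, c, hk⟩ := h.1 x
    refine ⟨k, ψ' c, ?_⟩
    rw [hsm, hsm, map_pow, h1, h1, hk]
  · rw [hsm] at hr
    obtain ⟨k, hk⟩ := h.2 _ hr
    refine ⟨k, ?_⟩
    have := congrArg ψ' hk
    rwa [map_mul, map_pow, h2, map_zero] at this

/-- For a submonoid containing `f`, the localised module is free of rank one on `m0 / 1`. -/
theorem bijective_toSpanSingleton (S : Submonoid R) {f : R} (hf : f ∈ S) {m0 : M}
    (h : IsLocGen f m0) :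
    Function.Bijective (LinearMap.toSpanSingleton (Localization S) (LocalizedModule S M)
      (LocalizedModule.mk m0 1)) := by
  constructor
  · rw [← LinearMap.ker_eq_bot, LinearMap.ker_eq_bot']
    intro a ha
    induction a using Localization.induction_on with
    | _ a =>
    obtain ⟨r, s⟩ := a
    rw [LinearMap.toSpanSingleton_apply, LocalizedModule.mk_smul_mk, ← LocalizedModule.zero_mk 1,
      LocalizedModule.mk_eq] at ha
    obtain ⟨u, hu⟩ := ha
    rw [smul_zero, smul_zero, one_smul, Submonoid.smul_def, ← mul_smul] at hu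
    obtain ⟨k, hk⟩ := h.2 _ hu
    rw [Localization.mk_eq_mk', IsLocalization.mk'_eq_zero_iff]
    refine ⟨⟨f ^ k, pow_mem hf k⟩ * u, ?_⟩
    rw [Submonoid.coe_mul, mul_assoc]
    exact hk
  · intro y
    induction y using LocalizedModule.induction_on with
    | _ x s =>
    obtain ⟨k, r, hk⟩ := h.1 x
    refine ⟨Localization.mk r (⟨f ^ k, pow_mem hf k⟩ * s), ?_⟩
    rw [LinearMap.toSpanSingleton_apply, LocalizedModule.mk_smul_mk, ← hk, mul_one]
    exact LocalizedModule.mk_cancel_common_left ⟨f ^ k, pow_mem hf k⟩ s x

/-- The resulting linear equivalence. -/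
noncomputable def equivOfIsLocGen (S : Submonoid R) {f : R} (hf : f ∈ S) {m0 : M}
    (h : IsLocGen f m0) : Localization S ≃ₗ[Localization S] LocalizedModule S M :=
  LinearEquiv.ofBijective _ (bijective_toSpanSingleton S hf h)

theorem span_locGen_eq_top
    (h : ∀ p : PrimeSpectrum R, ∃ f : R, f ∉ p.asIdeal ∧ ∃ m0 : M, IsLocGen f m0) :
    Ideal.span {f : R | ∃ m0 : M, IsLocGen f m0} = ⊤ := by
  by_contra hne
  obtain ⟨I, hI, hle⟩ := Ideal.exists_le_maximal _ hne
  obtain ⟨f, hf, m0, hm0⟩ := h ⟨I, hI.isPrime⟩
  exact hf (hle (Ideal.subset_span ⟨m0, hm0⟩))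

/-- A module locally free of rank one (elementwise form) is finitely presented, projective and
of rank one at every prime. -/
theorem main
    (h : ∀ p : PrimeSpectrum R, ∃ f : R, f ∉ p.asIdeal ∧ ∃ m0 : M, IsLocGen f m0) :
    Module.FinitePresentation R M ∧ Module.Projective R M ∧
      ∀ p : PrimeSpectrum R, Module.finrank (Localization.AtPrime p.asIdeal)
        (LocalizedModule p.asIdeal.primeCompl M) = 1 := by
  have hfp : Module.FinitePresentation R M := by
    refine Module.FinitePresentation.of_localizationSpan _ (span_locGen_eq_top h) ?_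
    rintro ⟨g, m0, hm0⟩
    exact Module.FinitePresentation.of_equiv
      (equivOfIsLocGen (Submonoid.powers g) (Submonoid.mem_powers g) hm0)
  refine ⟨hfp, ?_, ?_⟩
  · refine Module.projective_of_localization_maximal ?_
    intro I hI
    obtain ⟨f, hf, m0, hm0⟩ := h ⟨I, hI.isPrime⟩
    exact Module.Projective.of_equiv (equivOfIsLocGen I.primeCompl hf hm0)
  · intro p
    obtain ⟨f, hf, m0, hm0⟩ := h p
    rw [← LinearEquiv.finrank_eq (equivOfIsLocGen p.asIdeal.primeCompl hf hm0)]
    exact Module.finrank_self _

/-- If the local generators can be chosen in a finite family, the family spans. -/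
theorem surjective_linearCombination {ι : Type*} [Fintype ι] [DecidableEq ι] (m : ι → M)
    (h : ∀ p : PrimeSpectrum R, ∃ f : R, f ∉ p.asIdeal ∧ ∃ i, IsLocGen f (m i)) :
    Function.Surjective (Fintype.linearCombination R m) := by
  intro x
  let I : Ideal R := (LinearMap.range (Fintype.linearCombination R m)).colon {x}
  have hI : I = ⊤ := by
    by_contra hne
    obtain ⟨P, hP, hle⟩ := Ideal.exists_le_maximal _ hne
    obtain ⟨f, hf, i, hi⟩ := h ⟨P, hP.isPrime⟩
    obtain ⟨k, r, hk⟩ := hi.1 x
    have hmem : f ^ k ∈ I := by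
      rw [Submodule.mem_colon_singleton, hk]
      exact ⟨Pi.single i r, Fintype.linearCombination_apply_single R m i r⟩
    exact hf (hP.isPrime.mem_of_pow_mem k (hle hmem))
  have h1 : (1 : R) ∈ I := by rw [hI]; trivial
  rw [Submodule.mem_colon_singleton, one_smul] at h1
  exact h1

end Groth.Agent.H88.LocRankOne
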