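import Mathlib

/-!
# MacMahon's master theorem for symmetric tensors (helper library of helper88)

For an endomorphism `u` of a finite free module with matrix `U`, the traces of the maps induced by `u` on the
modules of symmetric tensors have generating series `1 / det(1 - U t)`.
-/

set_option autoImplicit false

universe v

namespace Groth.Agent.H88.MacMahon

open Finset PiTensorProduct
open scoped TensorProduct

section Comb
variable {r n : ℕ}

/-- The count vector of a word `w : Fin n → Fin r`. -/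
def cnt (w : Fin n → Fin r) : Fin r → ℕ := fun i => (univ.filter (fun k => w k = i)).card

lemma cnt_comp (w : Fin n → Fin r) (σ : Equiv.Perm (Fin n)) : cnt (w ∘ ⇑σ) = cnt w := by
  funext i
  unfold cnt
  exact Finset.card_equiv σ (fun k => by simp)

lemma sum_cnt (w : Fin n → Fin r) : ∑ i, cnt w i = n := by
  have h := Finset.card_eq_sum_card_fiberwise (s := (univ : Finset (Fin n)))
    (t := (univ : Finset (Fin r))) (f := w) (fun _ _ => by simp)
  simpa [cnt] using h.symm

lemma exists_perm_of_cnt_eq (w w' : Fin n → Fin r) (h : cnt w = cnt w') :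
    ∃ σ : Equiv.Perm (Fin n), w' = w ∘ ⇑σ := by
  have e : ∀ i : Fin r, {k // w' k = i} ≃ {k // w k = i} := fun i =>
    Fintype.equivOfCardEq (by
      rw [Fintype.card_subtype, Fintype.card_subtype]
      exact (congrFun h i).symm)
  refine ⟨Equiv.ofFiberEquiv e, ?_⟩
  funext k
  exact (Equiv.ofFiberEquiv_map e k).symm

lemma exists_word (α : Fin r → ℕ) (h : ∑ i, α i = n) : ∃ w : Fin n → Fin r, cnt w = α := by
  subst h
  refine ⟨fun k => (finSigmaFinEquiv.symm k).1, ?_⟩
  funext i
  unfold cnt
  have h1 := Fintype.card_subtype (fun k : Fin (∑ i, α i) => (finSigmaFinEquiv.symm k).1 = i)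
  rw [← h1]
  have e1 : {k : Fin (∑ i, α i) // (finSigmaFinEquiv.symm k).1 = i} ≃
      {x : (Σ i : Fin r, Fin (α i)) // x.1 = i} :=
    (finSigmaFinEquiv (n := α)).symm.subtypeEquiv (fun k => Iff.rfl)
  rw [Fintype.card_congr (e1.trans (Equiv.sigmaSubtype i)), Fintype.card_fin]

/-- index set of the `S_n`-orbits on words: the count vectors that occur. -/
abbrev Q (r n : ℕ) : Type := ↥(univ.image (cnt : (Fin n → Fin r) → (Fin r → ℕ)))

/-- a chosen word with a given count vector -/
noncomputable def rep (q : Q r n) : Fin n → Fin r := Classical.choose (Finset.mem_image.mp q.2)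

lemma cnt_rep (q : Q r n) : cnt (rep q) = q.1 :=
  (Classical.choose_spec (Finset.mem_image.mp q.2)).2

/-- the orbit of a word -/
def cntQ (w : Fin n → Fin r) : Q r n := ⟨cnt w, Finset.mem_image_of_mem _ (Finset.mem_univ _)⟩

lemma cntQ_rep (q : Q r n) : cntQ (rep q) = q := Subtype.ext (cnt_rep q)

lemma cntQ_comp (w : Fin n → Fin r) (σ : Equiv.Perm (Fin n)) : cntQ (w ∘ ⇑σ) = cntQ w :=
  Subtype.ext (cnt_comp w σ)

end Comb

section Lin
variable {r : ℕ} {A : Type*} [CommRing A] {M : Type*} [AddCommGroup M] [Module A M]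

/-- the submodule of symmetric tensors -/
abbrev Gam (A : Type*) [CommRing A] (M : Type*) [AddCommGroup M] [Module A M] (n : ℕ) :
    Submodule A (⨂[A] _i : Fin n, M) :=
  ⨅ σ : Equiv.Perm (Fin n),
    LinearMap.eqLocus ((PiTensorProduct.reindex A (fun _ : Fin n => M) σ).toLinearMap) LinearMap.id

lemma mem_Gam {n : ℕ} (x : ⨂[A] _i : Fin n, M) :
    x ∈ Gam A M n ↔
      ∀ σ : Equiv.Perm (Fin n), PiTensorProduct.reindex A (fun _ : Fin n => M) σ x = x := by
  rw [Submodule.mem_iInf]
  exact forall_congr' (fun σ => LinearMap.mem_eqLocus)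

/-- the tensor basis -/
noncomputable def tb (e : Module.Basis (Fin r) A M) (n : ℕ) :
    Module.Basis (Fin n → Fin r) A (⨂[A] _i : Fin n, M) :=
  Basis.piTensorProduct (fun _ : Fin n => e)

lemma tb_apply (e : Module.Basis (Fin r) A M) (n : ℕ) (w : Fin n → Fin r) :
    tb e n w = PiTensorProduct.tprod A (fun k => e (w k)) :=
  Basis.piTensorProduct_apply _ _

lemma reindex_tb (e : Module.Basis (Fin r) A M) {n : ℕ} (σ : Equiv.Perm (Fin n))
    (w : Fin n → Fin r) :
    PiTensorProduct.reindex A (fun _ : Fin n => M) σ (tb e n w) = tb e n (w ∘ ⇑σ.symm) := by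
  rw [tb_apply, tb_apply, PiTensorProduct.reindex_tprod]
  rfl

lemma repr_reindex (e : Module.Basis (Fin r) A M) {n : ℕ} (σ : Equiv.Perm (Fin n))
    (x : ⨂[A] _i : Fin n, M) (w : Fin n → Fin r) :
    (tb e n).repr (PiTensorProduct.reindex A (fun _ : Fin n => M) σ x) w =
      (tb e n).repr x (w ∘ ⇑σ) := by
  classical
  let L₁ : (⨂[A] _i : Fin n, M) →ₗ[A] A :=
    (Finsupp.lapply w).comp ((tb e n).repr.toLinearMap.comp
      (PiTensorProduct.reindex A (fun _ : Fin n => M) σ).toLinearMap)
  let L₂ : (⨂[A] _i : Fin n, M) →ₗ[A] A :=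
    (Finsupp.lapply (w ∘ ⇑σ)).comp (tb e n).repr.toLinearMap
  have h : L₁ = L₂ := by
    apply (tb e n).ext
    intro v
    show (tb e n).repr (PiTensorProduct.reindex A (fun _ : Fin n => M) σ (tb e n v)) w =
      (tb e n).repr (tb e n v) (w ∘ ⇑σ)
    rw [reindex_tb, Module.Basis.repr_self, Module.Basis.repr_self, Finsupp.single_apply,
      Finsupp.single_apply]
    by_cases hv : v = w ∘ ⇑σ
    · rw [if_pos ((Equiv.comp_symm_eq σ w v).mpr hv), if_pos hv]
    · rw [if_neg (fun h' => hv ((Equiv.comp_symm_eq σ w v).mp h')), if_neg hv]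
  exact LinearMap.congr_fun h x

variable (e : Module.Basis (Fin r) A M) (n : ℕ)

/-- the symmetric tensor with prescribed coefficients on the orbits -/
noncomputable def orbSum (a : Q r n → A) : ⨂[A] _i : Fin n, M :=
  ∑ w : Fin n → Fin r, a (cntQ w) • tb e n w

lemma repr_orbSum (a : Q r n → A) (v : Fin n → Fin r) :
    (tb e n).repr (orbSum e n a) v = a (cntQ v) :=
  congrFun (Module.Basis.repr_sum_self (tb e n) (fun w => a (cntQ w))) v

lemma orbSum_mem (a : Q r n → A) : orbSum e n a ∈ Gam A M n := by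
  rw [mem_Gam]
  intro σ
  apply (tb e n).ext_elem
  intro v
  rw [repr_reindex, repr_orbSum, repr_orbSum, cntQ_comp]

lemma repr_const_of_mem {x : ⨂[A] _i : Fin n, M} (hx : x ∈ Gam A M n) (w w' : Fin n → Fin r)
    (h : cnt w = cnt w') : (tb e n).repr x w' = (tb e n).repr x w := by
  obtain ⟨σ, rfl⟩ := exists_perm_of_cnt_eq w w' h
  rw [← repr_reindex, (mem_Gam x).mp hx σ]

/-- symmetric tensors are determined by their coefficients on orbit representatives -/
noncomputable def GamEquiv : ↥(Gam A M n) ≃ₗ[A] (Q r n → A) where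
  toFun x := fun q => (tb e n).repr x.1 (rep q)
  map_add' x y := by
    funext q
    simp
  map_smul' a x := by
    funext q
    simp
  invFun a := ⟨orbSum e n a, orbSum_mem e n a⟩
  left_inv x := by
    apply Subtype.ext
    apply (tb e n).ext_elem
    intro v
    show (tb e n).repr (orbSum e n fun q => (tb e n).repr x.1 (rep q)) v = (tb e n).repr x.1 v
    rw [repr_orbSum]
    exact repr_const_of_mem e n x.2 v (rep (cntQ v)) (cnt_rep (cntQ v)).symm
  right_inv a := by
    funext q
    show (tb e n).repr (orbSum e n a) (rep q) = a q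
    rw [repr_orbSum, cntQ_rep]

lemma repr_map_tb (u : M →ₗ[A] M) (w v : Fin n → Fin r) :
    (tb e n).repr (PiTensorProduct.map (fun _ : Fin n => u) (tb e n w)) v =
      ∏ k, LinearMap.toMatrix e e u (v k) (w k) := by
  rw [tb_apply, PiTensorProduct.map_tprod]
  unfold tb
  rw [Basis.piTensorProduct_repr_tprod_apply]
  refine Finset.prod_congr rfl (fun k _ => ?_)
  show (e.repr (u (e (w k)))) (v k) = _
  rw [LinearMap.toMatrix_apply]

end Lin

section Trace
variable {r : ℕ}

/-- the combinatorial expression for the trace on symmetric tensors -/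
noncomputable def G {R : Type*} [CommRing R] (U : Matrix (Fin r) (Fin r) R) (n : ℕ) : R :=
  ∑ q : Q r n, ∑ w ∈ univ.filter (fun w : Fin n → Fin r => cnt w = q.1), ∏ k, U (rep q k) (w k)

variable {A : Type*} [CommRing A] {M : Type*} [AddCommGroup M] [Module A M]

theorem trace_eq (e : Module.Basis (Fin r) A M) (n : ℕ) (u : M →ₗ[A] M)
    (γ : ↥(Gam A M n) →ₗ[A] ↥(Gam A M n))
    (hγ : ∀ x : ↥(Gam A M n), ((γ x : ↥(Gam A M n)) : ⨂[A] _i : Fin n, M) =
      PiTensorProduct.map (fun _ : Fin n => u) x.1) :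
    LinearMap.trace A _ γ = G (LinearMap.toMatrix e e u) n := by
  classical
  rw [LinearMap.trace_eq_matrix_trace A (Module.Basis.ofEquivFun (GamEquiv e n)) γ, Matrix.trace]
  unfold G
  refine Finset.sum_congr rfl (fun q _ => ?_)
  rw [Matrix.diag_apply, LinearMap.toMatrix_apply, Module.Basis.ofEquivFun_repr_apply,
    Module.Basis.coe_ofEquivFun]
  show (tb e n).repr (γ ((GamEquiv e n).symm (Pi.single q 1))).1 (rep q) = _
  rw [hγ]
  show (tb e n).repr (PiTensorProduct.map (fun _ : Fin n => u) (orbSum e n (Pi.single q 1)))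
    (rep q) = _
  unfold orbSum
  rw [map_sum, map_sum, Finsupp.finset_sum_apply, Finset.sum_filter]
  refine Finset.sum_congr rfl (fun w _ => ?_)
  rw [map_smul, map_smul, Finsupp.smul_apply, repr_map_tb]
  by_cases hw : cnt w = q.1
  · have hq : cntQ w = q := Subtype.ext hw
    rw [if_pos hw, hq, Pi.single_eq_same, one_smul]
  · have hq : cntQ w ≠ q := fun h => hw (congrArg Subtype.val h)
    rw [if_neg hw, Pi.single_eq_of_ne hq, zero_smul]

end Trace

section Funct
variable {r : ℕ} {R S : Type*} [CommRing R] [CommRing S]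

lemma G_map (f : R →+* S) (U : Matrix (Fin r) (Fin r) R) (n : ℕ) :
    G (U.map f) n = f (G U n) := by
  unfold G
  simp only [map_sum, map_prod, Matrix.map_apply]

lemma charpolyRev_map (f : R →+* S) (U : Matrix (Fin r) (Fin r) R) :
    (U.map f).charpolyRev = U.charpolyRev.map f := by
  unfold Matrix.charpolyRev
  rw [← Polynomial.coe_mapRingHom, RingHom.map_det]
  congr 1
  ext i j : 2
  by_cases hij : i = j
  · simp [hij]
  · simp [hij]

/-- the master identity for a matrix -/
def MM {R : Type*} [CommRing R] (U : Matrix (Fin r) (Fin r) R) : Prop :=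
  ((U.charpolyRev : Polynomial R) : PowerSeries R) * PowerSeries.mk (G U) = 1

lemma mk_G_map (f : R →+* S) (U : Matrix (Fin r) (Fin r) R) :
    PowerSeries.map f (PowerSeries.mk (G U)) = PowerSeries.mk (G (U.map f)) := by
  ext n
  simp [G_map]

lemma MM_map (f : R →+* S) (U : Matrix (Fin r) (Fin r) R) (h : MM U) : MM (U.map f) := by
  unfold MM at h ⊢
  have h' := congrArg (PowerSeries.map f) h
  rw [map_mul, map_one, ← Polynomial.polynomial_map_coe, mk_G_map, ← charpolyRev_map] at h'
  exact h'

lemma MM_of_map (f : R →+* S) (hf : Function.Injective f) (U : Matrix (Fin r) (Fin r) R)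
    (h : MM (U.map f)) : MM U := by
  unfold MM at h ⊢
  rw [charpolyRev_map, Polynomial.polynomial_map_coe, ← mk_G_map, ← map_mul] at h
  ext n
  apply hf
  have h' := congrArg (PowerSeries.coeff n) h
  rw [PowerSeries.coeff_map] at h'
  rw [h', PowerSeries.coeff_one, PowerSeries.coeff_one]
  split_ifs <;> simp

theorem MM_of_algClosed
    (H : ∀ (K : Type) [Field K] [IsAlgClosed K] (U : Matrix (Fin r) (Fin r) K), MM U)
    (U : Matrix (Fin r) (Fin r) R) : MM U := by
  let R₀ := MvPolynomial (Fin r × Fin r) ℤ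
  let U₀ : Matrix (Fin r) (Fin r) R₀ := fun i j => MvPolynomial.X (i, j)
  have h₀ : MM U₀ := by
    let K := AlgebraicClosure (FractionRing R₀)
    let ι : R₀ →+* K := (algebraMap (FractionRing R₀) K).comp (algebraMap R₀ (FractionRing R₀))
    have hι : Function.Injective ι :=
      (algebraMap (FractionRing R₀) K).injective.comp (IsFractionRing.injective R₀ (FractionRing R₀))
    exact MM_of_map ι hι U₀ (H K (U₀.map ι))
  let f : R₀ →+* R :=
    MvPolynomial.eval₂Hom (Int.castRingHom R) (fun p : Fin r × Fin r => U p.1 p.2)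
  have hU : U₀.map f = U := by
    ext i j
    exact MvPolynomial.eval₂_X _ _ _
  rw [← hU]
  exact MM_map f U₀ h₀

end Funct

section Tri

theorem exists_lower_triangular_basis {K : Type*} [Field K] [IsAlgClosed K] (r : ℕ) :
    ∀ (V : Type v) [AddCommGroup V] [Module K V] [FiniteDimensional K V],
      Module.finrank K V = r → ∀ (u : V →ₗ[K] V),
        ∃ e : Module.Basis (Fin r) K V, ∀ i j : Fin r, i < j → e.repr (u (e j)) i = 0 := by
  induction r with
  | zero =>
    intro V _ _ _ hr u
    exact ⟨Module.finBasisOfFinrankEq K V hr, fun i => i.elim0⟩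
  | succ r ih =>
    intro V _ _ _ hr u
    haveI : Nontrivial V := Module.nontrivial_of_finrank_pos (R := K) (by omega)
    haveI : Nontrivial (Module.Dual K V) := by
      apply Module.nontrivial_of_finrank_pos (R := K)
      rw [Subspace.dual_finrank_eq]
      omega
    obtain ⟨c, hc⟩ := Module.End.exists_eigenvalue (K := K) (V := Module.Dual K V) u.dualMap
    obtain ⟨φ, hφ⟩ := hc.exists_hasEigenvector
    have hφ0 : φ ≠ 0 := hφ.2
    have hφu : ∀ x, φ (u x) = c * φ x := fun x => by
      have h1 := LinearMap.congr_fun hφ.apply_eq_smul x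
      simpa [LinearMap.dualMap_apply] using h1
    have hH : ∀ x ∈ LinearMap.ker φ, u x ∈ LinearMap.ker φ := fun x hx => by
      rw [LinearMap.mem_ker] at hx ⊢
      rw [hφu, hx, mul_zero]
    have hHr : Module.finrank K ↥(LinearMap.ker φ) = r := by
      have h1 := Module.Dual.finrank_ker_add_one_of_ne_zero hφ0
      omega
    obtain ⟨b, hb⟩ := ih ↥(LinearMap.ker φ) hHr (u.restrict hH)
    obtain ⟨y, hy⟩ : ∃ y, φ y ≠ 0 := by
      by_contra hcon
      push Not at hcon
      exact hφ0 (LinearMap.ext hcon)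
    have hli : ∀ (a : K), ∀ x ∈ LinearMap.ker φ, a • y + x = 0 → a = 0 := by
      intro a x hx hax
      have h1 := congrArg φ hax
      rw [map_add, map_smul, LinearMap.mem_ker.mp hx, add_zero, map_zero, smul_eq_mul] at h1
      exact (mul_eq_zero.mp h1).resolve_right hy
    have hsp : ∀ z : V, ∃ a : K, z + a • y ∈ LinearMap.ker φ := by
      intro z
      refine ⟨-(φ z / φ y), ?_⟩
      rw [LinearMap.mem_ker, map_add, map_smul, smul_eq_mul, neg_mul, div_mul_cancel₀ _ hy,
        add_neg_cancel]
    refine ⟨Module.Basis.mkFinCons y b hli hsp, ?_⟩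
    have he : ∀ j' : Fin r, (Module.Basis.mkFinCons y b hli hsp) j'.succ = (b j' : V) :=
      fun j' => by
        rw [Module.Basis.coe_mkFinCons, Fin.cons_succ]
        rfl
    intro i j hij
    obtain rfl | ⟨j', rfl⟩ := Fin.eq_zero_or_eq_succ j
    · exact absurd hij (Fin.not_lt_zero i)
    · have h2 : u (b j' : V) = ∑ i' : Fin r, b.repr ((u.restrict hH) (b j')) i' • (b i' : V) := by
        have h3 : ((u.restrict hH) (b j') : V) =
            ∑ i' : Fin r, b.repr ((u.restrict hH) (b j')) i' • (b i' : V) := by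
          conv_lhs => rw [← b.sum_repr ((u.restrict hH) (b j'))]
          rw [Submodule.coe_sum]
          rfl
        exact h3
      have hsum : u (b j' : V) = ∑ i : Fin (r + 1),
          (Fin.cons 0 (fun i' => b.repr ((u.restrict hH) (b j')) i') : Fin (r + 1) → K) i •
            (Module.Basis.mkFinCons y b hli hsp) i := by
        rw [Fin.sum_univ_succ, Fin.cons_zero, zero_smul, zero_add, h2]
        refine Finset.sum_congr rfl (fun i' _ => ?_)
        rw [Fin.cons_succ, he]
      rw [he j', hsum, Module.Basis.repr_sum_self]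
      obtain rfl | ⟨i', rfl⟩ := Fin.eq_zero_or_eq_succ i
      · rw [Fin.cons_zero]
      · rw [Fin.cons_succ]
        exact hb i' j' (Fin.succ_lt_succ_iff.mp hij)

end Tri

section Lower
variable {r : ℕ} {R : Type*} [CommRing R]

lemma G_lower (T : Matrix (Fin r) (Fin r) R) (hT : ∀ i j, i < j → T i j = 0) (n : ℕ) :
    G T n = ∑ q : Q r n, ∏ i, T i i ^ (q.1 i) := by
  unfold G
  refine Finset.sum_congr rfl (fun q _ => ?_)
  rw [Finset.sum_eq_single (rep q)]
  · have h1 := Finset.prod_fiberwise (univ : Finset (Fin n)) (rep q)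
      (fun k => T (rep q k) (rep q k))
    rw [← h1]
    refine Finset.prod_congr rfl (fun i _ => ?_)
    have h2 : ∀ k ∈ univ.filter (fun k => rep q k = i), T (rep q k) (rep q k) = T i i := by
      intro k hk
      rw [(Finset.mem_filter.mp hk).2]
    rw [Finset.prod_congr rfl h2, Finset.prod_const]
    congr 1
    exact congrFun (cnt_rep q) i
  · intro w hw hne
    have hcnt : cnt (rep q) = cnt w := by rw [cnt_rep, (Finset.mem_filter.mp hw).2]
    obtain ⟨σ, hσ⟩ := exists_perm_of_cnt_eq (rep q) w hcnt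
    have hsum : ∑ k, ((w k : Fin r) : ℕ) = ∑ k, ((rep q k : Fin r) : ℕ) := by
      rw [hσ]
      exact Equiv.sum_comp σ (fun k => ((rep q k : Fin r) : ℕ))
    by_contra hprod
    apply hne
    have hle : ∀ k ∈ (univ : Finset (Fin n)), ((w k : Fin r) : ℕ) ≤ ((rep q k : Fin r) : ℕ) := by
      intro k _
      by_contra hk
      push Not at hk
      exact hprod (Finset.prod_eq_zero (Finset.mem_univ k) (hT _ _ (Fin.lt_def.mpr hk)))
    have h3 := (Finset.sum_eq_sum_iff_of_le hle).mp hsum
    funext k
    exact Fin.ext (h3 k (Finset.mem_univ k))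
  · intro h
    exact absurd (Finset.mem_filter.mpr ⟨Finset.mem_univ _, cnt_rep q⟩ :
      rep q ∈ univ.filter (fun w : Fin n → Fin r => cnt w = q.1)) h

lemma charpolyRev_lower (T : Matrix (Fin r) (Fin r) R) (hT : ∀ i j, i < j → T i j = 0) :
    T.charpolyRev = ∏ i, (1 - Polynomial.X * Polynomial.C (T i i)) := by
  unfold Matrix.charpolyRev
  rw [Matrix.det_of_isLowerTriangular]
  · refine Finset.prod_congr rfl (fun i _ => ?_)
    simp
  · intro i j hij
    have hij' : i < j := hij
    rw [Matrix.sub_apply, Matrix.smul_apply, Matrix.map_apply, Matrix.one_apply_ne (ne_of_lt hij'),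
      hT i j hij', map_zero, smul_zero, sub_zero]

lemma geom_mul (a : R) :
    ((1 - Polynomial.X * Polynomial.C a : Polynomial R) : PowerSeries R) *
      PowerSeries.mk (fun m => a ^ m) = 1 := by
  have h : ((1 - Polynomial.X * Polynomial.C a : Polynomial R) : PowerSeries R) =
      1 - PowerSeries.C a * PowerSeries.X := by
    rw [Polynomial.coe_sub, Polynomial.coe_one, Polynomial.coe_mul, Polynomial.coe_X,
      Polynomial.coe_C, mul_comm]
  rw [h, sub_mul, one_mul, mul_assoc]
  ext m
  rw [map_sub, PowerSeries.coeff_C_mul]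
  cases m with
  | zero => simp
  | succ m =>
    rw [PowerSeries.coeff_succ_X_mul, PowerSeries.coeff_mk, PowerSeries.coeff_mk,
      PowerSeries.coeff_one, if_neg (Nat.succ_ne_zero m), pow_succ]
    ring

lemma gen_fun (l : Fin r → R) :
    ((∏ i, (1 - Polynomial.X * Polynomial.C (l i)) : Polynomial R) : PowerSeries R) *
      PowerSeries.mk (fun n => ∑ q : Q r n, ∏ i, l i ^ (q.1 i)) = 1 := by
  classical
  have h1 : ((∏ i, (1 - Polynomial.X * Polynomial.C (l i)) : Polynomial R) : PowerSeries R) =
      ∏ i, ((1 - Polynomial.X * Polynomial.C (l i) : Polynomial R) : PowerSeries R) := by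
    have h0 := map_prod (Polynomial.coeToPowerSeries.ringHom : Polynomial R →+* PowerSeries R)
      (fun i => (1 - Polynomial.X * Polynomial.C (l i))) Finset.univ
    simpa only [Polynomial.coeToPowerSeries.ringHom_apply] using h0
  have h2 : PowerSeries.mk (fun n => ∑ q : Q r n, ∏ i, l i ^ (q.1 i)) =
      ∏ i, PowerSeries.mk (fun m => l i ^ m) := by
    ext n
    rw [PowerSeries.coeff_mk, PowerSeries.coeff_prod]
    simp only [PowerSeries.coeff_mk]
    rw [Finset.sum_coe_sort (univ.image (cnt : (Fin n → Fin r) → (Fin r → ℕ)))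
      (fun α => ∏ i, l i ^ α i)]
    refine Finset.sum_nbij' (fun α => Finsupp.equivFunOnFinite.symm α) (fun f => ⇑f)
      ?_ ?_ ?_ ?_ ?_
    · intro α hα
      obtain ⟨w, -, rfl⟩ := Finset.mem_image.mp hα
      rw [Finset.mem_finsuppAntidiag]
      refine ⟨?_, Finset.subset_univ _⟩
      simpa using sum_cnt w
    · intro f hf
      rw [Finset.mem_finsuppAntidiag] at hf
      obtain ⟨w, hw⟩ := exists_word (⇑f) hf.1
      exact Finset.mem_image.mpr ⟨w, Finset.mem_univ _, hw⟩
    · intro α _
      simp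
    · intro f _
      simp
    · intro α _
      simp
  rw [h1, h2, ← Finset.prod_mul_distrib]
  exact Finset.prod_eq_one (fun i _ => geom_mul (l i))

theorem MM_lower (T : Matrix (Fin r) (Fin r) R) (hT : ∀ i j, i < j → T i j = 0) : MM T := by
  unfold MM
  rw [charpolyRev_lower T hT, show G T = fun n => ∑ q : Q r n, ∏ i, T i i ^ (q.1 i) from
    funext (G_lower T hT)]
  exact gen_fun (fun i => T i i)

end Lower

section Closed
variable {r : ℕ}

theorem MM_algClosed {K : Type*} [Field K] [IsAlgClosed K] (U : Matrix (Fin r) (Fin r) K) :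
    MM U := by
  classical
  obtain ⟨e', he'⟩ := exists_lower_triangular_basis (K := K) r (Fin r → K)
    (Module.finrank_fin_fun K) (Matrix.toLin (Pi.basisFun K (Fin r)) (Pi.basisFun K (Fin r)) U)
  have hT : ∀ i j, i < j → LinearMap.toMatrix e' e'
      (Matrix.toLin (Pi.basisFun K (Fin r)) (Pi.basisFun K (Fin r)) U) i j = 0 := fun i j hij => by
    rw [LinearMap.toMatrix_apply]
    exact he' i j hij
  have hU : LinearMap.toMatrix (Pi.basisFun K (Fin r)) (Pi.basisFun K (Fin r))
      (Matrix.toLin (Pi.basisFun K (Fin r)) (Pi.basisFun K (Fin r)) U) = U :=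
    LinearMap.toMatrix_toLin _ _ U
  have hpres : ∀ n, ∀ x ∈ Gam K (Fin r → K) n,
      PiTensorProduct.map (fun _ : Fin n =>
        Matrix.toLin (Pi.basisFun K (Fin r)) (Pi.basisFun K (Fin r)) U) x ∈
        Gam K (Fin r → K) n := by
    intro n x hx
    rw [mem_Gam] at hx ⊢
    intro σ
    have h1 := PiTensorProduct.map_reindex (R := K) (fun _ : Fin n =>
        Matrix.toLin (Pi.basisFun K (Fin r)) (Pi.basisFun K (Fin r)) U) σ x
    rw [hx σ] at h1
    exact h1.symm
  have hGeq : ∀ n, G U n = G (LinearMap.toMatrix e' e'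
      (Matrix.toLin (Pi.basisFun K (Fin r)) (Pi.basisFun K (Fin r)) U)) n := by
    intro n
    have h1 := trace_eq (Pi.basisFun K (Fin r)) n
      (Matrix.toLin (Pi.basisFun K (Fin r)) (Pi.basisFun K (Fin r)) U)
      ((PiTensorProduct.map (fun _ : Fin n =>
        Matrix.toLin (Pi.basisFun K (Fin r)) (Pi.basisFun K (Fin r)) U)).restrict (hpres n))
      (fun x => rfl)
    have h2 := trace_eq e' n
      (Matrix.toLin (Pi.basisFun K (Fin r)) (Pi.basisFun K (Fin r)) U)
      ((PiTensorProduct.map (fun _ : Fin n =>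
        Matrix.toLin (Pi.basisFun K (Fin r)) (Pi.basisFun K (Fin r)) U)).restrict (hpres n))
      (fun x => rfl)
    rw [hU] at h1
    exact h1.symm.trans h2
  have hchar : U.charpolyRev = (LinearMap.toMatrix e' e'
      (Matrix.toLin (Pi.basisFun K (Fin r)) (Pi.basisFun K (Fin r)) U)).charpolyRev := by
    rw [← Matrix.reverse_charpoly, ← Matrix.reverse_charpoly, LinearMap.charpoly_toMatrix]
    conv_lhs => rw [← hU]
    rw [LinearMap.charpoly_toMatrix]
  unfold MM
  rw [hchar, show G U = G (LinearMap.toMatrix e' e'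
      (Matrix.toLin (Pi.basisFun K (Fin r)) (Pi.basisFun K (Fin r)) U)) from funext hGeq]
  exact MM_lower _ hT

end Closed

section Main
variable {r : ℕ} {A : Type*} [CommRing A] {M : Type*} [AddCommGroup M] [Module A M]

theorem main_basis (e : Module.Basis (Fin r) A M) (u : M →ₗ[A] M)
    (γ : ∀ n : ℕ, ↥(Gam A M n) →ₗ[A] ↥(Gam A M n))
    (hγ : ∀ (n : ℕ) (x : ↥(Gam A M n)), ((γ n x : ↥(Gam A M n)) : ⨂[A] _i : Fin n, M) =
      PiTensorProduct.map (fun _ : Fin n => u) x.1) :
    (((LinearMap.toMatrix e e u).charpolyRev : Polynomial A) : PowerSeries A) *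
      PowerSeries.mk (fun n => LinearMap.trace A _ (γ n)) = 1 := by
  have h := MM_of_algClosed (fun K _ _ U => MM_algClosed U) (LinearMap.toMatrix e e u)
  unfold MM at h
  rw [show (fun n => LinearMap.trace A _ (γ n)) = G (LinearMap.toMatrix e e u) from
    funext (fun n => trace_eq e n u (γ n) (hγ n))]
  exact h

end Main

end Groth.Agent.H88.MacMahon
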