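import Mathlib
import Groth.Agent.H96.HermLocal

/-!
# Char-free diagonalisation of odd-rank hermitian forms over a local ring with involution (helper88)

Requested by helper96 (for S17353 / S17352).  No hypothesis on `2` or on the involution.

* `schur_block'`, `schur_block` : Schur complement along a unit principal block.
* `block_step` : `[s] ⊕ D'` with `D'` having no unit diagonal entry is congruent to `[s'] ⊕ D''`
  where `D''` has a unit diagonal entry.
* `diag_of_unit_entry` : a unit hermitian matrix with a unit diagonal entry is diagonalisable.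
* `exists_unit_diag_of_odd` : an odd-size unit hermitian matrix is congruent to one with a unit
  diagonal entry.
* `odd_diag` : the requested statement.
-/

set_option autoImplicit false

open Matrix

namespace Groth.Agent.H88.OddDiag

open Groth.Agent.H96.HermLocal

variable {Y : Type*} [CommRing Y] [StarRing Y]

section Blocks

variable {ι₁ κ : Type*} [Fintype ι₁] [DecidableEq ι₁] [Fintype κ] [DecidableEq κ]

/-- Schur complement along a unit principal block (explicit blocks). -/
theorem schur_block' (A : Matrix ι₁ ι₁ Y) (B : Matrix ι₁ κ Y) (C : Matrix κ ι₁ Y)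
    (D : Matrix κ κ Y) (hu : IsUnit (fromBlocks A B C D))
    (hherm : (fromBlocks A B C D)ᴴ = fromBlocks A B C D) (hA : IsUnit A) :
    IsUnit (D - C * A⁻¹ * B) ∧ (D - C * A⁻¹ * B)ᴴ = D - C * A⁻¹ * B ∧
      Cong (fromBlocks A B C D) (fromBlocks A 0 0 (D - C * A⁻¹ * B)) := by
  have hbH : fromBlocks Aᴴ Cᴴ Bᴴ Dᴴ = fromBlocks A B C D := by
    rw [← fromBlocks_conjTranspose, hherm]
  obtain ⟨hAA, hCB, hBC, hDD⟩ := fromBlocks_inj.mp hbH
  have hsch := schur (1 : Y) (star_one Y) (one_mul 1) A B C D hA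
    (by rw [one_smul]; exact hAA) (by rw [one_smul]; exact hBC.symm)
  have hu₃ : IsUnit (fromBlocks A 0 0 (D - C * A⁻¹ * B)) := hsch.isUnit hu
  refine ⟨?_, ?_, hsch⟩
  · rw [isUnit_iff_isUnit_det, det_fromBlocks_zero₂₁] at hu₃
    rw [isUnit_iff_isUnit_det]
    exact isUnit_of_mul_isUnit_right hu₃
  · have := hsch.herm 1 (by rw [one_smul]; exact hherm)
    rw [one_smul, fromBlocks_conjTranspose] at this
    exact (fromBlocks_inj.mp this).2.2.2

/-- Schur complement along a unit principal block. -/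
theorem schur_block (u : Matrix (ι₁ ⊕ κ) (ι₁ ⊕ κ) Y) (hu : IsUnit u) (hherm : uᴴ = u)
    (hA : IsUnit u.toBlocks₁₁) :
    IsUnit (u.toBlocks₂₂ - u.toBlocks₂₁ * u.toBlocks₁₁⁻¹ * u.toBlocks₁₂) ∧
    (u.toBlocks₂₂ - u.toBlocks₂₁ * u.toBlocks₁₁⁻¹ * u.toBlocks₁₂)ᴴ =
      u.toBlocks₂₂ - u.toBlocks₂₁ * u.toBlocks₁₁⁻¹ * u.toBlocks₁₂ ∧
    Cong u (fromBlocks u.toBlocks₁₁ 0 0
      (u.toBlocks₂₂ - u.toBlocks₂₁ * u.toBlocks₁₁⁻¹ * u.toBlocks₁₂)) := by
  have hblocks : fromBlocks u.toBlocks₁₁ u.toBlocks₁₂ u.toBlocks₂₁ u.toBlocks₂₂ = u :=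
    fromBlocks_toBlocks u
  have h := schur_block' u.toBlocks₁₁ u.toBlocks₁₂ u.toBlocks₂₁ u.toBlocks₂₂
    (by rw [hblocks]; exact hu) (by rw [hblocks]; exact hherm) hA
  rw [hblocks] at h
  exact h

/-- Entries of `C * A⁻¹ * B` for a `1 × 1` block `A`. -/
theorem schur_entry [Unique ι₁] (A : Matrix ι₁ ι₁ Y) (B : Matrix ι₁ κ Y) (C : Matrix κ ι₁ Y)
    (q r : κ) :
    (C * A⁻¹ * B) q r = C q default * Ring.inverse (A default default) * B default r := by
  rw [Matrix.mul_apply, Fintype.sum_unique, Matrix.mul_apply, Fintype.sum_unique]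
  congr 2
  rw [Matrix.inv_def, Matrix.smul_apply, Matrix.adjugate_subsingleton, Matrix.one_apply_eq,
    Matrix.det_unique, smul_eq_mul, mul_one]

/-- Combining a `1 × 1` block with a diagonalised complement. -/
theorem combine {ι : Type*} [Fintype ι] [DecidableEq ι] [Unique ι₁] (e : ι₁ ⊕ κ ≃ ι)
    (u : Matrix ι ι Y) (A : Matrix ι₁ ι₁ Y) (D' : Matrix κ κ Y)
    (hc : Cong (u.submatrix e e) (fromBlocks A 0 0 D'))
    (hs : IsUnit (A default default)) (hss : star (A default default) = A default default)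
    (d' : κ → Y) (hd'u : ∀ i, IsUnit (d' i)) (hd's : ∀ i, star (d' i) = d' i)
    (hd'c : Cong D' (diagonal d')) :
    ∃ d : ι → Y, (∀ i, IsUnit (d i)) ∧ (∀ i, star (d i) = d i) ∧ Cong u (diagonal d) := by
  have hAdiag : A = diagonal (fun _ => A default default) := by
    ext a b
    rw [Subsingleton.elim a default, Subsingleton.elim b default, diagonal_apply_eq]
  have hAA : Cong A (diagonal (fun _ => A default default)) :=
    ⟨1, isUnit_one, by rw [conjTranspose_one, Matrix.one_mul, Matrix.mul_one]; exact hAdiag⟩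
  have hstep : Cong (u.submatrix e e) (diagonal (Sum.elim (fun _ => A default default) d')) := by
    refine hc.trans ?_
    rw [← fromBlocks_diagonal]
    exact Cong.fromBlocks hAA hd'c
  let δ : ι₁ ⊕ κ → Y := Sum.elim (fun _ => A default default) d'
  refine ⟨δ ∘ e.symm, ?_, ?_, ?_⟩
  · intro i
    show IsUnit (δ (e.symm i))
    rcases e.symm i with a | a
    · exact hs
    · exact hd'u a
  · intro i
    show star (δ (e.symm i)) = δ (e.symm i)
    rcases e.symm i with a | a
    · exact hss
    · exact hd's a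
  · refine Cong.of_submatrix e ?_
    rw [submatrix_diagonal_equiv]
    have : (δ ∘ e.symm) ∘ e = δ := by
      funext x
      simp
    rw [this]
    exact hstep

end Blocks

section Local

variable [IsLocalRing Y]

theorem isUnit_add_of_not_isUnit {s t : Y} (hs : IsUnit s) (ht : ¬ IsUnit t) : IsUnit (s + t) := by
  rw [isUnit_iff_not_mem] at hs ⊢
  rw [isUnit_iff_not_mem, not_not] at ht
  intro h
  apply hs
  have : s = (s + t) - t := by ring
  rw [this]
  exact Ideal.sub_mem _ h ht

theorem isUnit_sub_of_not_isUnit {s t : Y} (ht : ¬ IsUnit t) (hs : IsUnit s) : IsUnit (t - s) := by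
  rw [isUnit_iff_not_mem] at hs ⊢
  rw [isUnit_iff_not_mem, not_not] at ht
  intro h
  apply hs
  have : s = t - (t - s) := by ring
  rw [this]
  exact Ideal.sub_mem _ ht h

theorem herm_apply {ι : Type*} [Fintype ι] [DecidableEq ι] {u : Matrix ι ι Y} (hherm : uᴴ = u)
    (i j : ι) : star (u i j) = u j i := by
  have := congrFun (congrFun hherm j) i
  rwa [conjTranspose_apply] at this

variable {ι₁ κ : Type*} [Fintype ι₁] [DecidableEq ι₁] [Fintype κ] [DecidableEq κ]

/-- `[s] ⊕ D'`, with `D'` unit hermitian without unit diagonal entries, is congruent to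
`[s'] ⊕ D''` with `D''` having a unit diagonal entry. -/
theorem block_step [Unique ι₁] [Nonempty κ] (A : Matrix ι₁ ι₁ Y)
    (hs : IsUnit (A default default)) (hss : star (A default default) = A default default)
    (D' : Matrix κ κ Y) (hD'u : IsUnit D') (hD'h : D'ᴴ = D')
    (hno : ∀ q, ¬ IsUnit (D' q q)) :
    ∃ (A' : Matrix ι₁ ι₁ Y) (D'' : Matrix κ κ Y), IsUnit (A' default default) ∧
      star (A' default default) = A' default default ∧ IsUnit D'' ∧ D''ᴴ = D'' ∧
      (∃ b, IsUnit (D'' b b)) ∧ Cong (fromBlocks A 0 0 D') (fromBlocks A' 0 0 D'') := by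
  obtain ⟨a⟩ := ‹Nonempty κ›
  obtain ⟨b, hb⟩ := exists_isUnit_row D' hD'u a
  set V : Matrix κ ι₁ Y := Matrix.of (fun x _ => if x = a then 1 else 0) with hV
  have hVD : ∀ i r, (Vᴴ * D') i r = D' a r := by
    intro i r
    simp [Matrix.mul_apply, hV, conjTranspose_apply, apply_ite (star : Y → Y)]
  have hDV : ∀ q i, (D' * V) q i = D' q a := by
    intro q i
    simp [Matrix.mul_apply, hV]
  have hVDV : ∀ i j, (Vᴴ * D' * V) i j = D' a a := by
    intro i j
    rw [Matrix.mul_apply]
    have hterm : ∀ x, (Vᴴ * D') i x * V x j = if x = a then D' a a else 0 := by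
      intro x
      rw [hVD]
      by_cases hx : x = a
      · subst hx
        simp [hV]
      · simp [hV, hx]
    simp_rw [hterm]
    simp
  set T : Matrix (ι₁ ⊕ κ) (ι₁ ⊕ κ) Y := fromBlocks 1 0 V 1 with hT
  have hTunit : IsUnit T := by
    rw [isUnit_iff_isUnit_det, hT, det_fromBlocks_zero₁₂]
    simp
  have hAunit : IsUnit A := by
    rw [isUnit_iff_isUnit_det, det_unique]; exact hs
  have hAherm : Aᴴ = A := by
    ext x y
    rw [Subsingleton.elim x default, Subsingleton.elim y default, conjTranspose_apply, hss]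
  have hWunit : IsUnit (fromBlocks A 0 0 D') := by
    rw [isUnit_iff_isUnit_det, det_fromBlocks_zero₂₁]
    exact ((isUnit_iff_isUnit_det A).mp hAunit).mul ((isUnit_iff_isUnit_det D').mp hD'u)
  have hWherm : (fromBlocks A 0 0 D')ᴴ = fromBlocks A 0 0 D' := by
    rw [fromBlocks_conjTranspose, hAherm, hD'h, conjTranspose_zero, conjTranspose_zero]
  have hW'eq : Tᴴ * fromBlocks A 0 0 D' * T =
      fromBlocks (A + Vᴴ * D' * V) (Vᴴ * D') (D' * V) D' := by
    rw [hT, fromBlocks_conjTranspose, fromBlocks_multiply, fromBlocks_multiply]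
    simp [Matrix.mul_assoc]
  have hcong : Cong (fromBlocks A 0 0 D')
      (fromBlocks (A + Vᴴ * D' * V) (Vᴴ * D') (D' * V) D') := ⟨T, hTunit, hW'eq⟩
  have hW'unit := hcong.isUnit hWunit
  have hW'herm : (fromBlocks (A + Vᴴ * D' * V) (Vᴴ * D') (D' * V) D')ᴴ =
      fromBlocks (A + Vᴴ * D' * V) (Vᴴ * D') (D' * V) D' := by
    have := hcong.herm 1 (by rw [one_smul]; exact hWherm)
    rwa [one_smul] at this
  have hA'00 : (A + Vᴴ * D' * V) default default = A default default + D' a a := by
    rw [Matrix.add_apply, hVDV]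
  have hs' : IsUnit ((A + Vᴴ * D' * V) default default) := by
    rw [hA'00]
    exact isUnit_add_of_not_isUnit hs (hno a)
  have hss' : star ((A + Vᴴ * D' * V) default default) = (A + Vᴴ * D' * V) default default := by
    rw [hA'00, star_add, hss, herm_apply hD'h]
  have hA'unit : IsUnit (A + Vᴴ * D' * V) := by
    rw [isUnit_iff_isUnit_det, det_unique]; exact hs'
  obtain ⟨h1, h2, h3⟩ := schur_block' _ _ _ _ hW'unit hW'herm hA'unit
  refine ⟨A + Vᴴ * D' * V, _, hs', hss', h1, h2, ⟨b, ?_⟩, hcong.trans h3⟩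
  rw [Matrix.sub_apply, schur_entry, hDV, hVD]
  apply isUnit_sub_of_not_isUnit (hno b)
  have hba : IsUnit (D' b a) := by
    rw [← herm_apply hD'h a b]
    exact hb.star
  exact (hba.mul hs'.ringInverse).mul hb

/-- A unit hermitian matrix over a local ring with a unit diagonal entry is diagonalisable. -/
theorem diag_of_unit_entry : ∀ (N : ℕ) (ι : Type) [Fintype ι] [DecidableEq ι],
    Fintype.card ι = N → ∀ u : Matrix ι ι Y, IsUnit u → uᴴ = u → (∃ i₀, IsUnit (u i₀ i₀)) →
    ∃ d : ι → Y, (∀ i, IsUnit (d i)) ∧ (∀ i, star (d i) = d i) ∧ Cong u (diagonal d) := by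
  intro N
  induction N with
  | zero =>
    intro ι _ _ hcard u _ _ hex
    obtain ⟨i₀, _⟩ := hex
    haveI : IsEmpty ι := Fintype.card_eq_zero_iff.mp hcard
    exact isEmptyElim i₀
  | succ N ih =>
    intro ι _ _ hcard u hu hherm hex
    obtain ⟨i₀, hi₀⟩ := hex
    let e : {a // a = i₀} ⊕ {a // ¬ a = i₀} ≃ ι := Equiv.sumCompl (fun a => a = i₀)
    haveI : Unique {a // a = i₀} := ⟨⟨⟨i₀, rfl⟩⟩, fun ⟨a, ha⟩ => Subtype.ext ha⟩
    set u₂ := u.submatrix e e with hu₂def
    have hu₂ : IsUnit u₂ := (isUnit_submatrix_equiv e e).mpr hu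
    have hherm₂ : u₂ᴴ = u₂ := by rw [hu₂def, conjTranspose_submatrix, hherm]
    have hA00 : u₂.toBlocks₁₁ default default = u i₀ i₀ := by
      simp only [hu₂def, toBlocks₁₁, of_apply, submatrix_apply]
      have he0 : e (Sum.inl default) = i₀ := (default : {a // a = i₀}).2
      rw [he0]
    have hs : IsUnit (u₂.toBlocks₁₁ default default) := by rw [hA00]; exact hi₀
    have hss : star (u₂.toBlocks₁₁ default default) = u₂.toBlocks₁₁ default default := by
      rw [hA00]
      exact herm_apply hherm i₀ i₀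
    have hAunit : IsUnit u₂.toBlocks₁₁ := by
      rw [isUnit_iff_isUnit_det, det_unique]; exact hs
    obtain ⟨hD'unit, hD'herm, hsch⟩ := schur_block u₂ hu₂ hherm₂ hAunit
    have hcardQ : Fintype.card {a // ¬ a = i₀} = N := by
      have h1 := Fintype.card_congr e
      rw [Fintype.card_sum, Fintype.card_unique, hcard] at h1
      omega
    by_cases hexD : ∃ q, IsUnit
        ((u₂.toBlocks₂₂ - u₂.toBlocks₂₁ * u₂.toBlocks₁₁⁻¹ * u₂.toBlocks₁₂) q q)
    · obtain ⟨d', hd'u, hd's, hd'c⟩ := ih _ hcardQ _ hD'unit hD'herm hexD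
      exact combine e u _ _ hsch hs hss d' hd'u hd's hd'c
    · push Not at hexD
      by_cases hemp : IsEmpty {a // ¬ a = i₀}
      · exact combine e u _ _ hsch hs hss (fun q => isEmptyElim q) (fun q => isEmptyElim q)
          (fun q => isEmptyElim q) ⟨1, isUnit_one, Subsingleton.elim _ _⟩
      · rw [not_isEmpty_iff] at hemp
        obtain ⟨A', D'', hs', hss', hD''u, hD''h, hex', hc'⟩ :=
          block_step _ hs hss _ hD'unit hD'herm hexD
        obtain ⟨d', hd'u, hd's, hd'c⟩ := ih _ hcardQ D'' hD''u hD''h hex'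
        exact combine e u A' D'' (hsch.trans hc') hs' hss' d' hd'u hd's hd'c

/-- An odd-size unit hermitian matrix over a local ring is congruent to one with a unit diagonal
entry. -/
theorem exists_unit_diag_of_odd : ∀ (N : ℕ) (ι : Type) [Fintype ι] [DecidableEq ι],
    Fintype.card ι = N → Odd N → ∀ u : Matrix ι ι Y, IsUnit u → uᴴ = u →
    ∃ u₁ : Matrix ι ι Y, Cong u u₁ ∧ ∃ i₀, IsUnit (u₁ i₀ i₀) := by
  intro N
  induction N using Nat.strong_induction_on with
  | _ N ih =>
    intro ι _ _ hcard hodd u hu hherm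
    by_cases hex : ∃ i, IsUnit (u i i)
    · exact ⟨u, Cong.refl u, hex⟩
    push Not at hex
    haveI : Nonempty ι := by
      rw [← Fintype.card_pos_iff, hcard]; exact hodd.pos
    obtain ⟨a⟩ := ‹Nonempty ι›
    obtain ⟨b, hb⟩ := exists_isUnit_row u hu a
    have hne : b ≠ a := by
      rintro rfl
      exact hex _ hb
    let e : {x // x = a ∨ x = b} ⊕ {x // ¬ (x = a ∨ x = b)} ≃ ι :=
      Equiv.sumCompl (fun x => x = a ∨ x = b)
    let f : Fin 2 ≃ {x // x = a ∨ x = b} :=
      { toFun := fun i => if i = 0 then ⟨a, Or.inl rfl⟩ else ⟨b, Or.inr rfl⟩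
        invFun := fun x => if x.1 = a then 0 else 1
        left_inv := by
          intro i
          fin_cases i
          · simp
          · simp [hne]
        right_inv := by
          rintro ⟨x, hx | hx⟩
          · subst hx; simp
          · subst hx; simp [hne] }
    set u₂ := u.submatrix e e with hu₂def
    have hu₂ : IsUnit u₂ := (isUnit_submatrix_equiv e e).mpr hu
    have hherm₂ : u₂ᴴ = u₂ := by rw [hu₂def, conjTranspose_submatrix, hherm]
    have hf0 : ((f 0 : {x // x = a ∨ x = b}) : ι) = a := rfl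
    have hf1 : ((f 1 : {x // x = a ∨ x = b}) : ι) = b := rfl
    have hent : ∀ i j : Fin 2, (u₂.toBlocks₁₁.submatrix f f) i j = u (f i : ι) (f j : ι) := by
      intro i j
      rfl
    have hAunit : IsUnit u₂.toBlocks₁₁ := by
      rw [isUnit_iff_isUnit_det, ← det_submatrix_equiv_self f, det_fin_two, hent, hent, hent, hent,
        hf0, hf1]
      apply isUnit_sub_of_not_isUnit
      · intro h
        exact hex a (isUnit_of_mul_isUnit_left h)
      · refine hb.mul ?_
        rw [← herm_apply hherm a b]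
        exact hb.star
    obtain ⟨hD'unit, hD'herm, hsch⟩ := schur_block u₂ hu₂ hherm₂ hAunit
    have hcardP : Fintype.card {x // x = a ∨ x = b} = 2 := by
      rw [← Fintype.card_congr f, Fintype.card_fin]
    have hcardQ : Fintype.card {x // ¬ (x = a ∨ x = b)} = N - 2 := by
      have h1 := Fintype.card_congr e
      rw [Fintype.card_sum, hcardP, hcard] at h1
      omega
    have hN2 : 2 ≤ N := by
      have h1 := Fintype.card_congr e
      rw [Fintype.card_sum, hcardP, hcard] at h1
      omega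
    have hodd' : Odd (N - 2) := by
      obtain ⟨k, hk⟩ := hodd
      exact ⟨k - 1, by omega⟩
    obtain ⟨D₁, hcD, q, hq⟩ := ih (N - 2) (by omega) _ hcardQ hodd' _ hD'unit hD'herm
    refine ⟨(fromBlocks u₂.toBlocks₁₁ 0 0 D₁).submatrix e.symm e.symm, ?_, e (Sum.inr q), ?_⟩
    · refine Cong.of_submatrix e ?_
      have hsub : ((fromBlocks u₂.toBlocks₁₁ 0 0 D₁).submatrix e.symm e.symm).submatrix e e =
          fromBlocks u₂.toBlocks₁₁ 0 0 D₁ := by
        rw [submatrix_submatrix]
        simp
      rw [hsub]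
      exact hsch.trans (Cong.fromBlocks (Cong.refl _) hcD)
    · rw [submatrix_apply, Equiv.symm_apply_apply, fromBlocks_apply₂₂]
      exact hq

end Local

/-- Requested by helper96: char-free diagonalisation of odd-rank hermitian forms over a local ring
with involution. -/
theorem odd_diag {Y : Type*} [CommRing Y] [StarRing Y] [IsLocalRing Y] :
    ∀ (N : ℕ) (ι : Type) [Fintype ι] [DecidableEq ι], Fintype.card ι = N → Odd N →
    ∀ u : Matrix ι ι Y, IsUnit u → uᴴ = u →
    ∃ d : ι → Y, (∀ i, IsUnit (d i)) ∧ (∀ i, star (d i) = d i) ∧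
      Groth.Agent.H96.HermLocal.Cong u (Matrix.diagonal d) := by
  intro N ι _ _ hcard hodd u hu hherm
  obtain ⟨u₁, hc, hex⟩ := exists_unit_diag_of_odd N ι hcard hodd u hu hherm
  have hu₁ := hc.isUnit hu
  have hh₁ : u₁ᴴ = u₁ := by
    have := hc.herm 1 (by rw [one_smul]; exact hherm)
    rwa [one_smul] at this
  obtain ⟨d, h1, h2, h3⟩ := diag_of_unit_entry N ι hcard u₁ hu₁ hh₁ hex
  exact ⟨d, h1, h2, hc.trans h3⟩

end Groth.Agent.H88.OddDiag
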