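import Groth.Agent.H88.Frame
import Groth.Agent.H88.PnGlobal
import Groth.Agent.H8.FreeMod

/-!
# An isomorphism of sums of line bundles respects the counting function (piece (U2) of S7797)
-/

set_option autoImplicit false
set_option linter.style.haveILetI false
universe u
open CategoryTheory CategoryTheory.Limits AlgebraicGeometry Opposite TopologicalSpace
open Groth.Agent.H18.TensorGen (IsGen)
open Groth.Agent.H88.Frame Groth.Agent.H88.PicPn Groth.Agent.H88.TwistGenN Groth.Agent.H88.MonoFrac Groth.Agent.H88.ProjChart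

namespace Groth.Agent.H88.P1CardLe

section Gen

variable {X : Scheme.{u}} {V : X.Opens}

/-- The coefficient of `ψ μ` with respect to the generator `ν`. -/
noncomputable def coef {M N : X.Modules} (μ : Γ(M, V)) {ν : Γ(N, V)} (hν : IsGen N V ν)
    (ψ : M ⟶ N) : Γ(X, V) :=
  Classical.choose (hν.self.2 (ψ.app V μ))

theorem coef_spec {M N : X.Modules} (μ : Γ(M, V)) {ν : Γ(N, V)} (hν : IsGen N V ν)
    (ψ : M ⟶ N) : coef μ hν ψ • ν = ψ.app V μ :=
  Classical.choose_spec (hν.self.2 (ψ.app V μ))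

theorem coef_eq {M N : X.Modules} (μ : Γ(M, V)) {ν : Γ(N, V)} (hν : IsGen N V ν)
    (ψ : M ⟶ N) (c : Γ(X, V)) (h : ψ.app V μ = c • ν) : coef μ hν ψ = c :=
  hν.self.1 ((coef_spec μ hν ψ).trans h)

theorem coef_comp {M N K : X.Modules} (μ : Γ(M, V)) {ν : Γ(N, V)} (hν : IsGen N V ν)
    {κ : Γ(K, V)} (hκ : IsGen K V κ) (ψ : M ⟶ N) (ψ' : N ⟶ K) :
    coef μ hκ (ψ ≫ ψ') = coef μ hν ψ * coef ν hκ ψ' := by
  apply coef_eq
  have h1 : (ψ ≫ ψ').app V μ = ψ'.app V (ψ.app V μ) := rfl
  rw [h1, ← coef_spec μ hν ψ, Scheme.Modules.Hom.app_smul, ← coef_spec ν hκ ψ', mul_smul]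

theorem coef_sum {M N : X.Modules} (μ : Γ(M, V)) {ν : Γ(N, V)} (hν : IsGen N V ν)
    {ι : Type*} (s : Finset ι) (ψ : ι → (M ⟶ N)) :
    coef μ hν (∑ i ∈ s, ψ i) = ∑ i ∈ s, coef μ hν (ψ i) := by
  apply coef_eq
  rw [Groth.Agent.H8.app_sum, Finset.sum_smul]
  exact Finset.sum_congr rfl (fun i _ => (coef_spec μ hν (ψ i)).symm)

theorem coef_zero {M N : X.Modules} (μ : Γ(M, V)) {ν : Γ(N, V)} (hν : IsGen N V ν) :
    coef μ hν (0 : M ⟶ N) = 0 := by
  apply coef_eq
  rw [zero_smul]
  rfl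

theorem coef_id {M : X.Modules} {μ : Γ(M, V)} (hμ : IsGen M V μ) :
    coef μ hμ (𝟙 M) = 1 := by
  apply coef_eq
  rw [one_smul]
  rfl

/-- The general counting inequality. -/
theorem card_le_of_iso_gen [Nontrivial Γ(X, V)] {r : ℕ} (L L' : Fin r → X.Modules)
    (lam : ∀ i, Γ(L i, V)) (hlam : ∀ i, IsGen (L i) V (lam i))
    (lam' : ∀ j, Γ(L' j, V)) (hlam' : ∀ j, IsGen (L' j) V (lam' j))
    (e : (∐ L) ≅ ∐ L') (I J : Finset (Fin r))
    (hz : ∀ i ∈ I, ∀ j, j ∉ J → ∀ ψ : L i ⟶ L' j, ψ = 0) : I.card ≤ J.card := by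
  classical
  haveI : HasFiniteBiproducts X.Modules := Abelian.hasFiniteBiproducts
  let e' : (⨁ L) ≅ ⨁ L' := biproduct.isoCoproduct L ≪≫ e ≪≫ (biproduct.isoCoproduct L').symm
  let ψ : ∀ (j i : Fin r), L i ⟶ L' j := fun j i => biproduct.ι L i ≫ e'.hom ≫ biproduct.π L' j
  let ψ' : ∀ (i j : Fin r), L' j ⟶ L i := fun i j => biproduct.ι L' j ≫ e'.inv ≫ biproduct.π L i
  let C : Matrix (Fin r) (Fin r) Γ(X, V) := fun j i => coef (lam i) (hlam' j) (ψ j i)
  let C' : Matrix (Fin r) (Fin r) Γ(X, V) := fun i j => coef (lam' j) (hlam i) (ψ' i j)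
  have hsum : ∀ i i', ∑ j, ψ j i ≫ ψ' i' j = biproduct.ι L i ≫ biproduct.π L i' := by
    intro i i'
    have h1 : ∀ j, ψ j i ≫ ψ' i' j = biproduct.ι L i ≫ e'.hom ≫
        (biproduct.π L' j ≫ biproduct.ι L' j) ≫ e'.inv ≫ biproduct.π L i' := by
      intro j
      simp only [ψ, ψ', Category.assoc]
    rw [Finset.sum_congr rfl (fun j _ => h1 j), ← Preadditive.comp_sum, ← Preadditive.comp_sum,
      ← Preadditive.sum_comp, biproduct.total, Category.id_comp, Iso.hom_inv_id_assoc]
  have hCC : C' * C = 1 := by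
    ext i' i
    rw [Matrix.mul_apply]
    have h2 : ∀ j, C' i' j * C j i = coef (lam i) (hlam i') (ψ j i ≫ ψ' i' j) := by
      intro j
      rw [coef_comp (lam i) (hlam' j) (hlam i'), mul_comm]
    rw [Finset.sum_congr rfl (fun j _ => h2 j), ← coef_sum, hsum]
    by_cases hii : i' = i
    · subst hii
      rw [biproduct.ι_π_self, coef_id, Matrix.one_apply_eq]
    · rw [biproduct.ι_π_ne _ (Ne.symm hii), coef_zero, Matrix.one_apply_ne hii]
  have hC0 : ∀ i ∈ I, ∀ j, j ∉ J → C j i = 0 := by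
    intro i hi j hj
    show coef (lam i) (hlam' j) (ψ j i) = 0
    rw [hz i hi j hj (ψ j i), coef_zero]
  -- the linear map
  let f : (I → Γ(X, V)) →ₗ[Γ(X, V)] (J → Γ(X, V)) :=
    { toFun := fun v j => ∑ i : I, C j.1 i.1 * v i
      map_add' := by
        intro v w
        ext j
        simp only [Pi.add_apply, mul_add, Finset.sum_add_distrib]
      map_smul' := by
        intro c v
        ext j
        simp only [Pi.smul_apply, smul_eq_mul, RingHom.id_apply, Finset.mul_sum]
        refine Finset.sum_congr rfl (fun i _ => ?_)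
        ring }
  have hf : Function.Injective f := by
    rw [← LinearMap.ker_eq_bot, LinearMap.ker_eq_bot']
    intro v hv
    let vb : Fin r → Γ(X, V) := fun i => if h : i ∈ I then v ⟨i, h⟩ else 0
    have hsumI : ∀ j, ∑ i, C j i * vb i = ∑ i : I, C j i.1 * v i := by
      intro j
      rw [← Finset.sum_subset (Finset.subset_univ I)]
      · rw [← Finset.sum_coe_sort I]
        refine Finset.sum_congr rfl (fun i _ => ?_)
        simp only [vb, dif_pos i.2]
      · intro i _ hi
        simp only [vb, dif_neg hi, mul_zero]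
    have hCv : C.mulVec vb = 0 := by
      ext j
      show ∑ i, C j i * vb i = 0
      rw [hsumI]
      by_cases hj : j ∈ J
      · exact congrFun hv ⟨j, hj⟩
      · exact Finset.sum_eq_zero (fun i _ => by rw [hC0 i.1 i.2 j hj, zero_mul])
    have hvb : vb = 0 := by
      have h3 : C'.mulVec (C.mulVec vb) = vb := by
        rw [Matrix.mulVec_mulVec, hCC, Matrix.one_mulVec]
      rw [← h3, hCv, Matrix.mulVec_zero]
    ext i
    have h4 := congrFun hvb i.1
    simp only [vb, dif_pos i.2] at h4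
    exact h4
  have h5 := card_le_of_injective (Γ(X, V)) f hf
  simpa using h5

end Gen

/-- Piece (U2): an isomorphism of sums of twists respects the counting function. -/
theorem card_le_of_iso (n : ℕ) (k : Type u) [Field k] {r : ℕ} (d d' : Fin r → ℤ)
    (e : (∐ fun i => Twist.twist (CohB1.polyGrading n k) (d i)) ≅
      ∐ fun i => Twist.twist (CohB1.polyGrading n k) (d' i))
    (hvan : ∀ a b : ℤ, b < a → ∀ ψ : Twist.twist (CohB1.polyGrading n k) a ⟶
      Twist.twist (CohB1.polyGrading n k) b, ψ = 0) (t : ℤ) :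
    (Finset.univ.filter (fun i => t ≤ d i)).card ≤
      (Finset.univ.filter (fun i => t ≤ d' i)).card := by
  haveI : Nontrivial Γ(Proj (CohB1.polyGrading n k), U n k 0) :=
    (Θ n k 0).symm.toEquiv.nontrivial
  refine card_le_of_iso_gen (V := U n k 0)
    (fun i => Twist.twist (CohB1.polyGrading n k) (d i))
    (fun i => Twist.twist (CohB1.polyGrading n k) (d' i))
    (fun i => αN (CohB1.polyGrading n k) (hT n k 0) (d i))
    (fun i => isGen_αN (CohB1.polyGrading n k) (hT n k 0) (d i))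
    (fun i => αN (CohB1.polyGrading n k) (hT n k 0) (d' i))
    (fun i => isGen_αN (CohB1.polyGrading n k) (hT n k 0) (d' i)) e _ _ ?_
  intro i hi j hj ψ
  rw [Finset.mem_filter] at hi hj
  exact hvan (d i) (d' j) (by
    have h1 := hi.2
    have h2 : ¬ t ≤ d' j := fun h => hj ⟨Finset.mem_univ j, h⟩
    omega) ψ

end Groth.Agent.H88.P1CardLe
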