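import Groth.Agent.H88.PnGlobal

/-!
# No nonzero maps `O(a) ⟶ O(b)` for `b < a` on `P^n_k`, `n ≥ 1`
-/

set_option autoImplicit false
universe u

noncomputable section

namespace Groth.Agent.H88.P1HomVanish

open CategoryTheory AlgebraicGeometry Opposite TopologicalSpace
open Groth.Agent.H8 (res_res res_smul app_res)
open Groth.Agent.H18.Serre
open Groth.Agent.H18.TensorGen (IsGen)
open Groth.Agent.H18.ProjUPSym Groth.Agent.H18.ProjUPUniq
open Groth.Agent.H88.TwistGenN Groth.Agent.H88.MonoFrac Groth.Agent.H88.ProjChart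
open Groth.Agent.H88.PicPn Groth.Agent.H88.PnGlobal

variable (n : ℕ) (k : Type u) [Field k]

theorem zfrac_zero {V : (Proj (CohB1.polyGrading n k)).Opens} (i j : Fin (n + 1))
    (hVi : V ≤ U n k i) (hVj : V ≤ U n k j) (z : ℤ) (hz : z = 0) :
    zfrac (CohB1.polyGrading n k) V (hT n k i) (hT n k j) hVi hVj z = 1 := by
  rw [← mfrac_eq_zfrac (CohB1.polyGrading n k) (hT n k i) (hT n k j) hVi hVj 0 0 z
    (by rw [hz]; simp), mfrac_diag]

theorem hom_eq_zero_of_lt (hn : ∃ i : Fin (n + 1), i ≠ 0) (a b : ℤ) (hab : b < a)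
    (ψ : Twist.twist (CohB1.polyGrading n k) a ⟶ Twist.twist (CohB1.polyGrading n k) b) :
    ψ = 0 := by
  obtain ⟨e, he⟩ := Int.lt.dest hab
  have hc : ∀ i, ∃ c : Γ(Proj (CohB1.polyGrading n k), U n k i),
      ψ.app (U n k i) (αN (CohB1.polyGrading n k) (hT n k i) a) =
        c • αN (CohB1.polyGrading n k) (hT n k i) b := fun i => by
    obtain ⟨c, hc⟩ := (isGen_αN (CohB1.polyGrading n k) (hT n k i) b).self.2
      (ψ.app (U n k i) (αN (CohB1.polyGrading n k) (hT n k i) a))
    exact ⟨c, hc.symm⟩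
  choose c hc using hc
  -- the relation between the coefficients on overlaps
  have hrel : ∀ i j, (Proj (CohB1.polyGrading n k)).presheaf.map
      (homOfLE (inf_le_right : U n k i ⊓ U n k j ≤ U n k j)).op (c j) =
      mfrac (CohB1.polyGrading n k) (U n k i ⊓ U n k j) (hT n k i) (hT n k j) inf_le_left
        inf_le_right e.succ 0 *
      (Proj (CohB1.polyGrading n k)).presheaf.map
        (homOfLE (inf_le_left : U n k i ⊓ U n k j ≤ U n k i)).op (c i) := by
    intro i j
    have h1 := congrArg (ψ.app (U n k i ⊓ U n k j))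
      (αN_res (CohB1.polyGrading n k) (hT n k i) (hT n k j) a)
    rw [Scheme.Modules.Hom.app_smul, app_res, app_res, hc i, hc j, res_smul, res_smul,
      αN_res (CohB1.polyGrading n k) (hT n k i) (hT n k j) b, ← mul_smul, ← mul_smul] at h1
    have h2 := IsGen.smul_cancel (isGen_αN (CohB1.polyGrading n k) (hT n k i) b) inf_le_left h1
    rw [uN_eq_zfrac, uN_eq_zfrac, ← he, zfrac_add_nat] at h2
    apply zfrac_mul_cancel (CohB1.polyGrading n k) (hT n k i) (hT n k j) inf_le_left
      inf_le_right b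
    rw [mul_comm, h2]
    ring
  -- the auxiliary map `O(0) ⟶ O(-(e+1))`
  have hγu : ∀ i j, (Twist.twist (CohB1.polyGrading n k) (-((e.succ : ℕ) : ℤ))).presheaf.map
      (homOfLE (inf_le_right : U n k i ⊓ U n k j ≤ U n k j)).op
        (c j • αN (CohB1.polyGrading n k) (hT n k j) (-((e.succ : ℕ) : ℤ))) =
      uN (CohB1.polyGrading n k) (hT n k i) (hT n k j) ((0 : ℕ) : ℤ) •
        (Twist.twist (CohB1.polyGrading n k) (-((e.succ : ℕ) : ℤ))).presheaf.map
          (homOfLE (inf_le_left : U n k i ⊓ U n k j ≤ U n k i)).op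
          (c i • αN (CohB1.polyGrading n k) (hT n k i) (-((e.succ : ℕ) : ℤ))) := by
    intro i j
    rw [res_smul, res_smul,
      αN_res (CohB1.polyGrading n k) (hT n k i) (hT n k j) (-((e.succ : ℕ) : ℤ)),
      ← mul_smul, ← mul_smul]
    congr 1
    have hu0 : uN (CohB1.polyGrading n k) (hT n k i) (hT n k j) ((0 : ℕ) : ℤ) = 1 := by
      rw [uN_eq_zfrac]
      exact zfrac_zero n k i j _ _ _ (by simp)
    have hue : mfrac (CohB1.polyGrading n k) (U n k i ⊓ U n k j) (hT n k i) (hT n k j)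
        inf_le_left inf_le_right e.succ 0 *
        uN (CohB1.polyGrading n k) (hT n k i) (hT n k j) (-((e.succ : ℕ) : ℤ)) = 1 := by
      rw [uN_eq_zfrac, ← mfrac_eq_zfrac (CohB1.polyGrading n k) (hT n k i) (hT n k j)
        inf_le_left inf_le_right 0 e.succ (-((e.succ : ℕ) : ℤ)) (by push_cast; ring),
        mfrac_mul, add_zero, zero_add, mfrac_diag]
    rw [hu0, one_mul, hrel i j, mul_right_comm, hue, one_mul]
  have hcoh := Groth.Agent.H18.HomOfGens.coh_of_transition
    (A := Twist.twist (CohB1.polyGrading n k) ((0 : ℕ) : ℤ))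
    (C := Twist.twist (CohB1.polyGrading n k) (-((e.succ : ℕ) : ℤ))) (D := U n k)
    (α := fun i => αN (CohB1.polyGrading n k) (hT n k i) ((0 : ℕ) : ℤ))
    (γ := fun i => c i • αN (CohB1.polyGrading n k) (hT n k i) (-((e.succ : ℕ) : ℤ)))
    (fun i => isGen_αN (CohB1.polyGrading n k) (hT n k i) ((0 : ℕ) : ℤ))
    (fun i j => uN (CohB1.polyGrading n k) (hT n k i) (hT n k j) ((0 : ℕ) : ℤ))
    (fun i j => αN_res (CohB1.polyGrading n k) (hT n k i) (hT n k j) ((0 : ℕ) : ℤ)) hγu
  obtain ⟨θ, hθ⟩ := Groth.Agent.H18.HomOfGens.exists_hom_of_gens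
    (Groth.Agent.H18.ProjUPData.Dp_cover n k)
    (fun i => isGen_αN (CohB1.polyGrading n k) (hT n k i) ((0 : ℕ) : ℤ)) hcoh
  have hc0 : ∀ i, c i = 0 := by
    intro i
    have h1 := res_eq_zero_of_neg n k hn e.succ (Nat.succ_pos e)
      (θ.app ⊤ (gO (CohB1.polyGrading n k)
        (⟨1, SetLike.one_mem_graded _⟩ : CohB1.polyGrading n k 0))) i
    rw [← app_res, gO_res (CohB1.polyGrading n k) _ (hT n k i), Scheme.Modules.Hom.app_smul,
      hθ i] at h1
    have h2 : frac (CohB1.polyGrading n k) (U n k i)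
        (SetLike.one_mem_graded (CohB1.polyGrading n k))
        (TwistGenN.pow_mem_one (CohB1.polyGrading n k) (hT n k i) 0)
        (fun y => pow_notMem (CohB1.polyGrading n k)
          (notMem_of_mem_basicOpen (CohB1.polyGrading n k) y) 0) = 1 := by
      refine (frac_eq_of (CohB1.polyGrading n k) _ _ _
        (TwistGenN.pow_mem_one (CohB1.polyGrading n k) (hT n k i) 0)
        (TwistGenN.pow_mem_one (CohB1.polyGrading n k) (hT n k i) 0)
        (fun y => pow_notMem (CohB1.polyGrading n k)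
          (notMem_of_mem_basicOpen (CohB1.polyGrading n k) y) 0) ?_).trans (frac_self _ _ _)
      ring
    rw [h2, one_smul] at h1
    apply (isGen_αN (CohB1.polyGrading n k) (hT n k i) (-((e.succ : ℕ) : ℤ))).self.1
    show c i • αN (CohB1.polyGrading n k) (hT n k i) (-((e.succ : ℕ) : ℤ)) =
      (0 : Γ(Proj (CohB1.polyGrading n k), U n k i)) •
        αN (CohB1.polyGrading n k) (hT n k i) (-((e.succ : ℕ) : ℤ))
    rw [h1, zero_smul]
  refine Groth.Agent.H18.HomOfGens.hom_ext_of_gens (Groth.Agent.H18.ProjUPData.Dp_cover n k)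
    (fun i => isGen_αN (CohB1.polyGrading n k) (hT n k i) a) ψ 0 (fun i => ?_)
  rw [hc i, hc0 i, zero_smul]
  rfl

end Groth.Agent.H88.P1HomVanish
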