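import Groth.Agent.H88.PicPn

/-!
# The two charts of `P^1_k` and their overlap as `k[X]`, `k[X]`, `k[T;T⁻¹]`
-/

set_option autoImplicit false
universe u

noncomputable section

namespace Groth.Agent.H88.P1Transport

open CategoryTheory AlgebraicGeometry Opposite TopologicalSpace Polynomial
open Groth.Agent.H18.Serre
open Groth.Agent.H18.ProjUPSym Groth.Agent.H18.ProjUPUniq
open Groth.Agent.H88.TwistGenN Groth.Agent.H88.MonoFrac Groth.Agent.H88.ProjChart
open Groth.Agent.H88.PicPn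

variable (k : Type u) [Field k]

instance uniqueOther (i : Fin (1 + 1)) : Unique {j : Fin (1 + 1) // j ≠ i} where
  default := ⟨Fin.rev i, by revert i; decide⟩
  uniq j := Subtype.ext (by
    have h : ∀ i j : Fin (1 + 1), j ≠ i → j = Fin.rev i := by decide
    exact h i j.1 j.2)

/-- the chart `D₊(X i)` of `P^1` is the affine line -/
def chartPoly (i : Fin (1 + 1)) : Γ(Proj (CohB1.polyGrading 1 k), U 1 k i) ≃+* k[X] :=
  (Θ 1 k i).symm.trans (MvPolynomial.uniqueAlgEquiv k {j : Fin (1 + 1) // j ≠ i}).toRingEquiv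

theorem chartPoly_cst (i : Fin (1 + 1)) (r : k) :
    chartPoly k i (cst (CohB1.polyGrading 1 k) (U 1 k i) r) = C r := by
  show (MvPolynomial.uniqueAlgEquiv k {j : Fin (1 + 1) // j ≠ i}) ((Θ 1 k i).symm _) = _
  rw [← Θ_C, RingEquiv.symm_apply_apply]
  have h := MvPolynomial.uniqueAlgEquiv_monomial (R := k) (σ := {j : Fin (1 + 1) // j ≠ i}) (d := 0)
    (r := r)
  simpa using h

theorem chartPoly_y (i : Fin (1 + 1)) :
    chartPoly k i (uSecG (CohB1.polyGrading 1 k) (hT 1 k i) (hT 1 k (Fin.rev i))) = X := by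
  show (MvPolynomial.uniqueAlgEquiv k {j : Fin (1 + 1) // j ≠ i}) ((Θ 1 k i).symm _) = _
  have h0 := Θ_X 1 k i (default : {j : Fin (1 + 1) // j ≠ i})
  have h1 : ((default : {j : Fin (1 + 1) // j ≠ i}) : Fin (1 + 1)) = Fin.rev i := rfl
  rw [h1] at h0
  rw [← h0, RingEquiv.symm_apply_apply]
  have h := MvPolynomial.uniqueAlgEquiv_monomial (R := k) (σ := {j : Fin (1 + 1) // j ≠ i})
    (d := Finsupp.single default 1) (r := 1)
  simpa [MvPolynomial.X] using h

/-- restriction from the chart `U 0` to the overlap -/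
abbrev res0 : Γ(Proj (CohB1.polyGrading 1 k), U 1 k 0) →+*
    Γ(Proj (CohB1.polyGrading 1 k), U 1 k 0 ⊓ U 1 k 1) :=
  ((Proj (CohB1.polyGrading 1 k)).presheaf.map
    (homOfLE (inf_le_left : U 1 k 0 ⊓ U 1 k 1 ≤ U 1 k 0)).op).hom

/-- restriction from the chart `U 1` to the overlap -/
abbrev res1 : Γ(Proj (CohB1.polyGrading 1 k), U 1 k 1) →+*
    Γ(Proj (CohB1.polyGrading 1 k), U 1 k 0 ⊓ U 1 k 1) :=
  ((Proj (CohB1.polyGrading 1 k)).presheaf.map
    (homOfLE (inf_le_right : U 1 k 0 ⊓ U 1 k 1 ≤ U 1 k 1)).op).hom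

theorem res0_y : res0 k (uSecG (CohB1.polyGrading 1 k) (hT 1 k 0) (hT 1 k 1)) =
    mfrac (CohB1.polyGrading 1 k) (U 1 k 0 ⊓ U 1 k 1) (hT 1 k 0) (hT 1 k 1) inf_le_left
      inf_le_right 1 0 := by
  show (Proj (CohB1.polyGrading 1 k)).presheaf.map (homOfLE _).op _ = _
  rw [uSecG_eq_frac, frac_res]
  unfold mfrac
  refine frac_eq_of _ _ _ _ _ _ _ ?_
  ring

set_option backward.isDefEq.respectTransparency false in
theorem exists_transport :
    ∃ τ : Γ(Proj (CohB1.polyGrading 1 k), U 1 k 0 ⊓ U 1 k 1) ≃+* LaurentPolynomial k,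
      (∀ a, τ (res0 k a) = Polynomial.toLaurent (chartPoly k 0 a)) ∧
      (∀ m : ℤ, τ (zfrac (CohB1.polyGrading 1 k) (U 1 k 0 ⊓ U 1 k 1) (hT 1 k 0) (hT 1 k 1)
        inf_le_left inf_le_right m) = LaurentPolynomial.T m) := by
  have hU : IsAffineOpen (U 1 k 0) :=
    Proj.isAffineOpen_basicOpen (CohB1.polyGrading 1 k) (MvPolynomial.X 0) (hT 1 k 0) Nat.one_pos
  have key : ∀ (W' : (Proj (CohB1.polyGrading 1 k)).Opens)
      (_ : W' = (Proj (CohB1.polyGrading 1 k)).basicOpen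
        (uSecG (CohB1.polyGrading 1 k) (hT 1 k 0) (hT 1 k 1))) (hW'i : W' ≤ U 1 k 0),
      @IsLocalization.Away _ _ (uSecG (CohB1.polyGrading 1 k) (hT 1 k 0) (hT 1 k 1))
        Γ(Proj (CohB1.polyGrading 1 k), W') _
        ((Proj (CohB1.polyGrading 1 k)).presheaf.map (homOfLE hW'i).op).hom.toAlgebra := by
    intro W' hW' hW'i
    subst hW'
    exact hU.isLocalization_basicOpen _
  letI : Algebra Γ(Proj (CohB1.polyGrading 1 k), U 1 k 0)
      Γ(Proj (CohB1.polyGrading 1 k), U 1 k 0 ⊓ U 1 k 1) := (res0 k).toAlgebra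
  haveI : IsLocalization.Away (uSecG (CohB1.polyGrading 1 k) (hT 1 k 0) (hT 1 k 1))
      Γ(Proj (CohB1.polyGrading 1 k), U 1 k 0 ⊓ U 1 k 1) :=
    key _ (basicOpen_uSecG (CohB1.polyGrading 1 k) (hT 1 k 0) (hT 1 k 1)).symm inf_le_left
  have H : Submonoid.map (chartPoly k 0).toMonoidHom
      (Submonoid.powers (uSecG (CohB1.polyGrading 1 k) (hT 1 k 0) (hT 1 k 1))) =
      Submonoid.powers (X : k[X]) := by
    rw [Submonoid.map_powers]
    congr 1
    exact chartPoly_y k 0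
  obtain ⟨τ, hτ⟩ : ∃ τ : Γ(Proj (CohB1.polyGrading 1 k), U 1 k 0 ⊓ U 1 k 1) ≃+*
      LaurentPolynomial k, τ = IsLocalization.ringEquivOfRingEquiv
        (M := Submonoid.powers (uSecG (CohB1.polyGrading 1 k) (hT 1 k 0) (hT 1 k 1)))
        (T := Submonoid.powers (X : k[X]))
        Γ(Proj (CohB1.polyGrading 1 k), U 1 k 0 ⊓ U 1 k 1) (LaurentPolynomial k)
        (chartPoly k 0) H := ⟨_, rfl⟩
  have h0 : ∀ a, τ (res0 k a) = Polynomial.toLaurent (chartPoly k 0 a) := by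
    intro a
    rw [hτ]
    have h := IsLocalization.ringEquivOfRingEquiv_eq
      (S := Γ(Proj (CohB1.polyGrading 1 k), U 1 k 0 ⊓ U 1 k 1)) (Q := LaurentPolynomial k) H a
    rw [LaurentPolynomial.algebraMap_eq_toLaurent] at h
    exact h
  refine ⟨τ, h0, ?_⟩
  have h1 : ∀ e : ℕ, τ (mfrac (CohB1.polyGrading 1 k) (U 1 k 0 ⊓ U 1 k 1) (hT 1 k 0) (hT 1 k 1)
      inf_le_left inf_le_right e 0) = LaurentPolynomial.T e := by
    intro e
    rw [← mfrac_pow_one_zero, map_pow, ← res0_y, h0, chartPoly_y k 0, Polynomial.toLaurent_X,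
      LaurentPolynomial.T_pow, mul_one]
  have hz0 : zfrac (CohB1.polyGrading 1 k) (U 1 k 0 ⊓ U 1 k 1) (hT 1 k 0) (hT 1 k 1)
      inf_le_left inf_le_right 0 = 1 := by
    rw [← mfrac_eq_zfrac (CohB1.polyGrading 1 k) (hT 1 k 0) (hT 1 k 1) inf_le_left inf_le_right
      0 0 0 (by simp), mfrac_diag]
  have h2 : ∀ (m : ℤ) (e : ℕ), τ (zfrac (CohB1.polyGrading 1 k) (U 1 k 0 ⊓ U 1 k 1) (hT 1 k 0)
      (hT 1 k 1) inf_le_left inf_le_right (m + e)) = LaurentPolynomial.T e *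
      τ (zfrac (CohB1.polyGrading 1 k) (U 1 k 0 ⊓ U 1 k 1) (hT 1 k 0) (hT 1 k 1)
        inf_le_left inf_le_right m) := by
    intro m e
    rw [zfrac_add_nat, map_mul, h1]
  intro m
  rcases le_or_gt 0 m with hm | hm
  · obtain ⟨e, rfl⟩ := Int.eq_ofNat_of_zero_le hm
    have h3 := h2 0 e
    rw [zero_add, hz0, map_one, mul_one] at h3
    exact h3
  · obtain ⟨e, he⟩ : ∃ e : ℕ, m + e = 0 := ⟨(-m).toNat, by omega⟩
    have h3 := h2 m e
    rw [he, hz0, map_one] at h3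
    have hm' : m = -(e : ℤ) := by omega
    rw [hm']
    calc τ (zfrac (CohB1.polyGrading 1 k) (U 1 k 0 ⊓ U 1 k 1) (hT 1 k 0) (hT 1 k 1)
          inf_le_left inf_le_right (-(e : ℤ)))
        = LaurentPolynomial.T (-(e : ℤ)) * (LaurentPolynomial.T e *
          τ (zfrac (CohB1.polyGrading 1 k) (U 1 k 0 ⊓ U 1 k 1) (hT 1 k 0) (hT 1 k 1)
          inf_le_left inf_le_right (-(e : ℤ)))) := by
          rw [← mul_assoc, ← LaurentPolynomial.T_add, neg_add_cancel, LaurentPolynomial.T_zero,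
            one_mul]
      _ = LaurentPolynomial.T (-(e : ℤ)) := by rw [← hm', ← h3, mul_one]

theorem res1_z : res1 k (uSecG (CohB1.polyGrading 1 k) (hT 1 k 1) (hT 1 k 0)) =
    zfrac (CohB1.polyGrading 1 k) (U 1 k 0 ⊓ U 1 k 1) (hT 1 k 0) (hT 1 k 1) inf_le_left
      inf_le_right (-1) := by
  rw [← mfrac_eq_zfrac (CohB1.polyGrading 1 k) (hT 1 k 0) (hT 1 k 1) inf_le_left inf_le_right
    0 1 (-1) (by norm_num)]
  show (Proj (CohB1.polyGrading 1 k)).presheaf.map (homOfLE _).op _ = _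
  rw [uSecG_eq_frac, frac_res]
  unfold mfrac
  refine frac_eq_of _ _ _ _ _ _ _ ?_
  ring

theorem transport_res1
    (τ : Γ(Proj (CohB1.polyGrading 1 k), U 1 k 0 ⊓ U 1 k 1) ≃+* LaurentPolynomial k)
    (h0 : ∀ a, τ (res0 k a) = Polynomial.toLaurent (chartPoly k 0 a))
    (hz : ∀ m : ℤ, τ (zfrac (CohB1.polyGrading 1 k) (U 1 k 0 ⊓ U 1 k 1) (hT 1 k 0) (hT 1 k 1)
        inf_le_left inf_le_right m) = LaurentPolynomial.T m)
    (b : Γ(Proj (CohB1.polyGrading 1 k), U 1 k 1)) :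
    τ (res1 k b) = LaurentPolynomial.invert (Polynomial.toLaurent (chartPoly k 1 b)) := by
  have key : (τ.toRingHom.comp ((res1 k).comp (Θ 1 k 1).toRingHom)) =
      ((LaurentPolynomial.invert (R := k)).toRingEquiv.toRingHom.comp
        ((Polynomial.toLaurent (R := k)).comp
          ((chartPoly k 1).toRingHom.comp (Θ 1 k 1).toRingHom))) := by
    apply MvPolynomial.ringHom_ext
    · intro r
      show τ (res1 k (Θ 1 k 1 (MvPolynomial.C r))) = LaurentPolynomial.invert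
        (Polynomial.toLaurent (chartPoly k 1 (Θ 1 k 1 (MvPolynomial.C r))))
      rw [Θ_C, chartPoly_cst, Polynomial.toLaurent_C, LaurentPolynomial.invert_C]
      have h1 : res1 k (cst (CohB1.polyGrading 1 k) (U 1 k 1) r) =
          res0 k (cst (CohB1.polyGrading 1 k) (U 1 k 0) r) := rfl
      rw [h1, h0, chartPoly_cst, Polynomial.toLaurent_C]
    · intro j
      show τ (res1 k (Θ 1 k 1 (MvPolynomial.X j))) = LaurentPolynomial.invert
        (Polynomial.toLaurent (chartPoly k 1 (Θ 1 k 1 (MvPolynomial.X j))))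
      have hj : j = default := Unique.eq_default j
      subst hj
      rw [Θ_X]
      have h1 : ((default : {j : Fin (1 + 1) // j ≠ 1}) : Fin (1 + 1)) = Fin.rev 1 := rfl
      have h2 : (Fin.rev 1 : Fin (1 + 1)) = 0 := by decide
      have h3 := chartPoly_y k 1
      rw [h2] at h3 h1
      rw [h1, h3, Polynomial.toLaurent_X, LaurentPolynomial.invert_T, res1_z, hz]
  have h := congrArg (fun φ : MvPolynomial {j : Fin (1 + 1) // j ≠ 1} k →+* LaurentPolynomial k =>
    φ ((Θ 1 k 1).symm b)) key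
  simpa using h

/-- Birkhoff factorisation for matrices of functions on the overlap of the two charts -/
theorem birkhoff_chart {r : ℕ}
    (hBK : ∀ G : Matrix (Fin r) (Fin r) (LaurentPolynomial k), IsUnit G →
      ∃ (P Q : Matrix (Fin r) (Fin r) k[X]) (d : Fin r → ℤ), IsUnit P ∧ IsUnit Q ∧ Antitone d ∧
        (Q.map (fun q => LaurentPolynomial.invert (Polynomial.toLaurent q))) * G =
          Matrix.diagonal (fun i => LaurentPolynomial.T (d i)) * P.map Polynomial.toLaurent)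
    (g : Matrix (Fin r) (Fin r) Γ(Proj (CohB1.polyGrading 1 k), U 1 k 0 ⊓ U 1 k 1))
    (hg : IsUnit g) :
    ∃ (P0 : Matrix (Fin r) (Fin r) Γ(Proj (CohB1.polyGrading 1 k), U 1 k 0))
      (Q1 : Matrix (Fin r) (Fin r) Γ(Proj (CohB1.polyGrading 1 k), U 1 k 1)) (d : Fin r → ℤ),
      IsUnit P0 ∧ IsUnit Q1 ∧ Antitone d ∧
      Q1.map (res1 k) * g = Matrix.diagonal (fun i => zfrac (CohB1.polyGrading 1 k)
        (U 1 k 0 ⊓ U 1 k 1) (hT 1 k 0) (hT 1 k 1) inf_le_left inf_le_right (d i)) *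
        P0.map (res0 k) := by
  obtain ⟨τ, h0, hz⟩ := exists_transport k
  have h1 := transport_res1 k τ h0 hz
  have hG : IsUnit (τ.toRingHom.mapMatrix g) := hg.map _
  obtain ⟨P, Q, d, hP, hQ, hd, hPQ⟩ := hBK _ hG
  refine ⟨(chartPoly k 0).symm.toRingHom.mapMatrix P, (chartPoly k 1).symm.toRingHom.mapMatrix Q,
    d, hP.map _, hQ.map _, hd, ?_⟩
  apply Matrix.map_injective τ.injective
  show Matrix.map _ (⇑τ) = Matrix.map _ (⇑τ)
  rw [Matrix.map_mul, Matrix.map_mul]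
  have e1 : (((chartPoly k 1).symm.toRingHom.mapMatrix Q).map (res1 k)).map
      (⇑τ) =
      Q.map (fun q => LaurentPolynomial.invert (Polynomial.toLaurent q)) := by
    refine Matrix.ext (fun i j => ?_)
    show τ (res1 k ((chartPoly k 1).symm (Q i j))) = _
    rw [h1, RingEquiv.apply_symm_apply]
    rfl
  have e2 : (((chartPoly k 0).symm.toRingHom.mapMatrix P).map (res0 k)).map
      (⇑τ) = P.map Polynomial.toLaurent := by
    refine Matrix.ext (fun i j => ?_)
    show τ (res0 k ((chartPoly k 0).symm (P i j))) = _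
    rw [h0, RingEquiv.apply_symm_apply]
    rfl
  have e3 : (Matrix.diagonal (fun i => zfrac (CohB1.polyGrading 1 k)
      (U 1 k 0 ⊓ U 1 k 1) (hT 1 k 0) (hT 1 k 1) inf_le_left inf_le_right (d i))).map
      (⇑τ) = Matrix.diagonal (fun i => LaurentPolynomial.T (d i)) := by
    rw [Matrix.diagonal_map (map_zero _)]
    congr 1
    funext i
    exact hz (d i)
  rw [e1, e2, e3]
  exact hPQ

end Groth.Agent.H88.P1Transport
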