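import Groth.Agent.H88.Frame
import Groth.Agent.H88.P1Transport

/-!
# Grothendieck's splitting theorem on `P^1_k`: assembly from the pieces
-/

set_option autoImplicit false
universe u

noncomputable section

namespace Groth.Agent.H88.P1Split

open CategoryTheory CategoryTheory.Limits AlgebraicGeometry Opposite TopologicalSpace Polynomial
open Groth.Agent.H8 (res_res res_smul app_res)
open Groth.Agent.H18.Serre
open Groth.Agent.H18.TensorGen (IsGen)
open Groth.Agent.H18.ProjUPSym Groth.Agent.H18.ProjUPUniq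
open Groth.Agent.H88.TwistGenN Groth.Agent.H88.MonoFrac Groth.Agent.H88.ProjChart
open Groth.Agent.H88.PicPn Groth.Agent.H88.Frame Groth.Agent.H88.P1Transport

section Glue

variable (n : ℕ) (k : Type u) [Field k]

/-- frames on the standard charts with diagonal transition functions `(X_j'/X_j)^(d i)` glue to an
isomorphism with a sum of twists -/
theorem exists_iso_coprod {r : ℕ} (E : (Proj (CohB1.polyGrading n k)).Modules)
    (hG1 : ∀ (L : Fin r → (Proj (CohB1.polyGrading n k)).Modules) (φ : ∀ i, L i ⟶ E)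
      (lam : ∀ (j : Fin (n + 1)) (i : Fin r), Γ(L i, U n k j)),
      (∀ j i, IsGen (L i) (U n k j) (lam j i)) →
      (∀ j, IsFrame E (U n k j) (fun i => (φ i).app (U n k j) (lam j i))) →
      IsIso (Sigma.desc φ))
    (d : Fin r → ℤ) (e : ∀ j : Fin (n + 1), Fin r → Γ(E, U n k j))
    (he : ∀ j, IsFrame E (U n k j) (e j))
    (htr : ∀ i j j', E.presheaf.map
        (homOfLE (inf_le_right : U n k j ⊓ U n k j' ≤ U n k j')).op (e j' i) =
      uN (CohB1.polyGrading n k) (hT n k j) (hT n k j') (d i) •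
        E.presheaf.map (homOfLE (inf_le_left : U n k j ⊓ U n k j' ≤ U n k j)).op (e j i)) :
    Nonempty (E ≅ ∐ fun i => Twist.twist (CohB1.polyGrading n k) (d i)) := by
  have hcoh : ∀ i, Groth.Agent.H18.HomOfGens.Coh (U n k)
      (fun j => αN (CohB1.polyGrading n k) (hT n k j) (d i)) (fun j => e j i) := fun i =>
    Groth.Agent.H18.HomOfGens.coh_of_transition
      (A := Twist.twist (CohB1.polyGrading n k) (d i)) (C := E) (D := U n k)
      (α := fun j => αN (CohB1.polyGrading n k) (hT n k j) (d i)) (γ := fun j => e j i)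
      (fun j => isGen_αN (CohB1.polyGrading n k) (hT n k j) (d i))
      (fun j j' => uN (CohB1.polyGrading n k) (hT n k j) (hT n k j') (d i))
      (fun j j' => αN_res (CohB1.polyGrading n k) (hT n k j) (hT n k j') (d i))
      (fun j j' => htr i j j')
  choose φ hφ using fun i => Groth.Agent.H18.HomOfGens.exists_hom_of_gens
    (Groth.Agent.H18.ProjUPData.Dp_cover n k)
    (fun j => isGen_αN (CohB1.polyGrading n k) (hT n k j) (d i)) (hcoh i)
  haveI := hG1 (fun i => Twist.twist (CohB1.polyGrading n k) (d i)) φ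
    (fun j i => αN (CohB1.polyGrading n k) (hT n k j) (d i))
    (fun j i => isGen_αN (CohB1.polyGrading n k) (hT n k j) (d i)) (fun j => by
      have h : (fun i => (φ i).app (U n k j) (αN (CohB1.polyGrading n k) (hT n k j) (d i))) =
          e j := funext (fun i => hφ i j)
      rw [h]
      exact he j)
  exact ⟨(asIso (Sigma.desc φ)).symm⟩

end Glue

section P1

variable (k : Type u) [Field k]

theorem exists_splitting (r : ℕ) (E : (Proj (CohB1.polyGrading 1 k)).Modules)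
    (hfr : ∀ j : Fin (1 + 1), ∃ μ : Fin r → Γ(E, U 1 k j), IsFrame E (U 1 k j) μ)
    (hP2a : ∀ (V : (Proj (CohB1.polyGrading 1 k)).Opens) (μ : Fin r → Γ(E, V)), IsFrame E V μ →
      ∀ P : Matrix (Fin r) (Fin r) Γ(Proj (CohB1.polyGrading 1 k), V), IsUnit P →
        IsFrame E V (fun i => ∑ j, P i j • μ j))
    (hP2b : ∀ (μ : Fin r → Γ(E, U 1 k 0)) (ν : Fin r → Γ(E, U 1 k 1)), IsFrame E (U 1 k 0) μ →
      IsFrame E (U 1 k 1) ν →
      ∃ g : Matrix (Fin r) (Fin r) Γ(Proj (CohB1.polyGrading 1 k), U 1 k 0 ⊓ U 1 k 1),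
        IsUnit g ∧ ∀ i, E.presheaf.map
          (homOfLE (inf_le_right : U 1 k 0 ⊓ U 1 k 1 ≤ U 1 k 1)).op (ν i) =
          ∑ j, g i j • E.presheaf.map
            (homOfLE (inf_le_left : U 1 k 0 ⊓ U 1 k 1 ≤ U 1 k 0)).op (μ j))
    (hBK : ∀ G : Matrix (Fin r) (Fin r) (LaurentPolynomial k), IsUnit G →
      ∃ (P Q : Matrix (Fin r) (Fin r) k[X]) (d : Fin r → ℤ), IsUnit P ∧ IsUnit Q ∧ Antitone d ∧
        (Q.map (fun q => LaurentPolynomial.invert (Polynomial.toLaurent q))) * G =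
          Matrix.diagonal (fun i => LaurentPolynomial.T (d i)) * P.map Polynomial.toLaurent)
    (hG1 : ∀ (L : Fin r → (Proj (CohB1.polyGrading 1 k)).Modules) (φ : ∀ i, L i ⟶ E)
      (lam : ∀ (j : Fin (1 + 1)) (i : Fin r), Γ(L i, U 1 k j)),
      (∀ j i, IsGen (L i) (U 1 k j) (lam j i)) →
      (∀ j, IsFrame E (U 1 k j) (fun i => (φ i).app (U 1 k j) (lam j i))) →
      IsIso (Sigma.desc φ)) :
    ∃ d : Fin r → ℤ, Antitone d ∧
      Nonempty (E ≅ ∐ fun i => Twist.twist (CohB1.polyGrading 1 k) (d i)) := by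
  obtain ⟨e0, he0⟩ := hfr 0
  obtain ⟨e1, he1⟩ := hfr 1
  obtain ⟨g, hg, hgt⟩ := hP2b e0 e1 he0 he1
  obtain ⟨P0, Q1, d, hP0, hQ1, hd, hfac⟩ := birkhoff_chart k hBK g hg
  have he0' := hP2a _ e0 he0 P0 hP0
  have he1' := hP2a _ e1 he1 Q1 hQ1
  -- the diagonal transition relation
  have key : ∀ i, E.presheaf.map
      (homOfLE (inf_le_right : U 1 k 0 ⊓ U 1 k 1 ≤ U 1 k 1)).op (∑ j, Q1 i j • e1 j) =
      zfrac (CohB1.polyGrading 1 k) (U 1 k 0 ⊓ U 1 k 1) (hT 1 k 0) (hT 1 k 1) inf_le_left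
        inf_le_right (d i) • E.presheaf.map
        (homOfLE (inf_le_left : U 1 k 0 ⊓ U 1 k 1 ≤ U 1 k 0)).op (∑ j, P0 i j • e0 j) := by
    intro i
    rw [map_sum, map_sum, Finset.smul_sum]
    have hL : ∀ a ∈ (Finset.univ : Finset (Fin r)), E.presheaf.map
        (homOfLE (inf_le_right : U 1 k 0 ⊓ U 1 k 1 ≤ U 1 k 1)).op (Q1 i a • e1 a) =
        ∑ b, (res1 k (Q1 i a) * g a b) • E.presheaf.map
          (homOfLE (inf_le_left : U 1 k 0 ⊓ U 1 k 1 ≤ U 1 k 0)).op (e0 b) := by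
      intro a _
      rw [res_smul, hgt a, Finset.smul_sum]
      refine Finset.sum_congr rfl (fun b _ => ?_)
      rw [← mul_smul]
    rw [Finset.sum_congr rfl hL, Finset.sum_comm]
    refine Finset.sum_congr rfl (fun b _ => ?_)
    rw [← Finset.sum_smul, res_smul, ← mul_smul]
    congr 1
    have h1 := congrFun (congrFun hfac i) b
    rw [Matrix.mul_apply, Matrix.diagonal_mul] at h1
    exact h1
  obtain ⟨e', he'0, he'1⟩ : ∃ e' : ∀ j : Fin (1 + 1), Fin r → Γ(E, U 1 k j),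
      e' 0 = (fun i => ∑ j, P0 i j • e0 j) ∧ e' 1 = (fun i => ∑ j, Q1 i j • e1 j) :=
    ⟨fun j => Fin.cases (motive := fun j : Fin (1 + 1) => Fin r → Γ(E, U 1 k j))
      (fun i => ∑ j, P0 i j • e0 j)
      (fun j' => Fin.cases (motive := fun j' : Fin (0 + 1) => Fin r → Γ(E, U 1 k j'.succ))
        (fun i => ∑ j, Q1 i j • e1 j) (fun j'' => j''.elim0) j') j, rfl, rfl⟩
  have hfr' : ∀ j, IsFrame E (U 1 k j) (e' j) := by
    rw [Fin.forall_fin_two]
    exact ⟨by rw [he'0]; exact he0', by rw [he'1]; exact he1'⟩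
  have htr : ∀ i j j', E.presheaf.map
      (homOfLE (inf_le_right : U 1 k j ⊓ U 1 k j' ≤ U 1 k j')).op (e' j' i) =
      uN (CohB1.polyGrading 1 k) (hT 1 k j) (hT 1 k j') (d i) •
        E.presheaf.map (homOfLE (inf_le_left : U 1 k j ⊓ U 1 k j' ≤ U 1 k j)).op (e' j i) := by
    intro i
    rw [Fin.forall_fin_two]
    constructor
    · rw [Fin.forall_fin_two]
      constructor
      · rw [uN_eq_zfrac, zfrac_same, one_smul]
      · rw [uN_eq_zfrac, he'0, he'1]
        exact key i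
    · rw [Fin.forall_fin_two]
      constructor
      · rw [uN_eq_zfrac, he'0, he'1]
        have h1 := congrArg (E.presheaf.map (homOfLE
          (le_inf inf_le_right inf_le_left : U 1 k 1 ⊓ U 1 k 0 ≤ U 1 k 0 ⊓ U 1 k 1)).op) (key i)
        rw [res_res, res_smul, res_res] at h1
        have h2 : E.presheaf.map
            (homOfLE (inf_le_left : U 1 k 1 ⊓ U 1 k 0 ≤ U 1 k 1)).op (∑ j, Q1 i j • e1 j) =
            zfrac (CohB1.polyGrading 1 k) (U 1 k 1 ⊓ U 1 k 0) (hT 1 k 0) (hT 1 k 1) inf_le_right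
              inf_le_left (d i) • E.presheaf.map
            (homOfLE (inf_le_right : U 1 k 1 ⊓ U 1 k 0 ≤ U 1 k 0)).op (∑ j, P0 i j • e0 j) := h1
        rw [h2, ← mul_smul, zfrac_swap, one_smul]
      · rw [uN_eq_zfrac, zfrac_same, one_smul]
  exact ⟨d, hd, exists_iso_coprod 1 k E hG1 d e' hfr' htr⟩

theorem unique_splitting {r : ℕ} (d d' : Fin r → ℤ) (hd : Antitone d) (hd' : Antitone d')
    (e : (∐ fun i => Twist.twist (CohB1.polyGrading 1 k) (d i)) ≅
      ∐ fun i => Twist.twist (CohB1.polyGrading 1 k) (d' i))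
    (hU2 : ∀ (d d' : Fin r → ℤ), ((∐ fun i => Twist.twist (CohB1.polyGrading 1 k) (d i)) ≅
      ∐ fun i => Twist.twist (CohB1.polyGrading 1 k) (d' i)) → ∀ t : ℤ,
      (Finset.univ.filter (fun i => t ≤ d i)).card ≤ (Finset.univ.filter (fun i => t ≤ d' i)).card)
    (hU3 : ∀ (d d' : Fin r → ℤ), Antitone d → Antitone d' → (∀ t : ℤ,
      (Finset.univ.filter (fun i => t ≤ d i)).card =
        (Finset.univ.filter (fun i => t ≤ d' i)).card) → d = d') : d = d' :=
  hU3 d d' hd hd' (fun t => le_antisymm (hU2 d d' e t) (hU2 d' d e.symm t))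

end P1

end Groth.Agent.H88.P1Split
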