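import Mathlib
import Groth.Prelude.Def_W4c5modbuncurvesppStab

set_option autoImplicit false
universe u

namespace Groth.Agent.H88.PhiStabLib

open PhiStab

section graph
variable {V E : Type u} [Fintype V] [Fintype E] [DecidableEq V] [DecidableEq E]
variable {ends : E → V × V}

/-- adjacency inside a vertex set -/
def RelIn (ends : E → V × V) (S : Finset V) (a b : V) : Prop :=
  a ∈ S ∧ b ∈ S ∧ LabGraph.Adj ends a b

/-- the subgraph induced on `S` is connected (formulated without subtypes) -/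
def ConnOn (ends : E → V × V) (S : Finset V) : Prop :=
  S.Nonempty ∧ ∀ x ∈ S, ∀ y ∈ S, Relation.ReflTransGen (RelIn ends S) x y

lemma adj_symm {a b : V} (h : LabGraph.Adj ends a b) : LabGraph.Adj ends b a := by
  obtain ⟨e, he⟩ := h
  exact ⟨e, he.symm⟩

lemma relIn_symm {S : Finset V} {a b : V} (h : RelIn ends S a b) : RelIn ends S b a :=
  ⟨h.2.1, h.1, adj_symm h.2.2⟩

lemma rtg_symm {S : Finset V} {a b : V} (h : Relation.ReflTransGen (RelIn ends S) a b) :
    Relation.ReflTransGen (RelIn ends S) b a := by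
  induction h with
  | refl => exact Relation.ReflTransGen.refl
  | tail _ hbc ih => exact Relation.ReflTransGen.head (relIn_symm hbc) ih

lemma relIn_mono {S S' : Finset V} (h : S ⊆ S') {a b : V} (hab : RelIn ends S a b) :
    RelIn ends S' a b := ⟨h hab.1, h hab.2.1, hab.2.2⟩

lemma rtg_map {α : Type*} {r p : α → α → Prop} (h : ∀ a b, r a b → p a b) {a b : α}
    (hab : Relation.ReflTransGen r a b) : Relation.ReflTransGen p a b := by
  induction hab with
  | refl => exact Relation.ReflTransGen.refl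
  | tail _ hbc ih => exact ih.tail (h _ _ hbc)

lemma rtg_mono {S S' : Finset V} (h : S ⊆ S') {a b : V}
    (hab : Relation.ReflTransGen (RelIn ends S) a b) :
    Relation.ReflTransGen (RelIn ends S') a b :=
  rtg_map (fun _ _ => relIn_mono h) hab

lemma first_exit {α : Type*} {r : α → α → Prop} {P : α → Prop} {x y : α}
    (h : Relation.ReflTransGen r x y) (hx : P x) (hy : ¬ P y) :
    ∃ a b, r a b ∧ P a ∧ ¬ P b := by
  induction h with
  | refl => exact absurd hx hy
  | @tail b c _ hbc ih =>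
    by_cases hb : P b
    · exact ⟨b, c, hbc, hb, hy⟩
    · exact ih hb

open Classical in
/-- the connected component of `s₀` inside `S` -/
noncomputable def cls (ends : E → V × V) (S : Finset V) (s₀ : V) : Finset V :=
  S.filter (fun y => Relation.ReflTransGen (RelIn ends S) s₀ y)

lemma mem_cls {S : Finset V} {s₀ y : V} :
    y ∈ cls ends S s₀ ↔ y ∈ S ∧ Relation.ReflTransGen (RelIn ends S) s₀ y := by
  classical
  simp [cls]

lemma cls_subset {S : Finset V} {s₀ : V} : cls ends S s₀ ⊆ S := fun _ hy => (mem_cls.1 hy).1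

lemma self_mem_cls {S : Finset V} {s₀ : V} (h : s₀ ∈ S) : s₀ ∈ cls ends S s₀ :=
  mem_cls.2 ⟨h, Relation.ReflTransGen.refl⟩

lemma cls_closed {S : Finset V} {s₀ a b : V} (ha : a ∈ cls ends S s₀) (hb : b ∈ S)
    (hab : LabGraph.Adj ends a b) : b ∈ cls ends S s₀ :=
  mem_cls.2 ⟨hb, (mem_cls.1 ha).2.tail ⟨(mem_cls.1 ha).1, hb, hab⟩⟩

lemma connOn_cls {S : Finset V} {s₀ : V} (h : s₀ ∈ S) : ConnOn ends (cls ends S s₀) := by
  refine ⟨⟨s₀, self_mem_cls h⟩, ?_⟩
  have key : ∀ y, Relation.ReflTransGen (RelIn ends S) s₀ y →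
      Relation.ReflTransGen (RelIn ends (cls ends S s₀)) s₀ y := by
    intro y hy
    induction hy with
    | refl => exact Relation.ReflTransGen.refl
    | @tail b c hab hbc ih =>
      have hb : b ∈ cls ends S s₀ := mem_cls.2 ⟨hbc.1, hab⟩
      have hc : c ∈ cls ends S s₀ := mem_cls.2 ⟨hbc.2.1, hab.tail hbc⟩
      exact ih.tail ⟨hb, hc, hbc.2.2⟩
  intro x hx y hy
  exact (rtg_symm (key x (mem_cls.1 hx).2)).trans (key y (mem_cls.1 hy).2)

lemma connOn_singleton (u : V) : ConnOn ends {u} := by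
  refine ⟨⟨u, Finset.mem_singleton_self u⟩, ?_⟩
  intro x hx y hy
  rw [Finset.mem_singleton] at hx hy
  subst hx
  subst hy
  exact Relation.ReflTransGen.refl

lemma connOn_insert {S : Finset V} (hS : ConnOn ends S) {s w : V} (hs : s ∈ S)
    (hsw : LabGraph.Adj ends s w) : ConnOn ends (insert w S) := by
  have hsub : S ⊆ insert w S := Finset.subset_insert w S
  have hstep : Relation.ReflTransGen (RelIn ends (insert w S)) s w :=
    Relation.ReflTransGen.single ⟨hsub hs, Finset.mem_insert_self w S, hsw⟩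
  have hto_s : ∀ x ∈ insert w S, Relation.ReflTransGen (RelIn ends (insert w S)) x s := by
    intro x hx
    rcases Finset.mem_insert.1 hx with h | h
    · rw [h]; exact rtg_symm hstep
    · exact rtg_mono hsub (hS.2 x h s hs)
  exact ⟨⟨w, Finset.mem_insert_self w S⟩,
    fun x hx y hy => (hto_s x hx).trans (rtg_symm (hto_s y hy))⟩

lemma exists_split {U : Finset V} (hU : ConnOn ends U) (h2 : 2 ≤ U.card) :
    ∃ S ⊆ U, S.Nonempty ∧ S ≠ U ∧ ConnOn ends S ∧ ConnOn ends (U \ S) := by
  classical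
  obtain ⟨u, hu⟩ := hU.1
  have hne : (U.powerset.filter (fun S => S.Nonempty ∧ S ≠ U ∧ ConnOn ends S)).Nonempty := by
    refine ⟨{u}, ?_⟩
    simp only [Finset.mem_filter, Finset.mem_powerset, Finset.singleton_subset_iff]
    refine ⟨hu, Finset.singleton_nonempty u, ?_, connOn_singleton u⟩
    intro h
    rw [← h, Finset.card_singleton] at h2
    omega
  obtain ⟨S, hSmem, hmax⟩ := Finset.exists_max_image _ Finset.card hne
  simp only [Finset.mem_filter, Finset.mem_powerset] at hSmem
  obtain ⟨hSU, hSne, hSneU, hSconn⟩ := hSmem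
  obtain ⟨t, ht⟩ : (U \ S).Nonempty := by
    rw [Finset.nonempty_iff_ne_empty, Ne, Finset.sdiff_eq_empty_iff_subset]
    exact fun h => hSneU (Finset.Subset.antisymm hSU h)
  obtain ⟨s, hs⟩ := hSne
  have hchain := hU.2 s (hSU hs) t (Finset.mem_sdiff.1 ht).1
  obtain ⟨a, w, haw, haS, hwS⟩ :=
    first_exit (P := fun x => x ∈ S) hchain hs (Finset.mem_sdiff.1 ht).2
  have hwU : w ∈ U := haw.2.1
  have hconn' : ConnOn ends (insert w S) := connOn_insert hSconn haS haw.2.2
  have hins : insert w S = U := by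
    by_contra hneq
    have hmem : insert w S ∈ U.powerset.filter (fun S => S.Nonempty ∧ S ≠ U ∧ ConnOn ends S) := by
      simp only [Finset.mem_filter, Finset.mem_powerset]
      exact ⟨Finset.insert_subset hwU hSU, Finset.insert_nonempty w S, hneq, hconn'⟩
    have h3 := hmax _ hmem
    rw [Finset.card_insert_of_notMem hwS] at h3
    omega
  refine ⟨S, hSU, ⟨s, hs⟩, hSneU, hSconn, ?_⟩
  have hsd : U \ S = {w} := by
    rw [← hins]
    ext x
    simp only [Finset.mem_sdiff, Finset.mem_insert, Finset.mem_singleton]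
    constructor
    · rintro ⟨h1 | h1, h2⟩
      · exact h1
      · exact absurd h1 h2
    · intro h1
      rw [h1]
      exact ⟨Or.inl rfl, hwS⟩
  rw [hsd]
  exact connOn_singleton w

lemma exists_cross_edge {U S : Finset V} (hU : ConnOn ends U) (hSU : S ⊆ U) (hS : S.Nonempty)
    (hS' : (U \ S).Nonempty) :
    ∃ v₀ ∈ S, ∃ w₀ ∈ U \ S, ∃ e₀ : E, ends e₀ = (v₀, w₀) ∨ ends e₀ = (w₀, v₀) := by
  obtain ⟨s, hs⟩ := hS
  obtain ⟨t, ht⟩ := hS'
  have hchain := hU.2 s (hSU hs) t (Finset.mem_sdiff.1 ht).1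
  obtain ⟨a, w, haw, haS, hwS⟩ :=
    first_exit (P := fun x => x ∈ S) hchain hs (Finset.mem_sdiff.1 ht).2
  obtain ⟨e, he⟩ := haw.2.2
  exact ⟨a, haS, w, Finset.mem_sdiff.2 ⟨haw.2.1, hwS⟩, e, he⟩

lemma connOn_union_closed {S T : Finset V}
    (hG : ∀ x y : V, Relation.ReflTransGen (LabGraph.Adj ends) x y) (hS : ConnOn ends S)
    (hTS : ∀ x ∈ T, x ∉ S)
    (hcl : ∀ x ∈ T, ∀ y, y ∉ S → LabGraph.Adj ends x y → y ∈ T) : ConnOn ends (S ∪ T) := by
  obtain ⟨s₀, hs₀⟩ := hS.1
  have hsub : S ⊆ S ∪ T := Finset.subset_union_left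
  have key : ∀ x, Relation.ReflTransGen (LabGraph.Adj ends) x s₀ → x ∈ T →
      Relation.ReflTransGen (RelIn ends (S ∪ T)) x s₀ := by
    intro x hx
    induction hx using Relation.ReflTransGen.head_induction_on with
    | refl => intro h; exact absurd hs₀ (hTS _ h)
    | @head a b hab _ ih =>
      intro ha
      by_cases hb : b ∈ S
      · exact Relation.ReflTransGen.head ⟨Finset.mem_union_right S ha, hsub hb, hab⟩
          (rtg_mono hsub (hS.2 b hb s₀ hs₀))
      · have hbT := hcl a ha b hb hab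
        exact Relation.ReflTransGen.head
          ⟨Finset.mem_union_right S ha, Finset.mem_union_right S hbT, hab⟩ (ih hbT)
  have hto : ∀ x ∈ S ∪ T, Relation.ReflTransGen (RelIn ends (S ∪ T)) x s₀ := by
    intro x hx
    rcases Finset.mem_union.1 hx with h | h
    · exact rtg_mono hsub (hS.2 x h s₀ hs₀)
    · exact key x (hG x s₀) h
  exact ⟨⟨s₀, hsub hs₀⟩, fun x hx y hy => (hto x hx).trans (rtg_symm (hto y hy))⟩

lemma connOn_univ (hconn : LabGraph.Connected ends) : ConnOn ends Finset.univ := by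
  obtain ⟨⟨v⟩, hall⟩ := hconn
  refine ⟨⟨v, Finset.mem_univ v⟩, fun x _ y _ => ?_⟩
  exact rtg_map (fun a b h => ⟨Finset.mem_univ a, Finset.mem_univ b, h⟩) (hall x y)

lemma connOn_of_connected_ind {S : Finset V} (h : LabGraph.Connected (indEnds ends S)) :
    ConnOn ends S := by
  obtain ⟨⟨⟨s, hs⟩⟩, hall⟩ := h
  refine ⟨⟨s, hs⟩, ?_⟩
  have key : ∀ (p q : {v : V // v ∈ S}),
      Relation.ReflTransGen (LabGraph.Adj (indEnds ends S)) p q →
      Relation.ReflTransGen (RelIn ends S) p.1 q.1 := by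
    intro p q hpq
    induction hpq with
    | refl => exact Relation.ReflTransGen.refl
    | @tail b c _ hbc ih =>
      refine ih.tail ⟨b.2, c.2, ?_⟩
      obtain ⟨e, he⟩ := hbc
      refine ⟨e.1, ?_⟩
      rcases he with he | he
      · left
        have h1 := congrArg (fun p => p.1.1) he
        have h2 := congrArg (fun p => p.2.1) he
        exact Prod.ext h1 h2
      · right
        have h1 := congrArg (fun p => p.1.1) he
        have h2 := congrArg (fun p => p.2.1) he
        exact Prod.ext h1 h2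
  intro x hx y hy
  exact key ⟨x, hx⟩ ⟨y, hy⟩ (hall ⟨x, hx⟩ ⟨y, hy⟩)

lemma connected_ind_of_connOn {S : Finset V} (h : ConnOn ends S) :
    LabGraph.Connected (indEnds ends S) := by
  obtain ⟨⟨s, hs⟩, hall⟩ := h
  refine ⟨⟨⟨s, hs⟩⟩, ?_⟩
  have key : ∀ x (hx : x ∈ S) y, Relation.ReflTransGen (RelIn ends S) x y →
      ∃ hy : y ∈ S, Relation.ReflTransGen (LabGraph.Adj (indEnds ends S)) ⟨x, hx⟩ ⟨y, hy⟩ := by
    intro x hx y hxy
    induction hxy with
    | refl => exact ⟨hx, Relation.ReflTransGen.refl⟩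
    | @tail b c _ hbc ih =>
      obtain ⟨hb, ihb⟩ := ih
      obtain ⟨_, hc, e, he⟩ := hbc
      have hein : e ∈ inner ends S := by
        simp only [PhiStab.inner, Finset.mem_filter, Finset.mem_univ, true_and]
        rcases he with he | he
        · rw [he]; exact ⟨hb, hc⟩
        · rw [he]; exact ⟨hc, hb⟩
      refine ⟨hc, ihb.tail ⟨⟨e, hein⟩, ?_⟩⟩
      rcases he with he | he
      · left
        exact Prod.ext (Subtype.ext (by simp [PhiStab.indEnds, he])) (Subtype.ext (by simp [PhiStab.indEnds, he]))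
      · right
        exact Prod.ext (Subtype.ext (by simp [PhiStab.indEnds, he])) (Subtype.ext (by simp [PhiStab.indEnds, he]))
  rintro ⟨x, hx⟩ ⟨y, hy⟩
  obtain ⟨_, h⟩ := key x hx y (hall x hx y hy)
  exact h

lemma isElementary_iff {S : Finset V} :
    IsElementary ends S ↔ ConnOn ends S ∧ ConnOn ends Sᶜ :=
  ⟨fun h => ⟨connOn_of_connected_ind h.1, connOn_of_connected_ind h.2⟩,
    fun h => ⟨connected_ind_of_connOn h.1, connected_ind_of_connOn h.2⟩⟩

/-! ### edge counts -/

/-- number of edges joining `X` and `Y` -/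
def crossE (ends : E → V × V) (X Y : Finset V) : ℕ :=
  (Finset.univ.filter (fun e : E =>
    ((ends e).1 ∈ X ∧ (ends e).2 ∈ Y) ∨ ((ends e).1 ∈ Y ∧ (ends e).2 ∈ X))).card

lemma crossE_comm (X Y : Finset V) : crossE ends X Y = crossE ends Y X := by
  unfold crossE
  congr 1
  ext e
  simp only [Finset.mem_filter, Finset.mem_univ, true_and]
  exact or_comm

lemma crossE_compl (T : Finset V) : crossE ends T Tᶜ = LabGraph.cut ends T := by
  unfold crossE LabGraph.cut
  congr 1
  ext e
  simp only [Finset.mem_filter, Finset.mem_univ, true_and, Finset.mem_compl]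

lemma crossE_empty_left (Y : Finset V) : crossE ends ∅ Y = 0 := by simp [crossE]

lemma crossE_empty_right (X : Finset V) : crossE ends X ∅ = 0 := by simp [crossE]

lemma crossE_union_right {X Y₁ Y₂ : Finset V} (hY : Disjoint Y₁ Y₂) (hX₁ : Disjoint X Y₁)
    (hX₂ : Disjoint X Y₂) :
    crossE ends X (Y₁ ∪ Y₂) = crossE ends X Y₁ + crossE ends X Y₂ := by
  unfold crossE
  rw [← Finset.card_union_of_disjoint]
  · congr 1
    ext e
    simp only [Finset.mem_filter, Finset.mem_univ, true_and, Finset.mem_union]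
    tauto
  · rw [Finset.disjoint_filter]
    intro e _ h1 h2
    rcases h1 with ⟨a1, a2⟩ | ⟨a1, a2⟩ <;> rcases h2 with ⟨b1, b2⟩ | ⟨b1, b2⟩
    · exact Finset.disjoint_left.1 hY a2 b2
    · exact Finset.disjoint_left.1 hX₂ a1 b1
    · exact Finset.disjoint_left.1 hX₁ b1 a1
    · exact Finset.disjoint_left.1 hY a1 b1

lemma crossE_union_left {X₁ X₂ Y : Finset V} (hX : Disjoint X₁ X₂) (h₁ : Disjoint X₁ Y)
    (h₂ : Disjoint X₂ Y) :
    crossE ends (X₁ ∪ X₂) Y = crossE ends X₁ Y + crossE ends X₂ Y := by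
  rw [crossE_comm, crossE_union_right hX h₁.symm h₂.symm, crossE_comm (ends := ends) Y X₁,
    crossE_comm (ends := ends) Y X₂]

lemma sum_crossE_singleton {X Y : Finset V} (h : Disjoint X Y) :
    ∑ v ∈ X, crossE ends {v} Y = crossE ends X Y := by
  induction X using Finset.induction_on with
  | empty => simp [crossE_empty_left]
  | insert a X' ha ih =>
    have hX'Y : Disjoint X' Y := Finset.disjoint_of_subset_left (Finset.subset_insert a X') h
    have haY : Disjoint ({a} : Finset V) Y := by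
      rw [Finset.disjoint_singleton_left]
      exact fun haY => Finset.disjoint_left.1 h (Finset.mem_insert_self a X') haY
    rw [Finset.sum_insert ha, ih hX'Y, Finset.insert_eq,
      crossE_union_left (Finset.disjoint_singleton_left.2 ha) haY hX'Y]

lemma inner_mono {S T : Finset V} (h : S ⊆ T) : inner ends S ⊆ inner ends T := by
  intro e he
  simp only [PhiStab.inner, Finset.mem_filter, Finset.mem_univ, true_and] at he ⊢
  exact ⟨h he.1, h he.2⟩

lemma inner_empty : inner ends (∅ : Finset V) = ∅ := by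
  ext e
  simp [PhiStab.inner]

lemma inner_univ : inner ends (Finset.univ : Finset V) = Finset.univ := by
  ext e
  simp [PhiStab.inner]

lemma inter_inner_of_subset {N₁ : Finset E} {S T : Finset V} (hN₁ : N₁ ⊆ inner ends S) :
    N₁ ∩ inner ends T = N₁ ∩ inner ends (T ∩ S) := by
  ext e
  simp only [Finset.mem_inter, PhiStab.inner, Finset.mem_filter, Finset.mem_univ, true_and]
  constructor
  · rintro ⟨h1, h2, h3⟩
    have h4 := hN₁ h1
    simp only [PhiStab.inner, Finset.mem_filter, Finset.mem_univ, true_and] at h4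
    exact ⟨h1, ⟨h2, h4.1⟩, ⟨h3, h4.2⟩⟩
  · rintro ⟨h1, ⟨h2, -⟩, ⟨h3, -⟩⟩
    exact ⟨h1, h2, h3⟩

/-- no edge joins `A \ B` and `B \ A` -/
def NoCross (ends : E → V × V) (A B : Finset V) : Prop :=
  ∀ e : E, ¬ (((ends e).1 ∈ A ∧ (ends e).1 ∉ B ∧ (ends e).2 ∈ B ∧ (ends e).2 ∉ A) ∨
    ((ends e).2 ∈ A ∧ (ends e).2 ∉ B ∧ (ends e).1 ∈ B ∧ (ends e).1 ∉ A))

lemma inner_inter (A B : Finset V) : inner ends (A ∩ B) = inner ends A ∩ inner ends B := by
  ext e
  simp only [PhiStab.inner, Finset.mem_filter, Finset.mem_univ, true_and, Finset.mem_inter]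
  tauto

lemma inner_union {A B : Finset V} (h : NoCross ends A B) :
    inner ends (A ∪ B) = inner ends A ∪ inner ends B := by
  ext e
  have := h e
  simp only [PhiStab.inner, Finset.mem_filter, Finset.mem_univ, true_and, Finset.mem_union]
  tauto

lemma cut_modular {A B : Finset V} (h : NoCross ends A B) :
    LabGraph.cut ends A + LabGraph.cut ends B =
      LabGraph.cut ends (A ∩ B) + LabGraph.cut ends (A ∪ B) := by
  unfold LabGraph.cut
  rw [← Finset.card_union_add_card_inter, ← Finset.card_union_add_card_inter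
    (Finset.univ.filter (fun e : E => ((ends e).1 ∈ A ∩ B ∧ (ends e).2 ∉ A ∩ B) ∨
      ((ends e).1 ∉ A ∩ B ∧ (ends e).2 ∈ A ∩ B)))]
  congr 1
  · congr 1
    ext e
    have := h e
    simp only [Finset.mem_union, Finset.mem_inter, Finset.mem_filter, Finset.mem_univ, true_and]
    tauto
  · congr 1
    ext e
    have := h e
    simp only [Finset.mem_union, Finset.mem_inter, Finset.mem_filter, Finset.mem_univ, true_and]
    tauto

lemma inner_card_modular {A B : Finset V} (N : Finset E) (h : NoCross ends A B) :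
    (N ∩ inner ends A).card + (N ∩ inner ends B).card =
      (N ∩ inner ends (A ∩ B)).card + (N ∩ inner ends (A ∪ B)).card := by
  rw [inner_inter, inner_union h, Finset.inter_inter_distrib_left N (inner ends A) (inner ends B),
    Finset.inter_union_distrib_left N (inner ends A) (inner ends B),
    ← Finset.card_union_add_card_inter (N ∩ inner ends A) (N ∩ inner ends B), add_comm]

/-- the slack of the stability inequality at `S` -/
noncomputable def Fv (ends : E → V × V) (φ : V → ℝ) (m : V → ℤ) (N : Finset E) (S : Finset V) : ℝ :=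
  (degOn ends m N S : ℝ) - (∑ v ∈ S, φ v) + (LabGraph.cut ends S : ℝ) / 2

lemma degOn_cast (m : V → ℤ) (N : Finset E) (S : Finset V) :
    (degOn ends m N S : ℝ) = (∑ v ∈ S, (m v : ℝ)) + ((N ∩ inner ends S).card : ℝ) := by
  simp [degOn]

lemma Fv_modular (φ : V → ℝ) (m : V → ℤ) (N : Finset E) {A B : Finset V}
    (h : NoCross ends A B) :
    Fv ends φ m N A + Fv ends φ m N B = Fv ends φ m N (A ∩ B) + Fv ends φ m N (A ∪ B) := by
  have h1 : ((LabGraph.cut ends A : ℝ)) + (LabGraph.cut ends B : ℝ) =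
      (LabGraph.cut ends (A ∩ B) : ℝ) + (LabGraph.cut ends (A ∪ B) : ℝ) := by
    exact_mod_cast cut_modular h
  have h2 : (((N ∩ inner ends A).card : ℝ)) + ((N ∩ inner ends B).card : ℝ) =
      ((N ∩ inner ends (A ∩ B)).card : ℝ) + ((N ∩ inner ends (A ∪ B)).card : ℝ) := by
    exact_mod_cast inner_card_modular N h
  have h3 := Finset.sum_union_inter (s₁ := A) (s₂ := B) (f := fun v => (m v : ℝ))
  have h4 := Finset.sum_union_inter (s₁ := A) (s₂ := B) (f := φ)
  simp only [Fv, degOn_cast]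
  linarith

lemma Fv_empty (φ : V → ℝ) (m : V → ℤ) (N : Finset E) : Fv ends φ m N ∅ = 0 := by
  simp [Fv, degOn_cast, inner_empty, LabGraph.cut]

lemma Fv_univ (φ : V → ℝ) (m : V → ℤ) (N : Finset E)
    (hdeg : (∑ v : V, φ v) = (totDeg m N : ℝ)) : Fv ends φ m N Finset.univ = 0 := by
  have h1 : (totDeg m N : ℝ) = (∑ v : V, (m v : ℝ)) + (N.card : ℝ) := by simp [totDeg]
  simp only [Fv, degOn_cast, inner_univ, Finset.inter_univ]
  have h2 : LabGraph.cut ends (Finset.univ : Finset V) = 0 := by simp [LabGraph.cut]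
  rw [h2, hdeg, h1]
  simp

lemma isSemistable_iff_Fv (φ : V → ℝ) (m : V → ℤ) (N : Finset E) :
    IsSemistable ends φ m N ↔ ∀ S : Finset V, S.Nonempty → S ≠ Finset.univ → 0 ≤ Fv ends φ m N S := by
  constructor
  · intro h S h1 h2
    have := h S h1 h2
    simp only [Fv]
    linarith
  · intro h S h1 h2
    have := h S h1 h2
    simp only [Fv] at this
    linarith

lemma isStable_iff_Fv (φ : V → ℝ) (m : V → ℤ) (N : Finset E) :
    IsStable ends φ m N ↔ ∀ S : Finset V, S.Nonempty → S ≠ Finset.univ → 0 < Fv ends φ m N S := by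
  constructor
  · intro h S h1 h2
    have := h S h1 h2
    simp only [Fv]
    linarith
  · intro h S h1 h2
    have := h S h1 h2
    simp only [Fv] at this
    linarith

/-- reduction of the stability inequalities to elementary sets -/
theorem elem_reduction (hconn : LabGraph.Connected ends) (φ : V → ℝ) (m : V → ℤ) (N : Finset E)
    (hdeg : (∑ v : V, φ v) = (totDeg m N : ℝ)) (P : ℝ → Prop)
    (hadd : ∀ x y, P x → P y → P (x + y))
    (hel : ∀ S : Finset V, ConnOn ends S → ConnOn ends Sᶜ → P (Fv ends φ m N S)) :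
    ∀ S : Finset V, S.Nonempty → S ≠ Finset.univ → P (Fv ends φ m N S) := by
  classical
  have hG := hconn.2
  -- connected sets
  have L1b : ∀ (n : ℕ) (S : Finset V), Sᶜ.card = n → ConnOn ends S → S ≠ Finset.univ →
      P (Fv ends φ m N S) := by
    intro n
    induction n using Nat.strong_induction_on with
    | _ n ih =>
      intro S hcard hS hSne
      by_cases hc : ConnOn ends Sᶜ
      · exact hel S hS hc
      · have hScne : Sᶜ.Nonempty := by
          rw [Finset.nonempty_iff_ne_empty, Ne, Finset.compl_eq_empty_iff]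
          exact hSne
        obtain ⟨x, hx, y, hy, hxy⟩ : ∃ x ∈ Sᶜ, ∃ y ∈ Sᶜ,
            ¬ Relation.ReflTransGen (RelIn ends Sᶜ) x y := by
          by_contra hcon
          apply hc
          refine ⟨hScne, fun x hx y hy => ?_⟩
          by_contra h
          exact hcon ⟨x, hx, y, hy, h⟩
        set T₁ := cls ends Sᶜ x with hT₁
        set T₂ := Sᶜ \ T₁ with hT₂
        have hxT₁ : x ∈ T₁ := self_mem_cls hx
        have hyT₁ : y ∉ T₁ := fun h => hxy (mem_cls.1 h).2
        have hyT₂ : y ∈ T₂ := Finset.mem_sdiff.2 ⟨hy, hyT₁⟩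
        have hT₁S : ∀ z ∈ T₁, z ∉ S := fun z hz => Finset.mem_compl.1 (cls_subset hz)
        have hT₂S : ∀ z ∈ T₂, z ∉ S := fun z hz => Finset.mem_compl.1 (Finset.mem_sdiff.1 hz).1
        have hcl₁ : ∀ a ∈ T₁, ∀ b, b ∉ S → LabGraph.Adj ends a b → b ∈ T₁ :=
          fun a ha b hb hab => cls_closed ha (Finset.mem_compl.2 hb) hab
        have hcl₂ : ∀ a ∈ T₂, ∀ b, b ∉ S → LabGraph.Adj ends a b → b ∈ T₂ := by
          intro a ha b hb hab
          refine Finset.mem_sdiff.2 ⟨Finset.mem_compl.2 hb, fun hbT₁ => ?_⟩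
          exact (Finset.mem_sdiff.1 ha).2 (hcl₁ b hbT₁ a (hT₂S a ha) (adj_symm hab))
        have hA : ConnOn ends (S ∪ T₁) := connOn_union_closed hG hS hT₁S hcl₁
        have hB : ConnOn ends (S ∪ T₂) := connOn_union_closed hG hS hT₂S hcl₂
        have hAB_inter : (S ∪ T₁) ∩ (S ∪ T₂) = S := by
          ext z
          simp only [Finset.mem_inter, Finset.mem_union, hT₂, Finset.mem_sdiff]
          constructor
          · rintro ⟨h1 | h1, h2 | h2⟩
            · exact h1
            · exact h1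
            · exact h2
            · exact absurd h1 h2.2
          · intro h; exact ⟨Or.inl h, Or.inl h⟩
        have hAB_union : (S ∪ T₁) ∪ (S ∪ T₂) = Finset.univ := by
          ext z
          simp only [Finset.mem_union, Finset.mem_univ, iff_true, hT₂, Finset.mem_sdiff,
            Finset.mem_compl]
          by_cases hz : z ∈ S
          · exact Or.inl (Or.inl hz)
          · by_cases hz1 : z ∈ T₁
            · exact Or.inl (Or.inr hz1)
            · exact Or.inr (Or.inr ⟨hz, hz1⟩)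
        have hnc : NoCross ends (S ∪ T₁) (S ∪ T₂) := by
          intro e he
          rcases he with ⟨h1, h2, h3, h4⟩ | ⟨h1, h2, h3, h4⟩
          · -- e.1 ∈ T₁, e.2 ∈ T₂
            have h1S : (ends e).1 ∉ S := fun h => h2 (Finset.mem_union_left _ h)
            have h1' : (ends e).1 ∈ T₁ := (Finset.mem_union.1 h1).resolve_left h1S
            have h3S : (ends e).2 ∉ S := fun h => h4 (Finset.mem_union_left _ h)
            exact h4 (Finset.mem_union_right _ (hcl₁ _ h1' _ h3S ⟨e, Or.inl rfl⟩))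
          · have h1S : (ends e).2 ∉ S := fun h => h2 (Finset.mem_union_left _ h)
            have h1' : (ends e).2 ∈ T₁ := (Finset.mem_union.1 h1).resolve_left h1S
            have h3S : (ends e).1 ∉ S := fun h => h4 (Finset.mem_union_left _ h)
            exact h4 (Finset.mem_union_right _ (hcl₁ _ h1' _ h3S ⟨e, Or.inr rfl⟩))
        have hmod := Fv_modular (ends := ends) φ m N hnc
        rw [hAB_inter, hAB_union, Fv_univ φ m N hdeg, add_zero] at hmod
        have hAne : S ∪ T₁ ≠ Finset.univ := by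
          intro h
          have := Finset.mem_univ y
          rw [← h, Finset.mem_union] at this
          rcases this with h' | h'
          · exact (Finset.mem_compl.1 hy) h'
          · exact hyT₁ h'
        have hBne : S ∪ T₂ ≠ Finset.univ := by
          intro h
          have := Finset.mem_univ x
          rw [← h, Finset.mem_union] at this
          rcases this with h' | h'
          · exact (Finset.mem_compl.1 hx) h'
          · exact (Finset.mem_sdiff.1 h').2 hxT₁
        have hAlt : (S ∪ T₁)ᶜ.card < n := by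
          rw [← hcard]
          apply Finset.card_lt_card
          refine ⟨?_, fun h => ?_⟩
          · intro z hz
            rw [Finset.mem_compl] at hz ⊢
            exact fun hzS => hz (Finset.mem_union_left _ hzS)
          · have := h hx
            rw [Finset.mem_compl] at this
            exact this (Finset.mem_union_right _ hxT₁)
        have hBlt : (S ∪ T₂)ᶜ.card < n := by
          rw [← hcard]
          apply Finset.card_lt_card
          refine ⟨?_, fun h => ?_⟩
          · intro z hz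
            rw [Finset.mem_compl] at hz ⊢
            exact fun hzS => hz (Finset.mem_union_left _ hzS)
          · have := h hy
            rw [Finset.mem_compl] at this
            exact this (Finset.mem_union_right _ hyT₂)
        have hPA := ih _ hAlt (S ∪ T₁) rfl hA hAne
        have hPB := ih _ hBlt (S ∪ T₂) rfl hB hBne
        rw [← hmod]
        exact hadd _ _ hPA hPB
  -- general sets
  have L1c : ∀ (n : ℕ) (S : Finset V), S.card = n → S.Nonempty → S ≠ Finset.univ →
      P (Fv ends φ m N S) := by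
    intro n
    induction n using Nat.strong_induction_on with
    | _ n ih =>
      intro S hcard hSne hSneU
      by_cases hc : ConnOn ends S
      · exact L1b _ S rfl hc hSneU
      · obtain ⟨x, hx, y, hy, hxy⟩ : ∃ x ∈ S, ∃ y ∈ S,
            ¬ Relation.ReflTransGen (RelIn ends S) x y := by
          by_contra hcon
          apply hc
          refine ⟨hSne, fun x hx y hy => ?_⟩
          by_contra h
          exact hcon ⟨x, hx, y, hy, h⟩
        set S₁ := cls ends S x with hS₁
        set S₂ := S \ S₁ with hS₂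
        have hxS₁ : x ∈ S₁ := self_mem_cls hx
        have hyS₁ : y ∉ S₁ := fun h => hxy (mem_cls.1 h).2
        have hyS₂ : y ∈ S₂ := Finset.mem_sdiff.2 ⟨hy, hyS₁⟩
        have hS₁sub : S₁ ⊆ S := cls_subset
        have hS₂sub : S₂ ⊆ S := Finset.sdiff_subset
        have hinter : S₁ ∩ S₂ = ∅ := by
          rw [← Finset.disjoint_iff_inter_eq_empty]
          exact Finset.disjoint_sdiff
        have hunion : S₁ ∪ S₂ = S := Finset.union_sdiff_of_subset hS₁sub
        have hnc : NoCross ends S₁ S₂ := by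
          intro e he
          rcases he with ⟨h1, _, h3, h4⟩ | ⟨h1, _, h3, h4⟩
          · exact h4 (cls_closed h1 (hS₂sub h3) ⟨e, Or.inl rfl⟩)
          · exact h4 (cls_closed h1 (hS₂sub h3) ⟨e, Or.inr rfl⟩)
        have hmod := Fv_modular (ends := ends) φ m N hnc
        rw [hinter, hunion, Fv_empty, zero_add] at hmod
        have hS₁ne : S₁ ≠ Finset.univ := fun h => hSneU (Finset.eq_univ_of_forall
          (fun z => hS₁sub (h ▸ Finset.mem_univ z)))
        have hS₂ne : S₂ ≠ Finset.univ := fun h => hSneU (Finset.eq_univ_of_forall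
          (fun z => hS₂sub (h ▸ Finset.mem_univ z)))
        have hP₁ := L1b _ S₁ rfl (connOn_cls hx) hS₁ne
        have hlt : S₂.card < n := by
          rw [← hcard]
          apply Finset.card_lt_card
          exact ⟨hS₂sub, fun h => (Finset.mem_sdiff.1 (h hx)).2 hxS₁⟩
        have hP₂ := ih _ hlt S₂ rfl ⟨y, hyS₂⟩ hS₂ne
        rw [← hmod]
        exact hadd _ _ hP₁ hP₂
  intro S h1 h2
  exact L1c _ S rfl h1 h2

/-! ### existence of semistable data -/

/-- relative semistability on `U`, for all subsets `T ⊆ U` -/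
def RelSS (ends : E → V × V) (U : Finset V) (ψ : V → ℝ) (m : V → ℤ) (N : Finset E) : Prop :=
  ∀ T ⊆ U, (∑ v ∈ T, ψ v) - (crossE ends T (U \ T) : ℝ) / 2 ≤
    (∑ v ∈ T, (m v : ℝ)) + ((N ∩ inner ends T).card : ℝ)

/-- every parameter with integral total on `U` admits a semistable datum -/
def HasSS (ends : E → V × V) (U : Finset V) : Prop :=
  ∀ (ψ : V → ℝ) (c : ℤ), (∑ v ∈ U, ψ v) = (c : ℝ) →
    ∃ (m : V → ℤ) (N : Finset E), N ⊆ inner ends U ∧ (∑ v ∈ U, m v) + (N.card : ℤ) = c ∧
      RelSS ends U ψ m N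

lemma glue {U S : Finset V} (hSU : S ⊆ U) {v₀ w₀ : V} (hv₀ : v₀ ∈ S) (hw₀ : w₀ ∈ U \ S) {e₀ : E}
    (he₀ : ends e₀ = (v₀, w₀) ∨ ends e₀ = (w₀, v₀)) (h1 : HasSS ends S) (h2 : HasSS ends (U \ S))
    (ψ : V → ℝ) (c : ℤ) (hc : (∑ v ∈ U, ψ v) = (c : ℝ)) :
    ∃ (m : V → ℤ) (N : Finset E), N ⊆ inner ends U ∧ (∑ v ∈ U, m v) + (N.card : ℤ) = c ∧
      RelSS ends U ψ m N ∧
      (∑ v ∈ S, m v) + ((N ∩ inner ends S).card : ℤ) =
        ⌊(∑ v ∈ S, ψ v) - (crossE ends S (U \ S) : ℝ) / 2⌋ + 1 := by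
  classical
  have hdisj : Disjoint S (U \ S) := Finset.disjoint_sdiff
  have hUeq : S ∪ (U \ S) = U := Finset.union_sdiff_of_subset hSU
  have hw₀U : w₀ ∈ U := (Finset.mem_sdiff.1 hw₀).1
  have hw₀S : w₀ ∉ S := (Finset.mem_sdiff.1 hw₀).2
  obtain ⟨g, hg⟩ : ∃ g : ℝ, g = (∑ v ∈ S, ψ v) - (crossE ends S (U \ S) : ℝ) / 2 := ⟨_, rfl⟩
  obtain ⟨η, hη⟩ : ∃ η : ℝ, η = ((⌊g⌋ + 1 : ℤ) : ℝ) - g := ⟨_, rfl⟩
  have hη0 : 0 < η := by
    have := Int.lt_floor_add_one g
    rw [hη]; push_cast; linarith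
  have hη1 : η ≤ 1 := by
    have := Int.floor_le g
    rw [hη]; push_cast; linarith
  -- the parameters on the two sides
  obtain ⟨ψ₁, hψ₁⟩ : ∃ ψ₁ : V → ℝ, ψ₁ = fun v =>
      ψ v - (crossE ends {v} (U \ S) : ℝ) / 2 + (if v = v₀ then η else 0) := ⟨_, rfl⟩
  obtain ⟨ψ₂, hψ₂⟩ : ∃ ψ₂ : V → ℝ, ψ₂ = fun w =>
      ψ w + (crossE ends {w} S : ℝ) / 2 - (if w = w₀ then η else 0) := ⟨_, rfl⟩
  have hsum1 : ∀ T ⊆ S, (∑ v ∈ T, ψ₁ v) =
      (∑ v ∈ T, ψ v) - (crossE ends T (U \ S) : ℝ) / 2 + (if v₀ ∈ T then η else 0) := by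
    intro T hT
    have hcs := sum_crossE_singleton (ends := ends) (Finset.disjoint_of_subset_left hT hdisj)
    have hcs' : (∑ v ∈ T, (crossE ends {v} (U \ S) : ℝ)) = (crossE ends T (U \ S) : ℝ) := by
      rw [← hcs]; push_cast; rfl
    rw [hψ₁]
    simp only []
    rw [Finset.sum_add_distrib, Finset.sum_sub_distrib, ← Finset.sum_div, hcs',
      Finset.sum_ite_eq']
  have hsum2 : ∀ T ⊆ U \ S, (∑ v ∈ T, ψ₂ v) =
      (∑ v ∈ T, ψ v) + (crossE ends T S : ℝ) / 2 - (if w₀ ∈ T then η else 0) := by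
    intro T hT
    have hcs := sum_crossE_singleton (ends := ends)
      (Finset.disjoint_of_subset_left hT hdisj.symm)
    have hcs' : (∑ v ∈ T, (crossE ends {v} S : ℝ)) = (crossE ends T S : ℝ) := by
      rw [← hcs]; push_cast; rfl
    rw [hψ₂]
    simp only []
    rw [Finset.sum_sub_distrib, Finset.sum_add_distrib, ← Finset.sum_div, hcs',
      Finset.sum_ite_eq']
  have hsplit : (∑ v ∈ U, ψ v) = (∑ v ∈ S, ψ v) + ∑ v ∈ U \ S, ψ v := by
    rw [← Finset.sum_union hdisj, hUeq]
  have htot1 : (∑ v ∈ S, ψ₁ v) = ((⌊g⌋ + 1 : ℤ) : ℝ) := by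
    rw [hsum1 S (Finset.Subset.refl S), if_pos hv₀]
    rw [hη, hg]; ring
  have htot2 : (∑ v ∈ U \ S, ψ₂ v) = ((c - (⌊g⌋ + 1) : ℤ) : ℝ) := by
    rw [hsum2 (U \ S) (Finset.Subset.refl _), if_pos hw₀, crossE_comm (ends := ends) (U \ S) S]
    have h3 : (∑ v ∈ U \ S, ψ v) = (c : ℝ) - ∑ v ∈ S, ψ v := by linarith
    rw [h3, hη, hg]; push_cast; ring
  obtain ⟨m₁, N₁, hN₁, hT₁, hss₁⟩ := h1 ψ₁ (⌊g⌋ + 1) htot1
  obtain ⟨m₂, N₂, hN₂, hT₂, hss₂⟩ := h2 ψ₂ (c - (⌊g⌋ + 1)) htot2
  -- membership helpers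
  have hN₁S : ∀ e ∈ N₁, (ends e).1 ∈ S ∧ (ends e).2 ∈ S := by
    intro e he
    have := hN₁ he
    simpa [PhiStab.inner] using this
  have hN₂S : ∀ e ∈ N₂, (ends e).1 ∈ U \ S ∧ (ends e).2 ∈ U \ S := by
    intro e he
    have := hN₂ he
    simpa [PhiStab.inner] using this
  have hNdisj : Disjoint N₁ N₂ := by
    rw [Finset.disjoint_left]
    intro e h1e h2e
    exact (Finset.mem_sdiff.1 (hN₂S e h2e).1).2 (hN₁S e h1e).1
  refine ⟨fun v => if v ∈ S then m₁ v else m₂ v, N₁ ∪ N₂, ?_, ?_, ?_, ?_⟩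
  · intro e he
    rcases Finset.mem_union.1 he with h | h
    · exact inner_mono hSU (hN₁ h)
    · exact inner_mono Finset.sdiff_subset (hN₂ h)
  · -- total degree
    have e1 : (∑ v ∈ S, (if v ∈ S then m₁ v else m₂ v)) = ∑ v ∈ S, m₁ v :=
      Finset.sum_congr rfl (fun v hv => if_pos hv)
    have e2 : (∑ v ∈ U \ S, (if v ∈ S then m₁ v else m₂ v)) = ∑ v ∈ U \ S, m₂ v :=
      Finset.sum_congr rfl (fun v hv => if_neg (Finset.mem_sdiff.1 hv).2)
    rw [← hUeq, Finset.sum_union hdisj, e1, e2, Finset.card_union_of_disjoint hNdisj]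
    push_cast
    linarith
  · -- semistability
    intro T hT
    have hT₁sub : T ∩ S ⊆ S := Finset.inter_subset_right
    have hT₂sub : T ∩ (U \ S) ⊆ U \ S := Finset.inter_subset_right
    have hTeq : (T ∩ S) ∪ (T ∩ (U \ S)) = T := by
      rw [← Finset.inter_union_distrib_left, hUeq]
      exact Finset.inter_eq_left.2 hT
    have hTdisj : Disjoint (T ∩ S) (T ∩ (U \ S)) :=
      Finset.disjoint_of_subset_left hT₁sub (Finset.disjoint_of_subset_right hT₂sub hdisj)
    have hcomp : U \ T = (S \ (T ∩ S)) ∪ ((U \ S) \ (T ∩ (U \ S))) := by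
      ext z
      simp only [Finset.mem_sdiff, Finset.mem_union, Finset.mem_inter]
      constructor
      · rintro ⟨hzU, hzT⟩
        by_cases hzS : z ∈ S
        · exact Or.inl ⟨hzS, fun h => hzT h.1⟩
        · exact Or.inr ⟨⟨hzU, hzS⟩, fun h => hzT h.1⟩
      · rintro (⟨hzS, hz⟩ | ⟨⟨hzU, hzS⟩, hz⟩)
        · exact ⟨hSU hzS, fun h => hz ⟨h, hzS⟩⟩
        · exact ⟨hzU, fun h => hz ⟨h, hzU, hzS⟩⟩
    -- disjointness facts
    have d1 : Disjoint (T ∩ S) (S \ (T ∩ S)) := Finset.disjoint_sdiff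
    have d2 : Disjoint (T ∩ S) ((U \ S) \ (T ∩ (U \ S))) :=
      Finset.disjoint_of_subset_left hT₁sub
        (Finset.disjoint_of_subset_right Finset.sdiff_subset hdisj)
    have d3 : Disjoint (T ∩ (U \ S)) (S \ (T ∩ S)) :=
      Finset.disjoint_of_subset_left hT₂sub
        (Finset.disjoint_of_subset_right Finset.sdiff_subset hdisj.symm)
    have d4 : Disjoint (T ∩ (U \ S)) ((U \ S) \ (T ∩ (U \ S))) := Finset.disjoint_sdiff
    have d5 : Disjoint (S \ (T ∩ S)) ((U \ S) \ (T ∩ (U \ S))) :=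
      Finset.disjoint_of_subset_left Finset.sdiff_subset
        (Finset.disjoint_of_subset_right Finset.sdiff_subset hdisj)
    -- decomposition of the cut
    have hcut : (crossE ends T (U \ T) : ℝ) =
        (crossE ends (T ∩ S) (S \ (T ∩ S)) : ℝ) +
        (crossE ends (T ∩ S) ((U \ S) \ (T ∩ (U \ S))) : ℝ) +
        (crossE ends (T ∩ (U \ S)) (S \ (T ∩ S)) : ℝ) +
        (crossE ends (T ∩ (U \ S)) ((U \ S) \ (T ∩ (U \ S))) : ℝ) := by
      have h3 : crossE ends T (U \ T) =
          crossE ends (T ∩ S) (S \ (T ∩ S)) +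
          crossE ends (T ∩ S) ((U \ S) \ (T ∩ (U \ S))) +
          (crossE ends (T ∩ (U \ S)) (S \ (T ∩ S)) +
          crossE ends (T ∩ (U \ S)) ((U \ S) \ (T ∩ (U \ S)))) := by
        have h0 : crossE ends T (U \ T) = crossE ends ((T ∩ S) ∪ (T ∩ (U \ S)))
            ((S \ (T ∩ S)) ∪ ((U \ S) \ (T ∩ (U \ S)))) := by
          rw [← hcomp, hTeq]
        rw [h0]
        rw [crossE_union_left hTdisj
          (Finset.disjoint_union_right.2 ⟨d1, d2⟩) (Finset.disjoint_union_right.2 ⟨d3, d4⟩),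
          crossE_union_right d5 d1 d2, crossE_union_right d5 d3 d4]
      rw [h3]; push_cast; ring
    -- cross edges from T₁ to S'
    have hc1 : (crossE ends (T ∩ S) (U \ S) : ℝ) =
        (crossE ends (T ∩ S) (T ∩ (U \ S)) : ℝ) +
        (crossE ends (T ∩ S) ((U \ S) \ (T ∩ (U \ S))) : ℝ) := by
      have h3 : crossE ends (T ∩ S) (U \ S) = crossE ends (T ∩ S) (T ∩ (U \ S)) +
          crossE ends (T ∩ S) ((U \ S) \ (T ∩ (U \ S))) := by
        have h0 : crossE ends (T ∩ S) (U \ S) = crossE ends (T ∩ S)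
            ((T ∩ (U \ S)) ∪ ((U \ S) \ (T ∩ (U \ S)))) := by
          rw [Finset.union_sdiff_of_subset hT₂sub]
        rw [h0]
        exact crossE_union_right Finset.disjoint_sdiff hTdisj d2
      rw [h3]; push_cast; ring
    have hc2 : (crossE ends (T ∩ (U \ S)) S : ℝ) =
        (crossE ends (T ∩ S) (T ∩ (U \ S)) : ℝ) +
        (crossE ends (T ∩ (U \ S)) (S \ (T ∩ S)) : ℝ) := by
      have h3 : crossE ends (T ∩ (U \ S)) S = crossE ends (T ∩ (U \ S)) (T ∩ S) +
          crossE ends (T ∩ (U \ S)) (S \ (T ∩ S)) := by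
        have h0 : crossE ends (T ∩ (U \ S)) S = crossE ends (T ∩ (U \ S))
            ((T ∩ S) ∪ (S \ (T ∩ S))) := by
          rw [Finset.union_sdiff_of_subset hT₁sub]
        rw [h0]
        exact crossE_union_right Finset.disjoint_sdiff hTdisj.symm d3
      rw [h3, crossE_comm (ends := ends) (T ∩ (U \ S)) (T ∩ S)]; push_cast; ring
    -- sums
    have hψsum : (∑ v ∈ T, ψ v) = (∑ v ∈ T ∩ S, ψ v) + ∑ v ∈ T ∩ (U \ S), ψ v := by
      rw [← Finset.sum_union hTdisj, hTeq]
    have hmsum : (∑ v ∈ T, (((if v ∈ S then m₁ v else m₂ v) : ℤ) : ℝ)) =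
        (∑ v ∈ T ∩ S, (m₁ v : ℝ)) + ∑ v ∈ T ∩ (U \ S), (m₂ v : ℝ) := by
      conv_lhs => rw [← hTeq]
      rw [Finset.sum_union hTdisj]
      congr 1
      · exact Finset.sum_congr rfl (fun v hv => by rw [if_pos (Finset.mem_inter.1 hv).2])
      · exact Finset.sum_congr rfl (fun v hv => by
          rw [if_neg (Finset.mem_sdiff.1 (Finset.mem_inter.1 hv).2).2])
    have hNcard : (((N₁ ∪ N₂) ∩ inner ends T).card : ℝ) =
        ((N₁ ∩ inner ends (T ∩ S)).card : ℝ) + ((N₂ ∩ inner ends (T ∩ (U \ S))).card : ℝ) := by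
      rw [Finset.union_inter_distrib_right, Finset.card_union_of_disjoint
        (Finset.disjoint_of_subset_left Finset.inter_subset_left
          (Finset.disjoint_of_subset_right Finset.inter_subset_left hNdisj)),
        inter_inner_of_subset hN₁, inter_inner_of_subset hN₂]
      push_cast; ring
    have hi1 := hss₁ (T ∩ S) hT₁sub
    have hi2 := hss₂ (T ∩ (U \ S)) hT₂sub
    rw [hsum1 _ hT₁sub] at hi1
    rw [hsum2 _ hT₂sub] at hi2
    have hx21 : (0 : ℝ) ≤ (crossE ends (T ∩ (U \ S)) (S \ (T ∩ S)) : ℝ) := Nat.cast_nonneg _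
    rw [hψsum, hmsum, hNcard, hcut]
    by_cases hw : w₀ ∈ T ∩ (U \ S)
    · rw [if_pos hw] at hi2
      by_cases hv : v₀ ∈ T ∩ S
      · rw [if_pos hv] at hi1
        linarith
      · rw [if_neg hv] at hi1
        have hge : (1 : ℝ) ≤ (crossE ends (T ∩ (U \ S)) (S \ (T ∩ S)) : ℝ) := by
          have hpos : 0 < crossE ends (T ∩ (U \ S)) (S \ (T ∩ S)) := by
            unfold crossE
            rw [Finset.card_pos]
            refine ⟨e₀, ?_⟩
            simp only [Finset.mem_filter, Finset.mem_univ, true_and]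
            have hv' : v₀ ∈ S \ (T ∩ S) := Finset.mem_sdiff.2 ⟨hv₀, hv⟩
            rcases he₀ with he | he
            · right; rw [he]; exact ⟨hv', hw⟩
            · left; rw [he]; exact ⟨hw, hv'⟩
          exact_mod_cast hpos
        linarith
    · rw [if_neg hw] at hi2
      by_cases hv : v₀ ∈ T ∩ S
      · rw [if_pos hv] at hi1
        linarith
      · rw [if_neg hv] at hi1
        linarith
  · -- degree on S
    have e1 : (∑ v ∈ S, (if v ∈ S then m₁ v else m₂ v)) = ∑ v ∈ S, m₁ v :=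
      Finset.sum_congr rfl (fun v hv => if_pos hv)
    have e2 : (N₁ ∪ N₂) ∩ inner ends S = N₁ := by
      ext e
      simp only [Finset.mem_inter, Finset.mem_union, PhiStab.inner, Finset.mem_filter,
        Finset.mem_univ, true_and]
      constructor
      · rintro ⟨h | h, h3, _⟩
        · exact h
        · exact absurd h3 (Finset.mem_sdiff.1 (hN₂S e h).1).2
      · intro h
        exact ⟨Or.inl h, hN₁S e h⟩
    rw [e1, e2, hT₁, hg]

theorem hasSS_of_connOn : ∀ (n : ℕ) (U : Finset V), U.card = n → ConnOn ends U → HasSS ends U := by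
  intro n
  induction n using Nat.strong_induction_on with
  | _ n ih =>
    intro U hcard hU
    by_cases h2 : 2 ≤ U.card
    · obtain ⟨S, hSU, hSne, hSneU, hS, hS'⟩ := exists_split hU h2
      have hS'ne : (U \ S).Nonempty := by
        rw [Finset.nonempty_iff_ne_empty, Ne, Finset.sdiff_eq_empty_iff_subset]
        exact fun h => hSneU (Finset.Subset.antisymm hSU h)
      obtain ⟨v₀, hv₀, w₀, hw₀, e₀, he₀⟩ := exists_cross_edge hU hSU hSne hS'ne
      have hlt1 : S.card < n := by
        rw [← hcard]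
        exact Finset.card_lt_card (Finset.ssubset_iff_subset_ne.2 ⟨hSU, hSneU⟩)
      have hlt2 : (U \ S).card < n := by
        rw [← hcard]
        apply Finset.card_lt_card
        refine ⟨Finset.sdiff_subset, fun h => ?_⟩
        obtain ⟨s, hs⟩ := hSne
        exact (Finset.mem_sdiff.1 (h (hSU hs))).2 hs
      intro ψ c hc
      obtain ⟨m, N, h1, h2, h3, -⟩ :=
        glue hSU hv₀ hw₀ he₀ (ih _ hlt1 S rfl hS) (ih _ hlt2 (U \ S) rfl hS') ψ c hc
      exact ⟨m, N, h1, h2, h3⟩
    · obtain ⟨u, hu⟩ := hU.1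
      have hU1 : U = {u} := by
        have h3 : U.card = 1 := by
          have := Finset.card_pos.2 hU.1
          omega
        obtain ⟨a, ha⟩ := Finset.card_eq_one.1 h3
        rw [ha] at hu ⊢
        rw [Finset.mem_singleton.1 hu]
      intro ψ c hc
      rw [hU1] at hc ⊢
      rw [Finset.sum_singleton] at hc
      refine ⟨fun _ => c, ∅, Finset.empty_subset _, by simp, ?_⟩
      intro T hT
      rcases Finset.subset_singleton_iff.1 hT with h | h
      · rw [h]; simp [crossE_empty_left]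
      · rw [h]; simp [crossE_empty_right, hc]

/-- refined existence: a semistable datum with the minimal degree on an elementary set -/
theorem exists_semistable_min (hconn : LabGraph.Connected ends) {S : Finset V}
    (hS : ConnOn ends S) (hS' : ConnOn ends Sᶜ) (φ : V → ℝ) (b : ℤ)
    (hφ : (∑ v : V, φ v) = (b : ℝ)) :
    ∃ (m : V → ℤ) (N : Finset E), totDeg m N = b ∧ IsSemistable ends φ m N ∧
      degOn ends m N S = ⌊(∑ v ∈ S, φ v) - (LabGraph.cut ends S : ℝ) / 2⌋ + 1 := by
  classical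
  have hU := connOn_univ hconn
  have hcompl : (Finset.univ : Finset V) \ S = Sᶜ := (Finset.compl_eq_univ_sdiff S).symm
  have hS'ne : ((Finset.univ : Finset V) \ S).Nonempty := by rw [hcompl]; exact hS'.1
  obtain ⟨v₀, hv₀, w₀, hw₀, e₀, he₀⟩ :=
    exists_cross_edge hU (Finset.subset_univ S) hS.1 hS'ne
  obtain ⟨m, N, -, htot, hss, hdeg⟩ := glue (Finset.subset_univ S) hv₀ hw₀ he₀
    (hasSS_of_connOn _ S rfl hS)
    (hasSS_of_connOn _ _ rfl (by rw [hcompl]; exact hS')) φ b hφ
  refine ⟨m, N, htot, ?_, ?_⟩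
  · intro T _ _
    have := hss T (Finset.subset_univ T)
    rw [← Finset.compl_eq_univ_sdiff, crossE_compl] at this
    rw [degOn_cast]
    exact this
  · rw [hcompl, crossE_compl] at hdeg
    exact hdeg

end graph

end Groth.Agent.H88.PhiStabLib
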