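import Groth.Agent.H88.PicPn

/-!
# `O(d) ≅ O(d')` on `P^n` (`n ≥ 1`) forces `d = d'`
-/

set_option autoImplicit false
universe u

noncomputable section

namespace Groth.Agent.H88.PicPnUniq

open CategoryTheory AlgebraicGeometry Opposite TopologicalSpace
open Groth.Agent.H8 (res_res res_smul app_res)
open Groth.Agent.H18.Serre
open Groth.Agent.H18.TensorGen (IsGen)
open Groth.Agent.H18.ProjUPSym Groth.Agent.H18.ProjUPUniq
open Groth.Agent.H88.TwistGenN Groth.Agent.H88.MonoFrac Groth.Agent.H88.ProjChart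
open Groth.Agent.H88.PicPn

theorem isGen_app_iso {X : Scheme.{u}} {M N : X.Modules} (e : M ≅ N) {V : X.Opens} {μ : Γ(M, V)}
    (hμ : IsGen M V μ) : IsGen N V (e.hom.app V μ) := by
  intro V' h
  have hb : Function.Bijective (e.hom.app V') :=
    (ConcreteCategory.isIso_iff_bijective _).mp inferInstance
  have he : (fun r : Γ(X, V') => r • N.presheaf.map (homOfLE h).op (e.hom.app V μ)) =
      (e.hom.app V') ∘ (fun r : Γ(X, V') => r • M.presheaf.map (homOfLE h).op μ) := by
    funext r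
    rw [Function.comp_apply, Scheme.Modules.Hom.app_smul, app_res]
  rw [he]
  exact hb.comp (hμ V' h)

section Poly

variable (n : ℕ) (R : Type u) [CommRing R] [IsDomain R]

theorem unit_chart (i : Fin (n + 1)) (s : Γ(Proj (CohB1.polyGrading n R), U n R i))
    (hs : IsUnit s) : ∃ r : R, IsUnit r ∧ s = cst (CohB1.polyGrading n R) (U n R i) r := by
  have hs' : IsUnit ((Θ n R i).symm s) := hs.map (Θ n R i).symm
  obtain ⟨r, hr, hsr⟩ := MvPolynomial.isUnit_iff_eq_C_of_isReduced.mp hs'
  refine ⟨r, hr, ?_⟩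
  rw [← Θ_C, ← hsr, RingEquiv.apply_symm_apply]

theorem not_lt_of_iso (hn : ∃ k : Fin (n + 1), k ≠ 0) (d d' : ℤ)
    (e : Twist.twist (CohB1.polyGrading n R) d ≅ Twist.twist (CohB1.polyGrading n R) d') :
    ¬ d < d' := by
  intro hlt
  obtain ⟨i, hi⟩ := hn
  obtain ⟨k, hk⟩ := Int.lt.dest hlt
  have hg : ∀ j : Fin (n + 1), ∃ r : R, IsUnit r ∧
      e.hom.app (U n R j) (αN (CohB1.polyGrading n R) (hT n R j) d) =
        cst (CohB1.polyGrading n R) (U n R j) r •
          αN (CohB1.polyGrading n R) (hT n R j) d' := by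
    intro j
    have h1 := isGen_app_iso e (isGen_αN (CohB1.polyGrading n R) (hT n R j) d)
    obtain ⟨c, hc⟩ := (isGen_αN (CohB1.polyGrading n R) (hT n R j) d').self.2
      (e.hom.app (U n R j) (αN (CohB1.polyGrading n R) (hT n R j) d))
    have hc' : c • αN (CohB1.polyGrading n R) (hT n R j) d' =
        e.hom.app (U n R j) (αN (CohB1.polyGrading n R) (hT n R j) d) := hc
    have hcu : IsUnit c := by
      rw [← hc'] at h1
      obtain ⟨r₀, hr₀⟩ := h1.self.2 (αN (CohB1.polyGrading n R) (hT n R j) d')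
      have hr₀' : r₀ • (c • αN (CohB1.polyGrading n R) (hT n R j) d') =
          αN (CohB1.polyGrading n R) (hT n R j) d' := hr₀
      have h2 : r₀ * c = 1 := by
        apply (isGen_αN (CohB1.polyGrading n R) (hT n R j) d').self.1
        show (r₀ * c) • αN (CohB1.polyGrading n R) (hT n R j) d' =
          (1 : Γ(Proj (CohB1.polyGrading n R), U n R j)) •
            αN (CohB1.polyGrading n R) (hT n R j) d'
        rw [mul_smul, hr₀', one_smul]
      exact IsUnit.of_mul_eq_one r₀ (by rw [mul_comm]; exact h2)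
    obtain ⟨r, hr, hcr⟩ := unit_chart n R j c hcu
    exact ⟨r, hr, by rw [← hc', hcr]⟩
  obtain ⟨ri, hri, hei⟩ := hg i
  obtain ⟨r0, hr0, he0⟩ := hg 0
  have hres := αN_res (CohB1.polyGrading n R) (hT n R i) (hT n R 0) d
  have a1 := app_res e.hom (inf_le_right : U n R i ⊓ U n R 0 ≤ U n R 0)
    (αN (CohB1.polyGrading n R) (hT n R 0) d)
  have a2 := app_res e.hom (inf_le_left : U n R i ⊓ U n R 0 ≤ U n R i)
    (αN (CohB1.polyGrading n R) (hT n R i) d)
  have A0 : (Twist.twist (CohB1.polyGrading n R) d').presheaf.map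
      (homOfLE (inf_le_right : U n R i ⊓ U n R 0 ≤ U n R 0)).op
        (e.hom.app (U n R 0) (αN (CohB1.polyGrading n R) (hT n R 0) d)) =
      uN (CohB1.polyGrading n R) (hT n R i) (hT n R 0) d •
        (Twist.twist (CohB1.polyGrading n R) d').presheaf.map
          (homOfLE (inf_le_left : U n R i ⊓ U n R 0 ≤ U n R i)).op
            (e.hom.app (U n R i) (αN (CohB1.polyGrading n R) (hT n R i) d)) := by
    rw [← a1, ← a2, hres, Scheme.Modules.Hom.app_smul]
  rw [he0, hei, res_smul, res_smul, cst_res, cst_res,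
    αN_res (CohB1.polyGrading n R) (hT n R i) (hT n R 0) d', ← mul_smul, ← mul_smul] at A0
  have h3 := IsGen.smul_cancel (isGen_αN (CohB1.polyGrading n R) (hT n R i) d') inf_le_left A0
  rw [uN_eq_zfrac, uN_eq_zfrac, ← hk, zfrac_add_nat] at h3
  have h4 : zfrac (CohB1.polyGrading n R) (U n R i ⊓ U n R 0) (hT n R i) (hT n R 0) inf_le_left
      inf_le_right d * (cst (CohB1.polyGrading n R) (U n R i ⊓ U n R 0) r0 *
        mfrac (CohB1.polyGrading n R) (U n R i ⊓ U n R 0) (hT n R i) (hT n R 0) inf_le_left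
          inf_le_right k.succ 0) =
      zfrac (CohB1.polyGrading n R) (U n R i ⊓ U n R 0) (hT n R i) (hT n R 0) inf_le_left
        inf_le_right d * cst (CohB1.polyGrading n R) (U n R i ⊓ U n R 0) ri := by
    rw [← h3]
    ring
  have h5 := zfrac_mul_cancel (CohB1.polyGrading n R) (hT n R i) (hT n R 0) inf_le_left
    inf_le_right d h4
  have h6 : cst (CohB1.polyGrading n R) (U n R i) r0 * xpow n R i (U n R i) le_rfl k.succ =
      cst (CohB1.polyGrading n R) (U n R i) ri := by
    apply res_injective n R (inf_le_left : U n R i ⊓ U n R 0 ≤ U n R i)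
      ⟨η_mem n R i, η_mem n R 0⟩
    rw [map_mul, xpow_res n R i inf_le_left le_rfl inf_le_right, cst_res, cst_res]
    exact h5
  have hu : IsUnit (cst (CohB1.polyGrading n R) (U n R i) r0 *
      xpow n R i (U n R i) le_rfl k.succ) := by
    rw [h6]
    exact isUnit_cst (CohB1.polyGrading n R) _ hri
  exact not_isUnit_xpow n R ⟨i, hi⟩ i (U n R i) le_rfl (ξ_mem n R _ i hi) k.succ
    (Nat.succ_pos k) (isUnit_of_mul_isUnit_right hu)

theorem existsUnique_twist [UniqueFactorizationMonoid R] (hn : 1 ≤ n)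
    (M : (Proj (CohB1.polyGrading n R)).Modules) (hM : PicF.IsInvertible M) :
    ∃! d : ℤ, Nonempty (M ≅ Twist.twist (CohB1.polyGrading n R) d) := by
  obtain ⟨d, ⟨e⟩⟩ := exists_iso_twist n R M hM
  have hn' : ∃ k : Fin (n + 1), k ≠ 0 := by
    refine ⟨Fin.last n, fun h => ?_⟩
    have h1 := congrArg Fin.val h
    rw [Fin.val_last, Fin.val_zero] at h1
    omega
  refine ⟨d, ⟨e⟩, ?_⟩
  rintro d' ⟨e'⟩
  have a1 := not_lt_of_iso n R hn' d d' (e.symm ≪≫ e')
  have a2 := not_lt_of_iso n R hn' d' d (e'.symm ≪≫ e)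
  omega

end Poly

end Groth.Agent.H88.PicPnUniq
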