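import Groth.Agent.H88.PnGlobal
import Groth.Agent.H88.CommonZero
import Groth.Agent.H18.ProjSpaceGlobal

/-!
# Morphisms `P^n_k ⟶ P^m_k` with `m < n` are constant
-/

set_option autoImplicit false
universe u

noncomputable section

namespace Groth.Agent.H88.PnConst

open CategoryTheory AlgebraicGeometry Opposite TopologicalSpace
open Groth.Agent.H18.TensorGen (IsGen)
open Groth.Agent.H18.ProjUPSym Groth.Agent.H18.ProjUPUniq
open Groth.Agent.H88.TwistGenN Groth.Agent.H88.MonoFrac Groth.Agent.H88.ProjChart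
open Groth.Agent.H88.PicPn Groth.Agent.H88.PnGlobal

/-- A morphism to an affine scheme factors through any morphism to an affine scheme inducing an
isomorphism on global sections. -/
theorem factor_through_of_isIso_appTop {X S Y : Scheme.{u}} (h : X ⟶ S) [IsAffine S]
    [IsIso h.appTop] (g : X ⟶ Y) [IsAffine Y] : ∃ q : S ⟶ Y, g = h ≫ q := by
  haveI : IsIso (Spec.map h.appTop) := inferInstance
  haveI : IsIso Y.toSpecΓ := inferInstance
  refine ⟨S.toSpecΓ ≫ inv (Spec.map h.appTop) ≫ Spec.map g.appTop ≫ inv Y.toSpecΓ, ?_⟩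
  have h1 := Scheme.toSpecΓ_naturality g
  have h2 := Scheme.toSpecΓ_naturality h
  have h3 : X.toSpecΓ = h ≫ S.toSpecΓ ≫ inv (Spec.map h.appTop) := by
    rw [← Category.assoc, h2, Category.assoc, IsIso.hom_inv_id, Category.comp_id]
  calc g = (g ≫ Y.toSpecΓ) ≫ inv Y.toSpecΓ := by
        rw [Category.assoc, IsIso.hom_inv_id, Category.comp_id]
    _ = (X.toSpecΓ ≫ Spec.map g.appTop) ≫ inv Y.toSpecΓ := by rw [h1]
    _ = h ≫ S.toSpecΓ ≫ inv (Spec.map h.appTop) ≫ Spec.map g.appTop ≫ inv Y.toSpecΓ := by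
        rw [h3]
        simp only [Category.assoc]

theorem const_of_lt (k : Type u) [Field k] (n m : ℕ) (hmn : m < n)
    (f : Proj (CohB1.polyGrading n k) ⟶ Proj (CohB1.polyGrading m k)) :
    ∃ q : Spec (CommRingCat.of k) ⟶ Proj (CohB1.polyGrading m k),
      f = (Proj.toSpecZero (CohB1.polyGrading n k) ≫
        Spec.map (CommRingCat.ofHom (algebraMap k (CohB1.polyGrading n k 0)))) ≫ q := by
  have hn' : ∃ i : Fin (n + 1), i ≠ 0 := by
    refine ⟨Fin.last n, fun h => ?_⟩
    have h1 := congrArg Fin.val h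
    rw [Fin.val_last, Fin.val_zero] at h1
    omega
  have hg : ∀ i : ULift.{u} (Fin (m + 1)),
      (MvPolynomial.X i.down : MvPolynomial (Fin (m + 1)) k) ∈ CohB1.polyGrading m k 1 :=
    fun i => MvPolynomial.isHomogeneous_X k i.down
  obtain ⟨g, hgdef⟩ : ∃ g : ULift.{u} (Fin (m + 1)) → MvPolynomial (Fin (m + 1)) k,
      g = fun i => MvPolynomial.X i.down := ⟨_, rfl⟩
  have hg' : ∀ i, g i ∈ CohB1.polyGrading m k 1 := by
    rw [hgdef]
    exact hg
  have hDcov : ∀ p : Proj (CohB1.polyGrading m k), ∃ i, p ∈ Proj.basicOpen _ (g i) := by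
    intro p
    obtain ⟨i, hi⟩ := Groth.Agent.H18.ProjUPData.Dp_cover m k p
    rw [hgdef]
    exact ⟨⟨i⟩, hi⟩
  have hN : PicF.IsInvertible (N1 (CohB1.polyGrading m k)) :=
    isInvertible_N1 _ (fun y => by
      obtain ⟨i, hi⟩ := hDcov y
      exact ⟨g i, hg' i, (ProjectiveSpectrum.mem_basicOpen _ _ _).mp hi⟩)
  have hL₀ := Groth.Agent.H22.PullGen.isInvertible_pullback f hN
  obtain ⟨d, ⟨e⟩⟩ := exists_iso_twist n k _ hL₀
  obtain ⟨s, hs⟩ : ∃ s : ULift.{u} (Fin (m + 1)) →
      Γ(Twist.twist (CohB1.polyGrading n k) d, ⊤),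
      s = fun i => e.hom.app ⊤ (ProjUP.pullSec f (N1 (CohB1.polyGrading m k)) (tG _ (hg' i))) :=
    ⟨_, rfl⟩
  have hτ : ∀ i, e.hom.app ⊤ (ProjUP.pullSec f (N1 (CohB1.polyGrading m k)) (tG _ (hg' i))) =
      s i := fun i => by rw [hs]
  have hpre := hpre_of_iso _ f g hg' hDcov _ s e hτ
  have hcov : ∀ x : Proj (CohB1.polyGrading n k), ∃ i,
      x ∈ CohB1.genLocus (Twist.twist (CohB1.polyGrading n k) d)
        (Groth.Agent.H18.TensorPowIso.secHom _ (s i)) := by
    intro x
    obtain ⟨i, hi⟩ := hDcov (f x)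
    refine ⟨i, ?_⟩
    have h1 : x ∈ f ⁻¹ᵁ Proj.basicOpen _ (g i) := hi
    rw [hpre i] at h1
    exact h1
  rcases lt_or_ge d 0 with hd | hd
  · exfalso
    obtain ⟨e', he'⟩ : ∃ e' : ℕ, d = -(e' : ℤ) := ⟨(-d).toNat, by omega⟩
    have he'pos : 0 < e' := by omega
    subst he'
    obtain ⟨i, hi⟩ := hcov (η n k)
    exact not_mem_genLocus_neg n k hn' e' he'pos (s i) _ hi
  · obtain ⟨d₀, hd₀⟩ : ∃ d₀ : ℕ, d = (d₀ : ℤ) := ⟨d.toNat, by omega⟩
    subst hd₀
    choose F hF using fun i => exists_gO n k d₀ (s i)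
    have hmem : ∀ i (x : Proj (CohB1.polyGrading n k)),
        x ∈ CohB1.genLocus (Twist.twist (CohB1.polyGrading n k) (d₀ : ℤ))
          (Groth.Agent.H18.TensorPowIso.secHom _ (s i)) ↔
        (F i).1 ∉ (x : ProjectiveSpectrum (CohB1.polyGrading n k)).asHomogeneousIdeal := by
      intro i x
      obtain ⟨j, hj⟩ := Groth.Agent.H18.ProjUPData.Dp_cover n k x
      rw [hF i]
      exact mem_genLocus_gO (CohB1.polyGrading n k) (F i) (hT n k j) x hj
    rcases Nat.eq_zero_or_pos d₀ with h0 | hpos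
    · subst h0
      obtain ⟨i0, hi0⟩ := hcov (η n k)
      have hFi0 := (hmem i0 _).mp hi0
      have hF1 : (F i0).1 ∈ (1 : Submodule k (MvPolynomial (Fin (n + 1)) k)) := by
        rw [← MvPolynomial.homogeneousSubmodule_zero]
        exact (F i0).2
      obtain ⟨r, hr⟩ := Submodule.mem_one.mp hF1
      have hr0 : r ≠ 0 := by
        intro h
        rw [h, map_zero] at hr
        apply hFi0
        rw [← hr]
        exact zero_mem _
      have hunit : IsUnit (F i0).1 := by
        rw [← hr]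
        exact (IsUnit.mk0 r hr0).map _
      have hall : ∀ x : Proj (CohB1.polyGrading n k), f x ∈ Proj.basicOpen _ (g i0) := by
        intro x
        have h1 : x ∈ CohB1.genLocus (Twist.twist (CohB1.polyGrading n k) ((0 : ℕ) : ℤ))
            (Groth.Agent.H18.TensorPowIso.secHom _ (s i0)) := by
          rw [hmem i0 x]
          intro hx
          exact (x : ProjectiveSpectrum (CohB1.polyGrading n k)).isPrime.ne_top
            (Ideal.eq_top_of_isUnit_mem _ hx hunit)
        have h2 : x ∈ f ⁻¹ᵁ Proj.basicOpen _ (g i0) := by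
          rw [hpre i0]
          exact h1
        exact h2
      have hV : IsAffineOpen (Proj.basicOpen (CohB1.polyGrading m k) (g i0)) :=
        Proj.isAffineOpen_basicOpen _ (g i0) (hg' i0) Nat.one_pos
      haveI : IsAffine ((Proj.basicOpen (CohB1.polyGrading m k) (g i0) :
          (Proj (CohB1.polyGrading m k)).Opens) : Scheme.{u}) := hV
      have hrange : Set.range f ⊆
          Set.range (Proj.basicOpen (CohB1.polyGrading m k) (g i0)).ι := by
        rw [Scheme.Opens.range_ι]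
        rintro _ ⟨x, rfl⟩
        exact hall x
      haveI : IsIso (Proj.toSpecZero (CohB1.polyGrading n k) ≫
          Spec.map (CommRingCat.ofHom (algebraMap k (CohB1.polyGrading n k 0)))).appTop :=
        Groth.Agent.H18.ProjSpaceGlobal.isIso_appTop_aux n k
      obtain ⟨q', hq'⟩ := factor_through_of_isIso_appTop
        (Proj.toSpecZero (CohB1.polyGrading n k) ≫
          Spec.map (CommRingCat.ofHom (algebraMap k (CohB1.polyGrading n k 0))))
        (IsOpenImmersion.lift (Proj.basicOpen (CohB1.polyGrading m k) (g i0)).ι f hrange)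
      refine ⟨q' ≫ (Proj.basicOpen (CohB1.polyGrading m k) (g i0)).ι, ?_⟩
      rw [← Category.assoc, ← hq', IsOpenImmersion.lift_fac]
    · exfalso
      obtain ⟨x, hx⟩ := Groth.Agent.H88.CommonZero.exists_common_zero n k m hmn d₀ hpos
        (fun j => (F ⟨j⟩).1) (fun j => (F ⟨j⟩).2)
      obtain ⟨i, hi⟩ := hcov x
      exact (hmem i x).mp hi (hx i.down)

end Groth.Agent.H88.PnConst
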