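import Mathlib

/-!
# Sums of polar parts on the line, parametrised by `W(P) = R·P' - S·P`  (helper88)

`E = ∏ (X - r_j)^{a_j}`, `R = ∏ (X - r_j)`, `D = E·R`, `S` with `E'·R = E·S`;
`W(P) = R·P' - S·P` (so that `W(P)/D = (P/E)'`).  The space
`Vb b = D·k[X]_{<b} + ∑_i D_i·k[X]_{<a_i}` equals `W(k[X]_{< ∑a + b + 1})` and has
dimension `∑ a + b` (characteristic zero, distinct `r_j`).
-/

set_option autoImplicit false

namespace Groth.Agent.H88.PolarW

open Polynomial

section basic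

variable {k : Type*} [Field k]

theorem mem_degreeLT_of_natDegree_lt {p : k[X]} {n : ℕ} (h : p.natDegree < n) :
    p ∈ degreeLT k n :=
  mem_degreeLT.mpr (lt_of_le_of_lt degree_le_natDegree (by exact_mod_cast h))

theorem finrank_degreeLT (n : ℕ) : Module.finrank k ↥(degreeLT k n) = n :=
  (degreeLTEquiv k n).finrank_eq.trans (Module.finrank_fin_fun k)

theorem pow_deriv (c : k) (n : ℕ) :
    derivative ((X - C c) ^ n) * (X - C c) = C (n : k) * (X - C c) ^ n := by
  cases n with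
  | zero => simp
  | succ n =>
    rw [derivative_pow_succ, derivative_X_sub_C, mul_one, Nat.cast_succ, pow_succ, mul_assoc]

theorem step (c : k) (n : ℕ) (E₁ R₁ S₁ : k[X]) (h : derivative E₁ * R₁ = E₁ * S₁) :
    derivative ((X - C c) ^ n * E₁) * ((X - C c) * R₁) =
      ((X - C c) ^ n * E₁) * (C (n : k) * R₁ + (X - C c) * S₁) := by
  rw [derivative_mul]
  linear_combination (E₁ * R₁) * pow_deriv c n + ((X - C c) ^ n * (X - C c)) * h

theorem natDegree_pow_X_sub_C (q : k) (N : ℕ) : ((X - C q) ^ N).natDegree = N := by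
  rw [natDegree_pow, natDegree_X_sub_C, mul_one]

theorem coeff_pow_self (q : k) (N : ℕ) : ((X - C q) ^ N).coeff N = 1 := by
  have hm : ((X - C q) ^ N).Monic := (monic_X_sub_C q).pow N
  have h := hm.coeff_natDegree
  rwa [natDegree_pow_X_sub_C] at h

theorem coeff_pow_pred (q : k) (n : ℕ) :
    ((X - C q) ^ (n + 1)).coeff n = -(((n : k) + 1) * q) := by
  have h : (X - C q : k[X]) = X + C (-q) := by rw [C_neg, sub_eq_add_neg]
  rw [h, coeff_X_add_C_pow, Nat.add_sub_cancel_left, pow_one, Nat.choose_succ_self_right]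
  push_cast
  ring

theorem pow_mem (q : k) (N : ℕ) : (X - C q) ^ N ∈ degreeLT k (N + 1) :=
  mem_degreeLT_of_natDegree_lt (by rw [natDegree_pow_X_sub_C]; exact Nat.lt_succ_self N)

theorem pow_sub_pow_mem (q q' : k) (n : ℕ) :
    (X - C q) ^ (n + 1) - (X - C q') ^ (n + 1) ∈ degreeLT k (n + 1) := by
  rw [mem_degreeLT, degree_lt_iff_coeff_zero]
  intro j hj
  rw [coeff_sub]
  rcases Nat.eq_or_lt_of_le hj with h | h
  · rw [← h, coeff_pow_self, coeff_pow_self, sub_self]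
  · rw [coeff_eq_zero_of_natDegree_lt, coeff_eq_zero_of_natDegree_lt, sub_zero]
    · rw [natDegree_pow_X_sub_C]; exact h
    · rw [natDegree_pow_X_sub_C]; exact h

theorem mem_span_shift (c : k) (n : ℕ) (g : k[X]) (hg : g ∈ degreeLT k n) :
    g ∈ Submodule.span k (Set.range fun s : Fin n => (X - C c) ^ (s : ℕ)) := by
  have key : ((taylor c g).sum fun i a => C a * (X - C c) ^ i) ∈
      Submodule.span k (Set.range fun s : Fin n => (X - C c) ^ (s : ℕ)) := by
    rw [Polynomial.sum_def]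
    apply Submodule.sum_mem
    intro i hi
    rw [C_mul']
    apply Submodule.smul_mem
    apply Submodule.subset_span
    have h1 : (taylor c g) ∈ degreeLT k n := taylor_mem_degreeLT.mpr hg
    have h2 := (degree_lt_iff_coeff_zero _ _).mp (mem_degreeLT.mp h1)
    have hi' : i < n := by
      by_contra hcon
      push Not at hcon
      exact (mem_support_iff.mp hi) (h2 i hcon)
    exact ⟨⟨i, hi'⟩, rfl⟩
  rwa [sum_taylor_eq] at key

/-- If `T ≤ span {u, v}` and not both `u, v ∈ T`, then `dim T ≤ 1`. -/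
theorem finrank_le_one_of {M : Type*} [AddCommGroup M] [Module k M] (T : Submodule k M) (u v : M)
    (hT : T ≤ Submodule.span k {u, v}) (h : ¬(u ∈ T ∧ v ∈ T)) : Module.finrank k ↥T ≤ 1 := by
  classical
  by_contra hcon
  push Not at hcon
  have h2 : Module.finrank k ↥(Submodule.span k ({u, v} : Set M)) ≤ 2 := by
    have h3 := finrank_span_finset_le_card (R := k) ({u, v} : Finset M)
    rw [Finset.coe_pair] at h3
    exact h3.trans Finset.card_le_two
  have hfd : FiniteDimensional k ↥(Submodule.span k ({u, v} : Set M)) :=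
    FiniteDimensional.span_of_finite k (Set.toFinite _)
  have hEq : T = Submodule.span k ({u, v} : Set M) :=
    Submodule.eq_of_le_of_finrank_le hT (by omega)
  apply h
  rw [hEq]
  exact ⟨Submodule.subset_span (by simp), Submodule.subset_span (by simp)⟩

/-- A subspace containing `W(k[X]_{<n})`, `W A` with `deg A = n`, `W B` with `deg B = n+1`
contains `W(k[X]_{<n+2})`. -/
theorem hyper (W : k[X] →ₗ[k] k[X]) (V₁ : Submodule k k[X]) (n : ℕ)
    (h0 : (degreeLT k n).map W ≤ V₁)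
    (A : k[X]) (hA : A ∈ degreeLT k (n + 1)) (hA' : A.coeff n ≠ 0) (hWA : W A ∈ V₁)
    (B : k[X]) (hB : B ∈ degreeLT k (n + 2)) (hB' : B.coeff (n + 1) ≠ 0) (hWB : W B ∈ V₁) :
    (degreeLT k (n + 2)).map W ≤ V₁ := by
  have key : ∀ (t : ℕ) (Z : k[X]), Z ∈ degreeLT k (t + 1) → Z.coeff t ≠ 0 →
      ∀ P ∈ degreeLT k (t + 1), P - C (P.coeff t / Z.coeff t) * Z ∈ degreeLT k t := by
    intro t Z hZ hZ' P hP
    rw [mem_degreeLT, degree_lt_iff_coeff_zero] at hZ hP ⊢
    intro j hj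
    rw [coeff_sub, coeff_C_mul]
    rcases Nat.eq_or_lt_of_le hj with h | h
    · rw [← h, div_mul_cancel₀ _ hZ', sub_self]
    · rw [hP j h, hZ j h, mul_zero, sub_zero]
  intro x hx
  obtain ⟨P, hP, rfl⟩ := Submodule.mem_map.mp hx
  obtain ⟨c₂, hc₂⟩ : ∃ c₂ : k, c₂ = P.coeff (n + 1) / B.coeff (n + 1) := ⟨_, rfl⟩
  obtain ⟨P', hP'⟩ : ∃ P' : k[X], P' = P - C c₂ * B := ⟨_, rfl⟩
  have h1 : P' ∈ degreeLT k (n + 1) := by
    rw [hP', hc₂]; exact key (n + 1) B hB hB' P hP
  obtain ⟨c₁, hc₁⟩ : ∃ c₁ : k, c₁ = P'.coeff n / A.coeff n := ⟨_, rfl⟩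
  have h2 : P' - C c₁ * A ∈ degreeLT k n := by
    rw [hc₁]; exact key n A hA hA' P' h1
  have h3 : W (P' - C c₁ * A) ∈ V₁ := h0 (Submodule.mem_map.mpr ⟨_, h2, rfl⟩)
  have h4 : W P = W (P' - C c₁ * A) + c₁ • W A + c₂ • W B := by
    rw [hP', map_sub, map_sub, C_mul', C_mul', map_smul, map_smul]
    abel
  rw [h4]
  exact V₁.add_mem (V₁.add_mem h3 (V₁.smul_mem _ hWA)) (V₁.smul_mem _ hWB)

end basic

section defs

variable {k : Type*} [Field k] {m : ℕ} (r : Fin m → k) (a : Fin m → ℕ)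

theorem exists_S (T : Finset (Fin m)) :
    ∃ S : k[X], derivative (∏ j ∈ T, (X - C (r j)) ^ a j) * ∏ j ∈ T, (X - C (r j)) =
      (∏ j ∈ T, (X - C (r j)) ^ a j) * S := by
  classical
  induction T using Finset.induction_on with
  | empty => exact ⟨0, by simp⟩
  | insert i T hi ih =>
    obtain ⟨S, hS⟩ := ih
    refine ⟨C (a i : k) * ∏ j ∈ T, (X - C (r j)) + (X - C (r i)) * S, ?_⟩
    rw [Finset.prod_insert hi, Finset.prod_insert hi]
    exact step (r i) (a i) _ _ S hS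

noncomputable def Ep (T : Finset (Fin m)) : k[X] := ∏ j ∈ T, (X - C (r j)) ^ a j
noncomputable def Rp (T : Finset (Fin m)) : k[X] := ∏ j ∈ T, (X - C (r j))
noncomputable def Dp (T : Finset (Fin m)) : k[X] := ∏ j ∈ T, (X - C (r j)) ^ (a j + 1)
noncomputable def Sp (T : Finset (Fin m)) : k[X] := Classical.choose (exists_S r a T)

theorem Sp_spec (T : Finset (Fin m)) :
    derivative (Ep r a T) * Rp r T = Ep r a T * Sp r a T :=
  Classical.choose_spec (exists_S r a T)

theorem Dp_eq (T : Finset (Fin m)) : Dp r a T = Ep r a T * Rp r T := by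
  unfold Dp Ep Rp
  rw [← Finset.prod_mul_distrib]
  exact Finset.prod_congr rfl (fun j _ => pow_succ _ _)

theorem Ep_ne_zero (T : Finset (Fin m)) : Ep r a T ≠ 0 :=
  Finset.prod_ne_zero_iff.mpr (fun j _ => pow_ne_zero _ (X_sub_C_ne_zero _))

theorem Rp_ne_zero (T : Finset (Fin m)) : Rp r T ≠ 0 :=
  Finset.prod_ne_zero_iff.mpr (fun j _ => X_sub_C_ne_zero _)

theorem Dp_ne_zero (T : Finset (Fin m)) : Dp r a T ≠ 0 :=
  Finset.prod_ne_zero_iff.mpr (fun j _ => pow_ne_zero _ (X_sub_C_ne_zero _))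

theorem Rp_eval_ne_zero (T : Finset (Fin m)) (q : k) (hq : ∀ j ∈ T, q ≠ r j) :
    (Rp r T).eval q ≠ 0 := by
  unfold Rp
  rw [eval_prod]
  refine Finset.prod_ne_zero_iff.mpr (fun j hj => ?_)
  rw [eval_sub, eval_X, eval_C]
  exact sub_ne_zero.mpr (hq j hj)

theorem Ep_eval_ne_zero (T : Finset (Fin m)) (q : k) (hq : ∀ j ∈ T, q ≠ r j) :
    (Ep r a T).eval q ≠ 0 := by
  unfold Ep
  rw [eval_prod]
  refine Finset.prod_ne_zero_iff.mpr (fun j hj => ?_)
  rw [eval_pow, eval_sub, eval_X, eval_C]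
  exact pow_ne_zero _ (sub_ne_zero.mpr (hq j hj))

theorem Dp_eval_ne_zero (T : Finset (Fin m)) (q : k) (hq : ∀ j ∈ T, q ≠ r j) :
    (Dp r a T).eval q ≠ 0 := by
  unfold Dp
  rw [eval_prod]
  refine Finset.prod_ne_zero_iff.mpr (fun j hj => ?_)
  rw [eval_pow, eval_sub, eval_X, eval_C]
  exact pow_ne_zero _ (sub_ne_zero.mpr (hq j hj))

theorem Ep_natDegree_le (T : Finset (Fin m)) : (Ep r a T).natDegree ≤ ∑ j ∈ T, a j := by
  unfold Ep
  refine (natDegree_prod_le _ _).trans (Finset.sum_le_sum fun j _ => ?_)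
  refine natDegree_pow_le.trans ?_
  rw [natDegree_X_sub_C, mul_one]

theorem Ep_mem (T : Finset (Fin m)) (n : ℕ) (h : ∑ j ∈ T, a j < n) : Ep r a T ∈ degreeLT k n :=
  mem_degreeLT_of_natDegree_lt (lt_of_le_of_lt (Ep_natDegree_le r a T) h)

theorem Ep_erase {T : Finset (Fin m)} {i : Fin m} (hi : i ∈ T) :
    Ep r a T = (X - C (r i)) ^ a i * Ep r a (T.erase i) :=
  (Finset.mul_prod_erase T (fun j => (X - C (r j)) ^ a j) hi).symm

theorem Rp_erase {T : Finset (Fin m)} {i : Fin m} (hi : i ∈ T) :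
    Rp r T = (X - C (r i)) * Rp r (T.erase i) :=
  (Finset.mul_prod_erase T (fun j => (X - C (r j))) hi).symm

theorem Sp_erase {T : Finset (Fin m)} {i : Fin m} (hi : i ∈ T) :
    Sp r a T = C (a i : k) * Rp r (T.erase i) + (X - C (r i)) * Sp r a (T.erase i) := by
  have h1 := Sp_spec r a T
  have h2 := step (r i) (a i) _ _ _ (Sp_spec r a (T.erase i))
  rw [← Ep_erase r a hi, ← Rp_erase r hi] at h2
  exact mul_left_cancel₀ (Ep_ne_zero r a T) (h1.symm.trans h2)

/-- The linear map `W(P) = R·P' - S·P`. -/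
noncomputable def Wm (T : Finset (Fin m)) : k[X] →ₗ[k] k[X] :=
  (LinearMap.mulLeft k (Rp r T)).comp derivative - LinearMap.mulLeft k (Sp r a T)

theorem Wm_apply (T : Finset (Fin m)) (P : k[X]) :
    Wm r a T P = Rp r T * derivative P - Sp r a T * P := rfl

theorem Wm_Ep_mul (T : Finset (Fin m)) (G : k[X]) :
    Wm r a T (Ep r a T * G) = Dp r a T * derivative G := by
  rw [Wm_apply, derivative_mul, Dp_eq]
  linear_combination G * Sp_spec r a T

theorem Wm_Ep (T : Finset (Fin m)) : Wm r a T (Ep r a T) = 0 := by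
  have h := Wm_Ep_mul r a T 1
  rwa [mul_one, derivative_one, mul_zero] at h

theorem Wm_C_mul_Ep (T : Finset (Fin m)) (c : k) : Wm r a T (C c * Ep r a T) = 0 := by
  rw [C_mul', map_smul, Wm_Ep, smul_zero]

theorem Wm_mul_Ep_erase {T : Finset (Fin m)} {i : Fin m} (hi : i ∈ T) (A : k[X]) :
    Wm r a T (A * Ep r a (T.erase i)) =
      Dp r a (T.erase i) * ((X - C (r i)) * derivative A - C (a i : k) * A) := by
  rw [Wm_apply, derivative_mul, Rp_erase r hi, Sp_erase r a hi, Dp_eq]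
  linear_combination ((X - C (r i)) * A) * Sp_spec r a (T.erase i)

theorem Wm_pow_mul_Ep_erase {T : Finset (Fin m)} {i : Fin m} (hi : i ∈ T) (s : ℕ) :
    Wm r a T ((X - C (r i)) ^ s * Ep r a (T.erase i)) =
      C ((s : k) - (a i : k)) * ((X - C (r i)) ^ s * Dp r a (T.erase i)) := by
  rw [Wm_mul_Ep_erase r a hi, C_sub]
  linear_combination (Dp r a (T.erase i)) * pow_deriv (r i) s

theorem eval_Wm_pow (T : Finset (Fin m)) (q p : k) (n : ℕ) :
    (Wm r a T ((X - C q) ^ (n + 1))).eval p =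
      (p - q) ^ n * (((n : k) + 1) * (Rp r T).eval p - (Sp r a T).eval p * (p - q)) := by
  rw [Wm_apply, derivative_pow_succ, derivative_X_sub_C]
  simp only [eval_sub, eval_mul, eval_pow, eval_X, eval_C, mul_one]
  ring

end defs

section charzero

variable {k : Type*} [Field k] [CharZero k] {m : ℕ} (r : Fin m → k) (a : Fin m → ℕ)

theorem dvd_of_dvd_Wm (T : Finset (Fin m)) (q : k) (hq : (Rp r T).eval q ≠ 0) :
    ∀ (n : ℕ) (Q : k[X]), Q.eval q = 0 → (X - C q) ^ n ∣ Wm r a T Q →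
      (X - C q) ^ (n + 1) ∣ Q := by
  intro n
  induction n with
  | zero =>
    intro Q hQ _
    rw [zero_add, pow_one]
    exact dvd_iff_isRoot.mpr hQ
  | succ n ih =>
    intro Q hQ hdvd
    have h1 : (X - C q) ^ n ∣ Wm r a T Q := dvd_trans (pow_dvd_pow _ (Nat.le_succ n)) hdvd
    obtain ⟨Q₁, hQ₁⟩ := ih Q hQ h1
    have hW : Wm r a T Q = (X - C q) ^ n * (C ((n : k) + 1) * Rp r T * Q₁ +
        (X - C q) * (Rp r T * derivative Q₁ - Sp r a T * Q₁)) := by
      rw [Wm_apply, hQ₁, derivative_mul, derivative_pow_succ, derivative_X_sub_C]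
      ring
    rw [hW, pow_succ, mul_dvd_mul_iff_left (pow_ne_zero n (X_sub_C_ne_zero q))] at hdvd
    have h2 : (X - C q) ∣ C ((n : k) + 1) * Rp r T * Q₁ := by
      have h3 : (X - C q) ∣ (X - C q) * (Rp r T * derivative Q₁ - Sp r a T * Q₁) :=
        dvd_mul_right _ _
      exact (dvd_add_left h3).mp hdvd
    have h4 : (C ((n : k) + 1) * Rp r T * Q₁).eval q = 0 := dvd_iff_isRoot.mp h2
    rw [eval_mul, eval_mul, eval_C] at h4
    have hn : ((n : k) + 1) ≠ 0 := Nat.cast_add_one_ne_zero n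
    have h5 : Q₁.eval q = 0 := by
      rcases mul_eq_zero.mp h4 with h | h
      · rcases mul_eq_zero.mp h with h' | h'
        · exact absurd h' hn
        · exact absurd h' hq
      · exact h
    obtain ⟨Q₂, hQ₂⟩ := dvd_iff_isRoot.mpr h5
    exact ⟨Q₂, by rw [hQ₁, hQ₂]; ring⟩

theorem exists_of_dvd (T : Finset (Fin m)) (q : k) (hq : ∀ j ∈ T, q ≠ r j) (N n : ℕ)
    (hE : Ep r a T ∈ degreeLT k (N + 1)) (P : k[X]) (hP : P ∈ degreeLT k (N + 1))
    (h : (X - C q) ^ n ∣ Wm r a T P) :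
    ∃ Q₁ : k[X], Q₁ ∈ degreeLT k (N - n) ∧
      Wm r a T P = Wm r a T ((X - C q) ^ (n + 1) * Q₁) := by
  have hEq : (Ep r a T).eval q ≠ 0 := Ep_eval_ne_zero r a T q hq
  obtain ⟨c, hc⟩ : ∃ c : k, c = P.eval q / (Ep r a T).eval q := ⟨_, rfl⟩
  obtain ⟨Q, hQ⟩ : ∃ Q : k[X], Q = P - C c * Ep r a T := ⟨_, rfl⟩
  have hWQ : Wm r a T Q = Wm r a T P := by
    rw [hQ, map_sub, Wm_C_mul_Ep, sub_zero]
  have hQq : Q.eval q = 0 := by
    rw [hQ, eval_sub, eval_mul, eval_C, hc, div_mul_cancel₀ _ hEq, sub_self]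
  have hQmem : Q ∈ degreeLT k (N + 1) := by
    rw [hQ, C_mul']
    exact Submodule.sub_mem _ hP (Submodule.smul_mem _ _ hE)
  rw [← hWQ] at h
  obtain ⟨Q₁, hQ₁⟩ := dvd_of_dvd_Wm r a T q (Rp_eval_ne_zero r T q hq) n Q hQq h
  refine ⟨Q₁, ?_, by rw [← hWQ, hQ₁]⟩
  by_cases hQ₁0 : Q₁ = 0
  · rw [hQ₁0]; exact Submodule.zero_mem _
  · have hpow : (X - C q) ^ (n + 1) ≠ 0 := pow_ne_zero _ (X_sub_C_ne_zero q)
    have hQ0 : Q ≠ 0 := by rw [hQ₁]; exact mul_ne_zero hpow hQ₁0
    have hdeg : Q.natDegree = (n + 1) + Q₁.natDegree := by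
      rw [hQ₁, natDegree_mul hpow hQ₁0, natDegree_pow_X_sub_C]
    have h1 : Q.natDegree < N + 1 :=
      (natDegree_lt_iff_degree_lt hQ0).mpr (mem_degreeLT.mp hQmem)
    rw [mem_degreeLT, ← natDegree_lt_iff_degree_lt hQ₁0]
    omega

theorem Wm_eq_zero_of_dvd (T : Finset (Fin m)) (q : k) (hq : ∀ j ∈ T, q ≠ r j) (N : ℕ)
    (hE : Ep r a T ∈ degreeLT k (N + 1)) (P : k[X]) (hP : P ∈ degreeLT k (N + 1))
    (h : (X - C q) ^ N ∣ Wm r a T P) : Wm r a T P = 0 := by
  obtain ⟨Q₁, hQ₁, hW⟩ := exists_of_dvd r a T q hq N N hE P hP h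
  rw [Nat.sub_self] at hQ₁
  have h0 : Q₁ = 0 := by
    have h2 := (degree_lt_iff_coeff_zero _ _).mp (mem_degreeLT.mp hQ₁)
    ext j
    rw [coeff_zero]
    exact h2 j (Nat.zero_le j)
  rw [hW, h0, mul_zero, map_zero]

theorem exists_smul_of_dvd (T : Finset (Fin m)) (q : k) (hq : ∀ j ∈ T, q ≠ r j) (N : ℕ)
    (hE : Ep r a T ∈ degreeLT k (N + 1)) (P : k[X]) (hP : P ∈ degreeLT k (N + 1))
    (n : ℕ) (hn : n + 1 = N) (h : (X - C q) ^ n ∣ Wm r a T P) :
    ∃ c : k, Wm r a T P = c • Wm r a T ((X - C q) ^ N) := by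
  obtain ⟨Q₁, hQ₁, hW⟩ := exists_of_dvd r a T q hq N n hE P hP h
  have hd : N - n = 1 := by omega
  rw [hd] at hQ₁
  have h1 : Q₁ = C (Q₁.coeff 0) := by
    have h2 := (degree_lt_iff_coeff_zero _ _).mp (mem_degreeLT.mp hQ₁)
    ext j
    rcases Nat.eq_zero_or_pos j with hj | hj
    · rw [hj, coeff_C_zero]
    · rw [coeff_C_of_ne_zero (Nat.pos_iff_ne_zero.mp hj)]; exact h2 j hj
  obtain ⟨c, hc⟩ : ∃ c : k, Q₁ = C c := ⟨_, h1⟩
  refine ⟨c, ?_⟩
  rw [hW, hn, hc, mul_comm, C_mul', map_smul]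

theorem exists_pair_of_dvd (T : Finset (Fin m)) (q : k) (hq : ∀ j ∈ T, q ≠ r j) (N : ℕ)
    (hE : Ep r a T ∈ degreeLT k (N + 1)) (P : k[X]) (hP : P ∈ degreeLT k (N + 1))
    (n : ℕ) (hn : n + 2 = N) (h : (X - C q) ^ n ∣ Wm r a T P) :
    ∃ c₁ c₂ : k, Wm r a T P =
      c₁ • Wm r a T ((X - C q) ^ (n + 1)) + c₂ • Wm r a T ((X - C q) ^ (n + 2)) := by
  obtain ⟨Q₁, hQ₁, hW⟩ := exists_of_dvd r a T q hq N n hE P hP h
  have hd : N - n = 2 := by omega
  rw [hd] at hQ₁
  have h2 := (degree_lt_iff_coeff_zero _ _).mp (mem_degreeLT.mp hQ₁)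
  have h1 : Q₁.degree ≤ 1 := by
    rw [degree_le_iff_coeff_zero]
    intro j hj
    have hj' : 1 < j := by exact_mod_cast hj
    exact h2 j hj'
  have hform := eq_X_add_C_of_degree_le_one h1
  obtain ⟨c0, hc0⟩ : ∃ c0 : k, c0 = Q₁.coeff 0 := ⟨_, rfl⟩
  obtain ⟨c1, hc1⟩ : ∃ c1 : k, c1 = Q₁.coeff 1 := ⟨_, rfl⟩
  rw [← hc0, ← hc1] at hform
  have e : (X - C q) ^ (n + 1) * Q₁ =
      (c0 + c1 * q) • (X - C q) ^ (n + 1) + c1 • (X - C q) ^ (n + 2) := by
    rw [hform, smul_eq_C_mul, smul_eq_C_mul, C_add, C_mul]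
    ring
  refine ⟨c0 + c1 * q, c1, ?_⟩
  rw [hW, e, map_add, map_smul, map_smul]

end charzero

section main

variable {k : Type*} [Field k] {m : ℕ} (r : Fin m → k) (a : Fin m → ℕ)

/-- `D·k[X]_{<b'} + ∑_i D_i·k[X]_{<a_i}`, in the shape used by the statements. -/
noncomputable def Vb (b' : ℕ) : Submodule k k[X] :=
  (degreeLT k b').map (LinearMap.mulLeft k (∏ j, (X - C (r j)) ^ (a j + 1))) ⊔
    ⨆ i, (degreeLT k (a i)).map
      (LinearMap.mulLeft k (∏ j ∈ Finset.univ.erase i, (X - C (r j)) ^ (a j + 1)))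

theorem Dp_mem_Vb (b : ℕ) (hb : 1 ≤ b) : Dp r a Finset.univ ∈ Vb r a b := by
  unfold Vb
  apply Submodule.mem_sup_left
  refine Submodule.mem_map.mpr ⟨1, ?_, ?_⟩
  · rw [mem_degreeLT, degree_one]
    exact_mod_cast (Nat.lt_of_lt_of_le Nat.zero_lt_one hb)
  · rw [LinearMap.mulLeft_apply, mul_one]; rfl

/-- The parametrisation of the direct sum. -/
noncomputable def Phi (b' : ℕ) :
    (↥(degreeLT k b') × ((i : Fin m) → ↥(degreeLT k (a i)))) →ₗ[k] k[X] where
  toFun x := Dp r a Finset.univ * (x.1 : k[X]) +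
    ∑ i, Dp r a (Finset.univ.erase i) * ((x.2 i : ↥(degreeLT k (a i))) : k[X])
  map_add' x y := by
    simp only [Prod.fst_add, Prod.snd_add, Pi.add_apply, Submodule.coe_add, mul_add,
      Finset.sum_add_distrib]
    ring
  map_smul' c x := by
    simp only [Prod.smul_fst, Prod.smul_snd, Pi.smul_apply, Submodule.coe_smul, RingHom.id_apply,
      mul_smul_comm, Finset.smul_sum, smul_add]

theorem Phi_apply (b' : ℕ) (x : ↥(degreeLT k b') × ((i : Fin m) → ↥(degreeLT k (a i)))) :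
    Phi r a b' x = Dp r a Finset.univ * (x.1 : k[X]) +
      ∑ i, Dp r a (Finset.univ.erase i) * ((x.2 i : ↥(degreeLT k (a i))) : k[X]) := rfl

theorem Phi_injective (hr : Function.Injective r) (b' : ℕ) :
    Function.Injective (Phi r a b') := by
  classical
  rw [← LinearMap.ker_eq_bot, LinearMap.ker_eq_bot']
  rintro ⟨g, gs⟩ hx
  have hx' : Dp r a Finset.univ * (g : k[X]) +
      ∑ i, Dp r a (Finset.univ.erase i) * ((gs i : ↥(degreeLT k (a i))) : k[X]) = 0 := hx
  have hgs : ∀ i, gs i = 0 := by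
    intro i
    have hdvd : (X - C (r i)) ^ (a i + 1) ∣
        Dp r a (Finset.univ.erase i) * ((gs i : ↥(degreeLT k (a i))) : k[X]) := by
      have h1 : (X - C (r i)) ^ (a i + 1) ∣ Dp r a Finset.univ * (g : k[X]) :=
        Dvd.dvd.mul_right
          (Finset.dvd_prod_of_mem (fun j => (X - C (r j)) ^ (a j + 1)) (Finset.mem_univ i)) _
      have h2 : ∀ j ∈ Finset.univ.erase i, (X - C (r i)) ^ (a i + 1) ∣
          Dp r a (Finset.univ.erase j) * ((gs j : ↥(degreeLT k (a j))) : k[X]) := by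
        intro j hj
        have hij : i ∈ Finset.univ.erase j :=
          Finset.mem_erase.mpr ⟨(Finset.ne_of_mem_erase hj).symm, Finset.mem_univ i⟩
        exact Dvd.dvd.mul_right
          (Finset.dvd_prod_of_mem (fun l => (X - C (r l)) ^ (a l + 1)) hij) _
      have h3 : (X - C (r i)) ^ (a i + 1) ∣ ∑ j ∈ Finset.univ.erase i,
          Dp r a (Finset.univ.erase j) * ((gs j : ↥(degreeLT k (a j))) : k[X]) :=
        Finset.dvd_sum h2
      have h4 : Dp r a (Finset.univ.erase i) * ((gs i : ↥(degreeLT k (a i))) : k[X]) =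
          -(Dp r a Finset.univ * (g : k[X])) - ∑ j ∈ Finset.univ.erase i,
            Dp r a (Finset.univ.erase j) * ((gs j : ↥(degreeLT k (a j))) : k[X]) := by
        rw [← Finset.add_sum_erase Finset.univ _ (Finset.mem_univ i)] at hx'
        linear_combination hx'
      rw [h4]
      exact dvd_sub (dvd_neg.mpr h1) h3
    have hcop : IsCoprime ((X - C (r i)) ^ (a i + 1)) (Dp r a (Finset.univ.erase i)) := by
      unfold Dp
      apply IsCoprime.prod_right
      intro j hj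
      apply IsCoprime.pow
      apply isCoprime_X_sub_C_of_isUnit_sub
      have hne : r i ≠ r j := fun h => (Finset.ne_of_mem_erase hj) (hr h).symm
      exact (sub_ne_zero.mpr hne).isUnit
    have hdvd2 : (X - C (r i)) ^ (a i + 1) ∣ ((gs i : ↥(degreeLT k (a i))) : k[X]) :=
      hcop.dvd_of_dvd_mul_left hdvd
    have hzero : ((gs i : ↥(degreeLT k (a i))) : k[X]) = 0 := by
      by_contra hne
      have h5 : natDegree ((gs i : ↥(degreeLT k (a i))) : k[X]) < a i :=
        (natDegree_lt_iff_degree_lt hne).mpr (mem_degreeLT.mp (gs i).2)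
      have h6 := natDegree_le_of_dvd hdvd2 hne
      rw [natDegree_pow_X_sub_C] at h6
      omega
    exact Subtype.ext hzero
  have hg : (g : k[X]) = 0 := by
    have h7 : ∑ i, Dp r a (Finset.univ.erase i) * ((gs i : ↥(degreeLT k (a i))) : k[X]) = 0 := by
      apply Finset.sum_eq_zero
      intro i _
      rw [hgs i]; simp
    rw [h7, add_zero] at hx'
    exact (mul_eq_zero.mp hx').resolve_left (Dp_ne_zero r a _)
  exact Prod.ext (Subtype.ext hg) (funext hgs)

theorem Phi_range_le (b' : ℕ) : LinearMap.range (Phi r a b') ≤ Vb r a b' := by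
  rintro _ ⟨⟨g, gs⟩, rfl⟩
  rw [Phi_apply]
  unfold Vb
  refine Submodule.add_mem _ (Submodule.mem_sup_left ?_) (Submodule.mem_sup_right ?_)
  · exact Submodule.mem_map.mpr ⟨g, g.2, rfl⟩
  · refine Submodule.sum_mem _ (fun i _ => ?_)
    exact Submodule.mem_iSup_of_mem i (Submodule.mem_map.mpr ⟨gs i, (gs i).2, rfl⟩)

theorem finrank_dom (b' : ℕ) :
    Module.finrank k (↥(degreeLT k b') × ((i : Fin m) → ↥(degreeLT k (a i)))) =
      b' + ∑ i, a i := by
  rw [Module.finrank_prod, Module.finrank_pi_fintype]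
  simp only [finrank_degreeLT]

variable [CharZero k]

theorem Vb_le (b' : ℕ) :
    Vb r a b' ≤ (degreeLT k ((∑ j, a j) + b' + 1)).map (Wm r a Finset.univ) := by
  classical
  unfold Vb
  refine sup_le ?_ (iSup_le fun i => ?_)
  · rw [degreeLT_eq_span_X_pow, Submodule.map_span, Submodule.span_le]
    rintro _ ⟨_, hx, rfl⟩
    rw [Finset.mem_coe, Finset.mem_image] at hx
    obtain ⟨s, hs, rfl⟩ := hx
    rw [Finset.mem_range] at hs
    have hs1 : ((s : k) + 1) ≠ 0 := Nat.cast_add_one_ne_zero s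
    refine Submodule.mem_map.mpr
      ⟨Ep r a Finset.univ * (C ((s : k) + 1)⁻¹ * X ^ (s + 1)), ?_, ?_⟩
    · apply mem_degreeLT_of_natDegree_lt
      have h1 := natDegree_mul_le (p := Ep r a Finset.univ) (q := C ((s : k) + 1)⁻¹ * X ^ (s + 1))
      have h2 := natDegree_C_mul_X_pow_le ((s : k) + 1)⁻¹ (s + 1)
      have h3 := Ep_natDegree_le r a Finset.univ
      omega
    · rw [LinearMap.mulLeft_apply, Wm_Ep_mul, derivative_C_mul, derivative_X_pow_succ,
        ← mul_assoc (C _) (C _), ← C_mul, inv_mul_cancel₀ hs1, C_1, one_mul]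
      rfl
  · have hle : degreeLT k (a i) ≤
        Submodule.span k (Set.range fun s : Fin (a i) => (X - C (r i)) ^ (s : ℕ)) :=
      fun g hg => mem_span_shift (r i) (a i) g hg
    refine (Submodule.map_mono hle).trans ?_
    rw [Submodule.map_span, Submodule.span_le]
    rintro _ ⟨_, ⟨s, rfl⟩, rfl⟩
    have hu : ((s : ℕ) : k) - (a i : k) ≠ 0 := by
      refine sub_ne_zero.mpr (fun h => ?_)
      have h' : (s : ℕ) = a i := Nat.cast_injective h
      have := s.2
      omega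
    have hi : i ∈ (Finset.univ : Finset (Fin m)) := Finset.mem_univ i
    refine Submodule.mem_map.mpr
      ⟨C (((s : ℕ) : k) - (a i : k))⁻¹ * ((X - C (r i)) ^ (s : ℕ) * Ep r a (Finset.univ.erase i)),
        ?_, ?_⟩
    · apply mem_degreeLT_of_natDegree_lt
      have h1 := natDegree_C_mul_le (((s : ℕ) : k) - (a i : k))⁻¹
        ((X - C (r i)) ^ (s : ℕ) * Ep r a (Finset.univ.erase i))
      have h2 := natDegree_mul_le (p := (X - C (r i)) ^ (s : ℕ))
        (q := Ep r a (Finset.univ.erase i))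
      have h3 := Ep_natDegree_le r a (Finset.univ.erase i)
      have h4 := natDegree_pow_X_sub_C (r i) (s : ℕ)
      have h5 := Finset.add_sum_erase Finset.univ a hi
      have h6 := s.2
      omega
    · rw [C_mul', map_smul, Wm_pow_mul_Ep_erase r a hi, LinearMap.mulLeft_apply,
        ← C_mul', ← mul_assoc, ← C_mul, inv_mul_cancel₀ hu, C_1, one_mul, mul_comm]
      rfl

theorem map_finiteDimensional (n : ℕ) :
    FiniteDimensional k ↥((degreeLT k n).map (Wm r a Finset.univ)) :=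
  Module.Finite.map _ _

theorem Vb_finiteDimensional (b' : ℕ) : FiniteDimensional k ↥(Vb r a b') := by
  have := map_finiteDimensional r a ((∑ j, a j) + b' + 1)
  exact Submodule.finiteDimensional_of_le (Vb_le r a b')

theorem le_finrank_Vb (hr : Function.Injective r) (b' : ℕ) :
    b' + ∑ i, a i ≤ Module.finrank k ↥(Vb r a b') := by
  have := Vb_finiteDimensional r a b'
  rw [← finrank_dom (k := k) a b', ← LinearMap.finrank_range_of_inj (Phi_injective r a hr b')]
  exact Submodule.finrank_mono (Phi_range_le r a b')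

theorem finrank_map_le (n : ℕ) (hn : ∑ j, a j < n) :
    Module.finrank k ↥((degreeLT k n).map (Wm r a Finset.univ)) + 1 ≤ n := by
  have h1 := LinearMap.finrank_range_add_finrank_ker
    ((Wm r a Finset.univ).domRestrict (degreeLT k n))
  rw [LinearMap.range_domRestrict, finrank_degreeLT] at h1
  have h2 : 1 ≤ Module.finrank k
      ↥(LinearMap.ker ((Wm r a Finset.univ).domRestrict (degreeLT k n))) := by
    rw [Submodule.one_le_finrank_iff]
    intro hbot
    have hmem : (⟨Ep r a Finset.univ, Ep_mem r a _ n hn⟩ : ↥(degreeLT k n)) ∈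
        LinearMap.ker ((Wm r a Finset.univ).domRestrict (degreeLT k n)) := by
      rw [LinearMap.mem_ker, LinearMap.domRestrict_apply]
      exact Wm_Ep r a _
    rw [hbot, Submodule.mem_bot] at hmem
    exact Ep_ne_zero r a Finset.univ (congrArg Subtype.val hmem)
  omega

theorem Vb_eq (hr : Function.Injective r) (b' : ℕ) :
    Vb r a b' = (degreeLT k ((∑ j, a j) + b' + 1)).map (Wm r a Finset.univ) := by
  have := map_finiteDimensional r a ((∑ j, a j) + b' + 1)
  apply Submodule.eq_of_le_of_finrank_le (Vb_le r a b')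
  have h1 := finrank_map_le r a ((∑ j, a j) + b' + 1) (by omega)
  have h2 := le_finrank_Vb r a hr b'
  omega

theorem finrank_Vb (hr : Function.Injective r) (b' : ℕ) :
    Module.finrank k ↥(Vb r a b') = (∑ j, a j) + b' := by
  have h1 := finrank_map_le r a ((∑ j, a j) + b' + 1) (by omega)
  have h2 := le_finrank_Vb r a hr b'
  rw [← Vb_eq r a hr b'] at h1
  omega

/-- No nonzero member of `V` is divisible by `(X - q)^N` at an unmarked point `q`. -/
theorem inf_pow_eq_bot (hr : Function.Injective r) (b N : ℕ) (hN : N = (∑ j, a j) + b)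
    (q : k) (hq : ∀ j, q ≠ r j) :
    Vb r a b ⊓ (Ideal.span {(X - C q) ^ N}).restrictScalars k = ⊥ := by
  rw [eq_bot_iff]
  intro h hh
  obtain ⟨hh1, hh2⟩ := Submodule.mem_inf.mp hh
  have hdvd : (X - C q) ^ N ∣ h :=
    Ideal.mem_span_singleton.mp ((Submodule.restrictScalars_mem k _ h).mp hh2)
  rw [Vb_eq r a hr b] at hh1
  obtain ⟨P, hP, rfl⟩ := Submodule.mem_map.mp hh1
  have hP' : P ∈ degreeLT k (N + 1) := by rw [hN]; exact hP
  rw [Submodule.mem_bot]
  exact Wm_eq_zero_of_dvd r a Finset.univ q (fun j _ => hq j) N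
    (Ep_mem r a _ _ (by omega)) P hP' hdvd

/-- Members of `V` divisible by `(X - q)^(N-1)` are multiples of `W((X - q)^N)`. -/
theorem exists_smul_of_mem (hr : Function.Injective r) (b N : ℕ) (hN : N = (∑ j, a j) + b)
    (q : k) (hq : ∀ j, q ≠ r j) (n : ℕ) (hn : n + 1 = N) (h : k[X]) (hh : h ∈ Vb r a b)
    (hdvd : (X - C q) ^ n ∣ h) :
    ∃ c : k, h = c • Wm r a Finset.univ ((X - C q) ^ N) := by
  rw [Vb_eq r a hr b] at hh
  obtain ⟨P, hP, rfl⟩ := Submodule.mem_map.mp hh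
  have hP' : P ∈ degreeLT k (N + 1) := by rw [hN]; exact hP
  exact exists_smul_of_dvd r a Finset.univ q (fun j _ => hq j) N
    (Ep_mem r a _ _ (by omega)) P hP' n hn hdvd

/-- Members of `V` divisible by `(X - q)^(N-2)` lie in the span of `W((X - q)^(N-1))` and
`W((X - q)^N)`. -/
theorem inf_pow_le_span_pair (hr : Function.Injective r) (b N : ℕ) (hN : N = (∑ j, a j) + b)
    (q : k) (hq : ∀ j, q ≠ r j) (n : ℕ) (hn : n + 2 = N) :
    Vb r a b ⊓ (Ideal.span {(X - C q) ^ n}).restrictScalars k ≤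
      Submodule.span k {Wm r a Finset.univ ((X - C q) ^ (n + 1)),
        Wm r a Finset.univ ((X - C q) ^ (n + 2))} := by
  intro h hh
  obtain ⟨hh1, hh2⟩ := Submodule.mem_inf.mp hh
  have hdvd : (X - C q) ^ n ∣ h :=
    Ideal.mem_span_singleton.mp ((Submodule.restrictScalars_mem k _ h).mp hh2)
  rw [Vb_eq r a hr b] at hh1
  obtain ⟨P, hP, rfl⟩ := Submodule.mem_map.mp hh1
  have hP' : P ∈ degreeLT k (N + 1) := by rw [hN]; exact hP
  obtain ⟨c₁, c₂, hc⟩ := exists_pair_of_dvd r a Finset.univ q (fun j _ => hq j) N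
    (Ep_mem r a _ _ (by omega)) P hP' n hn hdvd
  rw [Submodule.mem_span_pair]
  exact ⟨c₁, c₂, hc.symm⟩

end main

end Groth.Agent.H88.PolarW
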