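import Groth.Agent.H88.PolarW

/-!
# Two unmarked points (helper88): companion to `PolarW`
-/

set_option autoImplicit false

namespace Groth.Agent.H88.PolarW

open Polynomial

section twopoints

variable {k : Type*} [Field k] [CharZero k] {m : ℕ} (r : Fin m → k) (a : Fin m → ℕ)

theorem Wm_eq_zero_of_two_points (T : Finset (Fin m)) (p q : k) (hpq : p ≠ q)
    (hp : ∀ j ∈ T, p ≠ r j) (hq : ∀ j ∈ T, q ≠ r j) (N i j : ℕ) (hij : N < i + 1 + (j + 1))
    (hE : Ep r a T ∈ degreeLT k (N + 1)) (P : k[X]) (hP : P ∈ degreeLT k (N + 1))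
    (hi : (X - C p) ^ i ∣ Wm r a T P) (hj : (X - C q) ^ j ∣ Wm r a T P)
    (hc : P.eval p * (Ep r a T).eval q = P.eval q * (Ep r a T).eval p) : Wm r a T P = 0 := by
  have hEp := Ep_eval_ne_zero r a T p hp
  have hEq := Ep_eval_ne_zero r a T q hq
  obtain ⟨c, hc'⟩ : ∃ c : k, c = P.eval p / (Ep r a T).eval p := ⟨_, rfl⟩
  obtain ⟨Q, hQ⟩ : ∃ Q : k[X], Q = P - C c * Ep r a T := ⟨_, rfl⟩
  have hWQ : Wm r a T Q = Wm r a T P := by rw [hQ, map_sub, Wm_C_mul_Ep, sub_zero]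
  have hQp : Q.eval p = 0 := by
    rw [hQ, eval_sub, eval_mul, eval_C, hc', div_mul_cancel₀ _ hEp, sub_self]
  have hQq : Q.eval q = 0 := by
    rw [hQ, eval_sub, eval_mul, eval_C, hc']
    have h1 : P.eval q = P.eval p / (Ep r a T).eval p * (Ep r a T).eval q := by
      rw [div_mul_eq_mul_div, eq_div_iff hEp]
      exact hc.symm
    exact sub_eq_zero.mpr h1
  have hQmem : Q ∈ degreeLT k (N + 1) := by
    rw [hQ, C_mul']; exact Submodule.sub_mem _ hP (Submodule.smul_mem _ _ hE)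
  rw [← hWQ] at hi hj ⊢
  have h1 := dvd_of_dvd_Wm r a T p (Rp_eval_ne_zero r T p hp) i Q hQp hi
  have h2 := dvd_of_dvd_Wm r a T q (Rp_eval_ne_zero r T q hq) j Q hQq hj
  have hcop : IsCoprime ((X - C p) ^ (i + 1)) ((X - C q) ^ (j + 1)) :=
    IsCoprime.pow (isCoprime_X_sub_C_of_isUnit_sub (sub_ne_zero.mpr hpq).isUnit)
  have h3 : (X - C p) ^ (i + 1) * (X - C q) ^ (j + 1) ∣ Q := hcop.mul_dvd h1 h2
  have hQ0 : Q = 0 := by
    by_contra hne
    have h4 := natDegree_le_of_dvd h3 hne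
    rw [natDegree_mul (pow_ne_zero _ (X_sub_C_ne_zero p)) (pow_ne_zero _ (X_sub_C_ne_zero q)),
      natDegree_pow_X_sub_C, natDegree_pow_X_sub_C] at h4
    have h5 : Q.natDegree < N + 1 :=
      (natDegree_lt_iff_degree_lt hne).mpr (mem_degreeLT.mp hQmem)
    omega
  rw [hQ0, map_zero]

theorem finrank_inf_eq_zero_of_dvd (hr : Function.Injective r) (b N : ℕ)
    (hN : N = (∑ j, a j) + b) (q : k) (hq : ∀ j, q ≠ r j) (V : Submodule k k[X])
    (hV : V ≤ Vb r a b) (f : k[X]) (hf : (X - C q) ^ N ∣ f) :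
    Module.finrank k ↥(V ⊓ (Ideal.span {f}).restrictScalars k) = 0 := by
  have hle : V ⊓ (Ideal.span {f}).restrictScalars k ≤ ⊥ := by
    rw [← inf_pow_eq_bot r a hr b N hN q hq]
    refine inf_le_inf hV ?_
    intro h hh
    have hd := Ideal.mem_span_singleton.mp ((Submodule.restrictScalars_mem k _ h).mp hh)
    exact (Submodule.restrictScalars_mem k _ h).mpr
      (Ideal.mem_span_singleton.mpr (dvd_trans hf hd))
  rw [le_bot_iff.mp hle, finrank_bot]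

theorem finrank_le_one_of_two_points (hr : Function.Injective r) (b N : ℕ)
    (hN : N = (∑ j, a j) + b) (p q : k) (hpq : p ≠ q) (hp : ∀ j, p ≠ r j) (hq : ∀ j, q ≠ r j)
    (i j : ℕ) (hij : N < i + 1 + (j + 1)) (T' : Submodule k k[X]) (hT' : T' ≤ Vb r a b)
    (hdvd : ∀ h ∈ T', (X - C p) ^ i ∣ h ∧ (X - C q) ^ j ∣ h) :
    Module.finrank k ↥T' ≤ 1 := by
  by_cases hbot : T' = ⊥
  · rw [hbot, finrank_bot]; exact Nat.zero_le 1
  obtain ⟨h₁, hh₁, hh₁0⟩ := Submodule.exists_mem_ne_zero_of_ne_bot hbot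
  have hEmem : Ep r a Finset.univ ∈ degreeLT k (N + 1) := Ep_mem r a _ _ (by omega)
  have hpre : ∀ h ∈ T', ∃ P ∈ degreeLT k (N + 1), Wm r a Finset.univ P = h := by
    intro h hh
    have h1 := hT' hh
    rw [Vb_eq r a hr b] at h1
    obtain ⟨P, hP, hPh⟩ := Submodule.mem_map.mp h1
    exact ⟨P, by rw [hN]; exact hP, hPh⟩
  obtain ⟨P₁, hP₁, hW₁⟩ := hpre h₁ hh₁
  have hδ : ∀ P : k[X], P ∈ degreeLT k (N + 1) → Wm r a Finset.univ P ∈ T' →
      P.eval q * (Ep r a Finset.univ).eval p - P.eval p * (Ep r a Finset.univ).eval q = 0 →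
      Wm r a Finset.univ P = 0 := by
    intro P hP hWP hδ0
    have hd := hdvd _ hWP
    exact Wm_eq_zero_of_two_points r a Finset.univ p q hpq (fun j _ => hp j) (fun j _ => hq j)
      N i j hij hEmem P hP hd.1 hd.2 (by linear_combination -hδ0)
  obtain ⟨δ₁, hδ₁⟩ : ∃ δ₁ : k, δ₁ = P₁.eval q * (Ep r a Finset.univ).eval p -
      P₁.eval p * (Ep r a Finset.univ).eval q := ⟨_, rfl⟩
  have hδ₁0 : δ₁ ≠ 0 := by
    intro h0
    apply hh₁0
    rw [← hW₁]
    exact hδ P₁ hP₁ (by rw [hW₁]; exact hh₁) (by rw [← hδ₁]; exact h0)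
  have hle : T' ≤ Submodule.span k {h₁} := by
    intro h₂ hh₂
    obtain ⟨P₂, hP₂, hW₂⟩ := hpre h₂ hh₂
    obtain ⟨δ₂, hδ₂⟩ : ∃ δ₂ : k, δ₂ = P₂.eval q * (Ep r a Finset.univ).eval p -
        P₂.eval p * (Ep r a Finset.univ).eval q := ⟨_, rfl⟩
    have hPm : δ₂ • P₁ - δ₁ • P₂ ∈ degreeLT k (N + 1) :=
      Submodule.sub_mem _ (Submodule.smul_mem _ _ hP₁) (Submodule.smul_mem _ _ hP₂)
    have hWP : Wm r a Finset.univ (δ₂ • P₁ - δ₁ • P₂) = δ₂ • h₁ - δ₁ • h₂ := by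
      rw [map_sub, map_smul, map_smul, hW₁, hW₂]
    have hz := hδ (δ₂ • P₁ - δ₁ • P₂) hPm
      (by rw [hWP]; exact T'.sub_mem (T'.smul_mem _ hh₁) (T'.smul_mem _ hh₂))
      (by
        simp only [eval_sub, eval_smul, smul_eq_mul]
        rw [hδ₁, hδ₂]
        ring)
    rw [hWP] at hz
    rw [Submodule.mem_span_singleton]
    refine ⟨δ₂ / δ₁, ?_⟩
    have h3 : δ₁ • h₂ = δ₂ • h₁ := (sub_eq_zero.mp hz).symm
    rw [div_eq_inv_mul, ← smul_smul, ← h3, smul_smul, inv_mul_cancel₀ hδ₁0, one_smul]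
  exact (Submodule.finrank_mono hle).trans (le_of_eq (finrank_span_singleton hh₁0))

end twopoints

end Groth.Agent.H88.PolarW
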