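import Mathlib
import Groth.Agent.H88.PolarW

/-!
# Marked-point and infinity analysis for the polar-part system `Vb`

Continuation of `PolarW`: for `W = Wm r a univ`, `V = W(k[X]_{≤ N})`, we compute
`V ∩ (x^n)` at a marked point and `V ∩ k[X]_{< d+1-n}` (vanishing at infinity).
-/

set_option autoImplicit false

open Polynomial

namespace Groth.Agent.H88.PolarW

section nochar

variable {k : Type*} [Field k] {m : ℕ} (r : Fin m → k) (a : Fin m → ℕ)

theorem mem_mult {g h : k[X]} : h ∈ (Ideal.span {g}).restrictScalars k ↔ g ∣ h := by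
  rw [Submodule.restrictScalars_mem, Ideal.mem_span_singleton]

theorem degreeLT_finiteDimensional (n : ℕ) : FiniteDimensional k ↥(degreeLT k n) :=
  Module.Finite.equiv (degreeLTEquiv k n).symm

theorem Ep_monic (T : Finset (Fin m)) : (Ep r a T).Monic :=
  monic_prod_of_monic _ _ (fun j _ => (monic_X_sub_C (r j)).pow (a j))

theorem Rp_monic (T : Finset (Fin m)) : (Rp r T).Monic :=
  monic_prod_of_monic _ _ (fun j _ => monic_X_sub_C (r j))

theorem Ep_natDegree (T : Finset (Fin m)) : (Ep r a T).natDegree = ∑ j ∈ T, a j := by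
  unfold Ep
  rw [natDegree_prod_of_monic _ _ (fun j _ => (monic_X_sub_C (r j)).pow (a j))]
  exact Finset.sum_congr rfl (fun j _ => natDegree_pow_X_sub_C _ _)

theorem Rp_natDegree (T : Finset (Fin m)) : (Rp r T).natDegree = T.card := by
  unfold Rp
  rw [natDegree_prod_of_monic _ _ (fun j _ => monic_X_sub_C (r j))]
  simp [natDegree_X_sub_C]

theorem Ep_coeff_top (T : Finset (Fin m)) : (Ep r a T).coeff (∑ j ∈ T, a j) = 1 := by
  have h := (Ep_monic r a T).leadingCoeff
  rw [leadingCoeff, Ep_natDegree] at h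
  exact h

theorem coeff_X_mul_derivative (P : k[X]) (n : ℕ) :
    (X * derivative P).coeff n = (n : k) * P.coeff n := by
  cases n with
  | zero => simp
  | succ n =>
    rw [coeff_X_mul, coeff_derivative]
    push_cast
    ring

theorem natDegree_X_mul_derivative_le (P : k[X]) :
    (X * derivative P).natDegree ≤ P.natDegree := by
  rw [natDegree_le_iff_coeff_eq_zero]
  intro N hN
  rw [coeff_X_mul_derivative, coeff_eq_zero_of_natDegree_lt hN, mul_zero]

theorem X_mul_Ep_mul_Wm (T : Finset (Fin m)) (Q : k[X]) :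
    X * Ep r a T * Wm r a T Q =
      Rp r T * (Ep r a T * (X * derivative Q) - (X * derivative (Ep r a T)) * Q) := by
  rw [Wm_apply]
  linear_combination (X * Q) * Sp_spec r a T

theorem natDegree_Wm_le (T : Finset (Fin m)) (Q : k[X]) (hW : Wm r a T Q ≠ 0) :
    (Wm r a T Q).natDegree + 1 ≤ Q.natDegree + T.card := by
  have hid := X_mul_Ep_mul_Wm r a T Q
  obtain ⟨G, hG⟩ : ∃ G : k[X],
      G = Ep r a T * (X * derivative Q) - (X * derivative (Ep r a T)) * Q := ⟨_, rfl⟩
  rw [← hG] at hid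
  have hXE : X * Ep r a T ≠ 0 := mul_ne_zero X_ne_zero (Ep_ne_zero r a T)
  have hG0 : G ≠ 0 := by
    intro h0
    rw [h0, mul_zero] at hid
    exact (mul_ne_zero hXE hW) hid
  have hGdeg : G.natDegree ≤ (∑ j ∈ T, a j) + Q.natDegree := by
    rw [hG]
    refine (natDegree_sub_le _ _).trans (max_le ?_ ?_)
    · refine natDegree_mul_le.trans ?_
      rw [Ep_natDegree]
      exact Nat.add_le_add_left (natDegree_X_mul_derivative_le Q) _
    · refine natDegree_mul_le.trans ?_
      have h1 := natDegree_X_mul_derivative_le (Ep r a T)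
      rw [Ep_natDegree] at h1
      exact Nat.add_le_add_right h1 _
  have hd := congrArg natDegree hid
  rw [natDegree_mul hXE hW, natDegree_mul X_ne_zero (Ep_ne_zero r a T), natDegree_X,
    natDegree_mul (Rp_ne_zero r T) hG0, Rp_natDegree, Ep_natDegree] at hd
  omega

theorem dvd_Wm_of_dvd_aux {T : Finset (Fin m)} {i : Fin m} (hi : i ∈ T) (n : ℕ) (Q : k[X]) :
    Wm r a T ((X - C (r i)) ^ n * Q) = (X - C (r i)) ^ n *
      (C ((n : k) - (a i : k)) * Rp r (T.erase i) * Q +
        (X - C (r i)) * (Rp r (T.erase i) * derivative Q - Sp r a (T.erase i) * Q)) := by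
  rw [Wm_apply, Rp_erase r hi, Sp_erase r a hi, derivative_mul, C_sub]
  linear_combination (Rp r (T.erase i) * Q) * pow_deriv (r i) n

theorem dvd_Wm_of_dvd {T : Finset (Fin m)} {i : Fin m} (hi : i ∈ T) (n : ℕ) (P : k[X])
    (h : (X - C (r i)) ^ n ∣ P) : (X - C (r i)) ^ n ∣ Wm r a T P := by
  obtain ⟨Q, rfl⟩ := h
  rw [dvd_Wm_of_dvd_aux r a hi]
  exact dvd_mul_right _ _

theorem finrank_degreeLT_inf_mult (q : k) (M n : ℕ) :
    Module.finrank k
      ↥(degreeLT k M ⊓ (Ideal.span {(X - C q) ^ n}).restrictScalars k) = M - n := by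
  have hx : ((X - C q) ^ n : k[X]) ≠ 0 := pow_ne_zero _ (X_sub_C_ne_zero q)
  have hEq : degreeLT k M ⊓ (Ideal.span {(X - C q) ^ n}).restrictScalars k =
      (degreeLT k (M - n)).map (LinearMap.mulLeft k ((X - C q) ^ n)) := by
    apply le_antisymm
    · intro h hh
      obtain ⟨hh1, hh2⟩ := Submodule.mem_inf.mp hh
      obtain ⟨Q, rfl⟩ := mem_mult.mp hh2
      refine Submodule.mem_map.mpr ⟨Q, ?_, rfl⟩
      by_cases hQ : Q = 0
      · rw [hQ]; exact Submodule.zero_mem _
      · have h1 : ((X - C q) ^ n * Q).natDegree < M :=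
          (natDegree_lt_iff_degree_lt (mul_ne_zero hx hQ)).mpr (mem_degreeLT.mp hh1)
        rw [natDegree_mul hx hQ, natDegree_pow_X_sub_C] at h1
        exact mem_degreeLT_of_natDegree_lt (by omega)
    · intro h hh
      obtain ⟨Q, hQ, rfl⟩ := Submodule.mem_map.mp hh
      rw [LinearMap.mulLeft_apply]
      refine Submodule.mem_inf.mpr ⟨?_, mem_mult.mpr (dvd_mul_right _ _)⟩
      by_cases hQ0 : Q = 0
      · rw [hQ0, mul_zero]; exact Submodule.zero_mem _
      · have h1 : Q.natDegree < M - n :=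
          (natDegree_lt_iff_degree_lt hQ0).mpr (mem_degreeLT.mp hQ)
        apply mem_degreeLT_of_natDegree_lt
        rw [natDegree_mul hx hQ0, natDegree_pow_X_sub_C]
        omega
  rw [hEq]
  have hinj : Function.Injective
      ((LinearMap.mulLeft k ((X - C q) ^ n)).domRestrict (degreeLT k (M - n))) := by
    intro u v huv
    rw [LinearMap.domRestrict_apply, LinearMap.domRestrict_apply, LinearMap.mulLeft_apply,
      LinearMap.mulLeft_apply] at huv
    exact Subtype.ext (mul_left_cancel₀ hx huv)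
  have h2 := LinearMap.finrank_range_of_inj hinj
  rw [LinearMap.range_domRestrict, finrank_degreeLT] at h2
  exact h2

end nochar

section charzero3

variable {k : Type*} [Field k] [CharZero k] {m : ℕ} (r : Fin m → k) (a : Fin m → ℕ)

theorem natDegree_Wm_ge (T : Finset (Fin m)) (Q : k[X]) (hQ : Q ≠ 0)
    (hc : Q.coeff (∑ j ∈ T, a j) = 0) :
    Wm r a T Q ≠ 0 ∧ Q.natDegree + T.card ≤ (Wm r a T Q).natDegree + 1 := by
  obtain ⟨A, hA⟩ : ∃ A, A = ∑ j ∈ T, a j := ⟨_, rfl⟩
  rw [← hA] at hc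
  obtain ⟨t, ht⟩ : ∃ t, t = Q.natDegree := ⟨_, rfl⟩
  have hlc : Q.coeff t ≠ 0 := by
    rw [ht]; exact leadingCoeff_ne_zero.mpr hQ
  have htA : t ≠ A := by
    intro h
    rw [h] at hlc
    exact hlc hc
  have hEdeg : (Ep r a T).natDegree = A := by rw [hA]; exact Ep_natDegree r a T
  have hEc : (Ep r a T).coeff A = 1 := by rw [hA]; exact Ep_coeff_top r a T
  have h1 : (Ep r a T * (X * derivative Q)).coeff (A + t) = (t : k) * Q.coeff t := by
    rw [coeff_mul_add_eq_of_natDegree_le hEdeg.le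
      (by rw [ht]; exact natDegree_X_mul_derivative_le Q), hEc, one_mul, coeff_X_mul_derivative]
  have h2 : ((X * derivative (Ep r a T)) * Q).coeff (A + t) = (A : k) * Q.coeff t := by
    rw [coeff_mul_add_eq_of_natDegree_le
      ((natDegree_X_mul_derivative_le _).trans hEdeg.le) ht.ge, coeff_X_mul_derivative, hEc,
      mul_one]
  obtain ⟨G, hG⟩ : ∃ G : k[X],
      G = Ep r a T * (X * derivative Q) - (X * derivative (Ep r a T)) * Q := ⟨_, rfl⟩
  have hGc : G.coeff (A + t) ≠ 0 := by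
    rw [hG, coeff_sub, h1, h2, ← sub_mul]
    refine mul_ne_zero ?_ hlc
    rw [sub_ne_zero]
    exact fun h => htA (Nat.cast_injective h)
  have hGdeg := le_natDegree_of_ne_zero hGc
  have hG0 : G ≠ 0 := by
    intro h
    rw [h, coeff_zero] at hGc
    exact hGc rfl
  have hid := X_mul_Ep_mul_Wm r a T Q
  rw [← hG] at hid
  have hXE : X * Ep r a T ≠ 0 := mul_ne_zero X_ne_zero (Ep_ne_zero r a T)
  have hW0 : Wm r a T Q ≠ 0 := by
    intro h0
    rw [h0, mul_zero] at hid
    exact (mul_ne_zero (Rp_ne_zero r T) hG0) hid.symm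
  refine ⟨hW0, ?_⟩
  have hd := congrArg natDegree hid
  rw [natDegree_mul hXE hW0, natDegree_mul X_ne_zero (Ep_ne_zero r a T), natDegree_X,
    natDegree_mul (Rp_ne_zero r T) hG0, Rp_natDegree, hEdeg] at hd
  omega

theorem exists_eq_of_Wm_eq_zero (T : Finset (Fin m)) (P : k[X]) (h : Wm r a T P = 0) :
    ∃ c : k, P = C c * Ep r a T := by
  refine ⟨P.coeff (∑ j ∈ T, a j), ?_⟩
  by_contra hne
  have hQ0 : P - C (P.coeff (∑ j ∈ T, a j)) * Ep r a T ≠ 0 := sub_ne_zero.mpr hne
  have hc : (P - C (P.coeff (∑ j ∈ T, a j)) * Ep r a T).coeff (∑ j ∈ T, a j) = 0 := by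
    rw [coeff_sub, coeff_C_mul, Ep_coeff_top, mul_one, sub_self]
  apply (natDegree_Wm_ge r a T _ hQ0 hc).1
  rw [map_sub, Wm_C_mul_Ep, sub_zero, h]

/-- Rank–nullity for `W` on a finite-dimensional subspace. -/
theorem finrank_map_Wm (T : Finset (Fin m)) (U : Submodule k k[X]) [FiniteDimensional k ↥U] :
    (Ep r a T ∈ U → Module.finrank k ↥(U.map (Wm r a T)) + 1 = Module.finrank k ↥U) ∧
    (Ep r a T ∉ U → Module.finrank k ↥(U.map (Wm r a T)) = Module.finrank k ↥U) := by
  have h1 := LinearMap.finrank_range_add_finrank_ker ((Wm r a T).domRestrict U)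
  rw [LinearMap.range_domRestrict] at h1
  constructor
  · intro hE
    have hker : LinearMap.ker ((Wm r a T).domRestrict U) =
        Submodule.span k {(⟨Ep r a T, hE⟩ : ↥U)} := by
      ext x
      obtain ⟨P, hP⟩ := x
      rw [LinearMap.mem_ker, LinearMap.domRestrict_apply, Submodule.mem_span_singleton]
      constructor
      · intro h
        obtain ⟨c, hc⟩ := exists_eq_of_Wm_eq_zero r a T P h
        refine ⟨c, Subtype.ext ?_⟩
        rw [Submodule.coe_smul]
        show c • Ep r a T = P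
        rw [hc, C_mul']
      · rintro ⟨c, hc⟩
        have h3 : P = c • Ep r a T := by
          have h4 := congrArg Subtype.val hc
          rw [Submodule.coe_smul] at h4
          exact h4.symm
        show Wm r a T P = 0
        rw [h3, map_smul, Wm_Ep, smul_zero]
    have hne : (⟨Ep r a T, hE⟩ : ↥U) ≠ 0 := by
      intro h
      exact Ep_ne_zero r a T (congrArg Subtype.val h)
    rw [hker, finrank_span_singleton hne] at h1
    exact h1
  · intro hE
    have hker : LinearMap.ker ((Wm r a T).domRestrict U) = ⊥ := by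
      rw [LinearMap.ker_eq_bot']
      intro x h
      obtain ⟨P, hP⟩ := x
      rw [LinearMap.domRestrict_apply] at h
      obtain ⟨c, hc⟩ := exists_eq_of_Wm_eq_zero r a T P h
      have hc0 : c = 0 := by
        by_contra hc0
        apply hE
        have h5 : Ep r a T = c⁻¹ • P := by
          rw [hc, C_mul', smul_smul, inv_mul_cancel₀ hc0, one_smul]
        rw [h5]
        exact U.smul_mem _ hP
      apply Subtype.ext
      show P = 0
      rw [hc, hc0, C_0, zero_mul]
    rw [hker, finrank_bot, add_zero] at h1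
    exact h1

theorem eval_eq_zero_of_dvd_Wm {T : Finset (Fin m)} {i : Fin m} (hi : i ∈ T)
    (hR : (Rp r (T.erase i)).eval (r i) ≠ 0) (n : ℕ) (hn : n ≠ a i) (Q : k[X])
    (h : (X - C (r i)) ^ (n + 1) ∣ Wm r a T ((X - C (r i)) ^ n * Q)) : Q.eval (r i) = 0 := by
  rw [dvd_Wm_of_dvd_aux r a hi, pow_succ,
    mul_dvd_mul_iff_left (pow_ne_zero n (X_sub_C_ne_zero _))] at h
  have h2 : (X - C (r i)) ∣ C ((n : k) - (a i : k)) * Rp r (T.erase i) * Q := by
    have h3 : (X - C (r i)) ∣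
        (X - C (r i)) * (Rp r (T.erase i) * derivative Q - Sp r a (T.erase i) * Q) :=
      dvd_mul_right _ _
    exact (dvd_add_left h3).mp h
  have h4 : (C ((n : k) - (a i : k)) * Rp r (T.erase i) * Q).eval (r i) = 0 :=
    dvd_iff_isRoot.mp h2
  rw [eval_mul, eval_mul, eval_C] at h4
  have hne : ((n : k) - (a i : k)) ≠ 0 := by
    rw [sub_ne_zero]
    exact fun h => hn (Nat.cast_injective h)
  rcases mul_eq_zero.mp h4 with h | h
  · rcases mul_eq_zero.mp h with h' | h'
    · exact absurd h' hne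
    · exact absurd h' hR
  · exact h

theorem dvd_of_dvd_Wm_le {T : Finset (Fin m)} {i : Fin m} (hi : i ∈ T)
    (hR : (Rp r (T.erase i)).eval (r i) ≠ 0) :
    ∀ n, n ≤ a i → ∀ P : k[X], (X - C (r i)) ^ n ∣ Wm r a T P → (X - C (r i)) ^ n ∣ P := by
  intro n
  induction n with
  | zero =>
    intro _ P _
    rw [pow_zero]
    exact one_dvd _
  | succ n ih =>
    intro hn P hdvd
    have h1 : (X - C (r i)) ^ n ∣ Wm r a T P :=
      dvd_trans (pow_dvd_pow _ (Nat.le_succ n)) hdvd
    obtain ⟨Q, rfl⟩ := ih (by omega) P h1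
    have hQ := eval_eq_zero_of_dvd_Wm r a hi hR n (by omega) Q hdvd
    obtain ⟨Q₂, rfl⟩ := dvd_iff_isRoot.mpr hQ
    exact ⟨Q₂, by ring⟩

theorem dvd_of_dvd_Wm_gt {T : Finset (Fin m)} {i : Fin m} (hi : i ∈ T)
    (hR : (Rp r (T.erase i)).eval (r i) ≠ 0) :
    ∀ t : ℕ, ∀ P : k[X], (X - C (r i)) ^ (a i + 1) ∣ P →
      (X - C (r i)) ^ (a i + 1 + t) ∣ Wm r a T P → (X - C (r i)) ^ (a i + 1 + t) ∣ P := by
  intro t
  induction t with
  | zero =>
    intro P hP _
    exact hP
  | succ t ih =>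
    intro P hP hdvd
    have h1 : (X - C (r i)) ^ (a i + 1 + t) ∣ Wm r a T P :=
      dvd_trans (pow_dvd_pow _ (by omega)) hdvd
    obtain ⟨Q, rfl⟩ := ih P hP h1
    have hQ := eval_eq_zero_of_dvd_Wm r a hi hR (a i + 1 + t) (by omega) Q hdvd
    obtain ⟨Q₂, rfl⟩ := dvd_iff_isRoot.mpr hQ
    exact ⟨Q₂, by ring⟩

theorem exists_sub_of_dvd_Wm {T : Finset (Fin m)} {i : Fin m} (hi : i ∈ T)
    (hR : (Rp r (T.erase i)).eval (r i) ≠ 0) (hE : (Ep r a (T.erase i)).eval (r i) ≠ 0)
    (n : ℕ) (hn : a i < n) (P : k[X]) (h : (X - C (r i)) ^ n ∣ Wm r a T P) :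
    ∃ c : k, (X - C (r i)) ^ n ∣ P - C c * Ep r a T := by
  have h1 : (X - C (r i)) ^ (a i) ∣ Wm r a T P := dvd_trans (pow_dvd_pow _ hn.le) h
  obtain ⟨Q, hQ⟩ := dvd_of_dvd_Wm_le r a hi hR (a i) le_rfl P h1
  obtain ⟨c, hc⟩ : ∃ c : k, c = Q.eval (r i) / (Ep r a (T.erase i)).eval (r i) := ⟨_, rfl⟩
  refine ⟨c, ?_⟩
  have h2 : P - C c * Ep r a T =
      (X - C (r i)) ^ (a i) * (Q - C c * Ep r a (T.erase i)) := by
    rw [hQ, Ep_erase r a hi]; ring
  have h3 : (Q - C c * Ep r a (T.erase i)).eval (r i) = 0 := by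
    rw [eval_sub, eval_mul, eval_C, hc, div_mul_cancel₀ _ hE, sub_self]
  obtain ⟨Q₂, hQ₂⟩ := dvd_iff_isRoot.mpr h3
  have h4 : (X - C (r i)) ^ (a i + 1) ∣ P - C c * Ep r a T :=
    ⟨Q₂, by rw [h2, hQ₂]; ring⟩
  have h5 : Wm r a T (P - C c * Ep r a T) = Wm r a T P := by
    rw [map_sub, Wm_C_mul_Ep, sub_zero]
  obtain ⟨t, rfl⟩ : ∃ t, n = a i + 1 + t := ⟨n - (a i + 1), by omega⟩
  exact dvd_of_dvd_Wm_gt r a hi hR t _ h4 (by rw [h5]; exact h)

/-- `V ∩ (x^n) = W(k[X]_{≤N} ∩ (x^n))` at a marked point. -/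
theorem inf_mult_eq_map (hr : Function.Injective r) (b N : ℕ) (hN : N = (∑ j, a j) + b)
    (i : Fin m) (n : ℕ) :
    Vb r a b ⊓ (Ideal.span {(X - C (r i)) ^ n}).restrictScalars k =
      (degreeLT k (N + 1) ⊓ (Ideal.span {(X - C (r i)) ^ n}).restrictScalars k).map
        (Wm r a Finset.univ) := by
  have hi : i ∈ (Finset.univ : Finset (Fin m)) := Finset.mem_univ i
  have hne : ∀ j ∈ (Finset.univ : Finset (Fin m)).erase i, r i ≠ r j :=
    fun j hj h => (Finset.ne_of_mem_erase hj) (hr h).symm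
  have hRi : (Rp r (Finset.univ.erase i)).eval (r i) ≠ 0 := Rp_eval_ne_zero r _ (r i) hne
  have hEi : (Ep r a (Finset.univ.erase i)).eval (r i) ≠ 0 := Ep_eval_ne_zero r a _ (r i) hne
  have hEL : Ep r a Finset.univ ∈ degreeLT k (N + 1) := Ep_mem r a _ _ (by omega)
  have hV : Vb r a b = (degreeLT k (N + 1)).map (Wm r a Finset.univ) := by
    rw [hN]; exact Vb_eq r a hr b
  rw [hV]
  apply le_antisymm
  · intro h hh
    obtain ⟨hh1, hh2⟩ := Submodule.mem_inf.mp hh
    have hdvd := mem_mult.mp hh2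
    obtain ⟨P, hP, rfl⟩ := Submodule.mem_map.mp hh1
    by_cases hn : n ≤ a i
    · exact Submodule.mem_map.mpr ⟨P, Submodule.mem_inf.mpr
        ⟨hP, mem_mult.mpr (dvd_of_dvd_Wm_le r a hi hRi n hn P hdvd)⟩, rfl⟩
    · push Not at hn
      obtain ⟨c, hc⟩ := exists_sub_of_dvd_Wm r a hi hRi hEi n hn P hdvd
      refine Submodule.mem_map.mpr ⟨P - C c * Ep r a Finset.univ,
        Submodule.mem_inf.mpr ⟨?_, mem_mult.mpr hc⟩, ?_⟩
      · rw [C_mul']
        exact Submodule.sub_mem _ hP (Submodule.smul_mem _ _ hEL)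
      · rw [map_sub, Wm_C_mul_Ep, sub_zero]
  · intro h hh
    obtain ⟨P, hP, rfl⟩ := Submodule.mem_map.mp hh
    obtain ⟨hP1, hP2⟩ := Submodule.mem_inf.mp hP
    exact Submodule.mem_inf.mpr ⟨Submodule.mem_map.mpr ⟨P, hP1, rfl⟩,
      mem_mult.mpr (dvd_Wm_of_dvd r a hi n P (mem_mult.mp hP2))⟩

theorem finrank_inf_mult (hr : Function.Injective r) (b N : ℕ) (hN : N = (∑ j, a j) + b)
    (i : Fin m) (n : ℕ) :
    Module.finrank k ↥(Vb r a b ⊓ (Ideal.span {(X - C (r i)) ^ n}).restrictScalars k) =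
      if n ≤ a i then N - n else N + 1 - n := by
  rw [inf_mult_eq_map r a hr b N hN i n]
  have hfdL := degreeLT_finiteDimensional (k := k) (N + 1)
  have hfd : FiniteDimensional k
      ↥(degreeLT k (N + 1) ⊓ (Ideal.span {(X - C (r i)) ^ n}).restrictScalars k) :=
    Submodule.finiteDimensional_of_le inf_le_left
  obtain ⟨h1, h2⟩ := finrank_map_Wm r a Finset.univ
    (degreeLT k (N + 1) ⊓ (Ideal.span {(X - C (r i)) ^ n}).restrictScalars k)
  rw [finrank_degreeLT_inf_mult] at h1 h2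
  have hai : a i ≤ ∑ j, a j :=
    Finset.single_le_sum (fun j _ => Nat.zero_le (a j)) (Finset.mem_univ i)
  have hi : i ∈ (Finset.univ : Finset (Fin m)) := Finset.mem_univ i
  have hEL : Ep r a Finset.univ ∈ degreeLT k (N + 1) := Ep_mem r a _ _ (by omega)
  split_ifs with hn
  · have hE : Ep r a Finset.univ ∈
        degreeLT k (N + 1) ⊓ (Ideal.span {(X - C (r i)) ^ n}).restrictScalars k := by
      refine Submodule.mem_inf.mpr ⟨hEL, mem_mult.mpr ?_⟩
      rw [Ep_erase r a hi]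
      exact Dvd.dvd.mul_right (pow_dvd_pow _ hn) _
    have h3 := h1 hE
    omega
  · have hE : Ep r a Finset.univ ∉
        degreeLT k (N + 1) ⊓ (Ideal.span {(X - C (r i)) ^ n}).restrictScalars k := by
      intro hmem
      have hdvd := mem_mult.mp (Submodule.mem_inf.mp hmem).2
      have hdvd' : (X - C (r i)) ^ (a i + 1) ∣ Ep r a Finset.univ :=
        dvd_trans (pow_dvd_pow _ (by omega)) hdvd
      rw [Ep_erase r a hi, pow_succ,
        mul_dvd_mul_iff_left (pow_ne_zero _ (X_sub_C_ne_zero _))] at hdvd'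
      have hne : ∀ j ∈ (Finset.univ : Finset (Fin m)).erase i, r i ≠ r j :=
        fun j hj h => (Finset.ne_of_mem_erase hj) (hr h).symm
      exact Ep_eval_ne_zero r a _ (r i) hne (dvd_iff_isRoot.mp hdvd')
    have h3 := h2 hE
    omega

/-- `V ∩ k[X]_{<d+1-n} = W(k[X]_{<N+1-n})`: vanishing to order `n` at infinity. -/
theorem inf_degreeLT_eq_map (hr : Function.Injective r) (b N d : ℕ)
    (hN : N = (∑ j, a j) + b) (hd : d + 1 = (∑ j, (a j + 1)) + b) (n : ℕ) :
    Vb r a b ⊓ degreeLT k (d + 1 - n) =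
      (degreeLT k (N + 1 - n)).map (Wm r a Finset.univ) := by
  have hsum : ∑ j, (a j + 1) = (∑ j, a j) + m := by
    rw [Finset.sum_add_distrib, Finset.sum_const, Finset.card_univ, Fintype.card_fin,
      smul_eq_mul, mul_one]
  have hV : Vb r a b = (degreeLT k (N + 1)).map (Wm r a Finset.univ) := by
    rw [hN]; exact Vb_eq r a hr b
  have hcard : (Finset.univ : Finset (Fin m)).card = m := by
    rw [Finset.card_univ, Fintype.card_fin]
  apply le_antisymm
  · intro h hh
    obtain ⟨hh1, hh2⟩ := Submodule.mem_inf.mp hh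
    rw [hV] at hh1
    obtain ⟨P, hP, rfl⟩ := Submodule.mem_map.mp hh1
    obtain ⟨Q, hQ⟩ : ∃ Q, Q = P - C (P.coeff (∑ j, a j)) * Ep r a Finset.univ := ⟨_, rfl⟩
    have hWQ : Wm r a Finset.univ Q = Wm r a Finset.univ P := by
      rw [hQ, map_sub, Wm_C_mul_Ep, sub_zero]
    rw [← hWQ] at hh2 ⊢
    by_cases hQ0 : Q = 0
    · rw [hQ0, map_zero]; exact Submodule.zero_mem _
    · have hc : Q.coeff (∑ j ∈ Finset.univ, a j) = 0 := by
        rw [hQ, coeff_sub, coeff_C_mul, Ep_coeff_top, mul_one, sub_self]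
      obtain ⟨hW0, hge⟩ := natDegree_Wm_ge r a Finset.univ Q hQ0 hc
      rw [hcard] at hge
      have h1 : (Wm r a Finset.univ Q).natDegree < d + 1 - n :=
        (natDegree_lt_iff_degree_lt hW0).mpr (mem_degreeLT.mp hh2)
      exact Submodule.mem_map.mpr ⟨Q, mem_degreeLT_of_natDegree_lt (by omega), rfl⟩
  · intro h hh
    obtain ⟨Q, hQ, rfl⟩ := Submodule.mem_map.mp hh
    refine Submodule.mem_inf.mpr ⟨?_, ?_⟩
    · rw [hV]
      exact Submodule.mem_map.mpr ⟨Q, degreeLT_mono (by omega) hQ, rfl⟩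
    · by_cases hW0 : Wm r a Finset.univ Q = 0
      · rw [hW0]; exact Submodule.zero_mem _
      · have hQ0 : Q ≠ 0 := by
          rintro rfl
          exact hW0 (map_zero _)
        have h1 : Q.natDegree < N + 1 - n :=
          (natDegree_lt_iff_degree_lt hQ0).mpr (mem_degreeLT.mp hQ)
        have h2 := natDegree_Wm_le r a Finset.univ Q hW0
        rw [hcard] at h2
        exact mem_degreeLT_of_natDegree_lt (by omega)

theorem finrank_inf_degreeLT (hr : Function.Injective r) (b N d : ℕ)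
    (hN : N = (∑ j, a j) + b) (hd : d + 1 = (∑ j, (a j + 1)) + b) (n : ℕ) :
    Module.finrank k ↥(Vb r a b ⊓ degreeLT k (d + 1 - n)) =
      if n ≤ b then N - n else N + 1 - n := by
  rw [inf_degreeLT_eq_map r a hr b N d hN hd n]
  have hfd := degreeLT_finiteDimensional (k := k) (N + 1 - n)
  obtain ⟨h1, h2⟩ := finrank_map_Wm r a Finset.univ (degreeLT k (N + 1 - n))
  rw [finrank_degreeLT] at h1 h2
  split_ifs with hn
  · have hE : Ep r a Finset.univ ∈ degreeLT k (N + 1 - n) := Ep_mem r a _ _ (by omega)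
    have h3 := h1 hE
    omega
  · have hE : Ep r a Finset.univ ∉ degreeLT k (N + 1 - n) := by
      intro hmem
      have h3 : (Ep r a Finset.univ).natDegree < N + 1 - n :=
        (natDegree_lt_iff_degree_lt (Ep_ne_zero r a _)).mpr (mem_degreeLT.mp hmem)
      rw [Ep_natDegree] at h3
      omega
    have h3 := h2 hE
    omega

end charzero3

end Groth.Agent.H88.PolarW
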