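import Mathlib
import Groth.Agent.H88.PolarW3

/-!
# Weights of hyperplanes of the polar-part system `Vb` at the marked points

Pure counting lemmas, an abstract "weight of a hyperplane along a filtration" computation,
and its specialisations to the filtrations of `Vb r a b` by order of vanishing at a marked
point `r i` and at infinity.
-/

set_option autoImplicit false

open Polynomial

namespace Groth.Agent.H88.PolarW

section nat

theorem sum_range_id_eq_choose (t : ℕ) : ∑ j ∈ Finset.range t, j = t.choose 2 := by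
  induction t with
  | zero => rfl
  | succ t ih =>
    rw [Finset.sum_range_succ, ih]
    have h : (t + 1).choose 2 = t.choose 1 + t.choose 2 := Nat.choose_succ_succ t 1
    rw [h, Nat.choose_one_right]
    omega

theorem sum_range_ind (t c : ℕ) :
    ∑ j ∈ Finset.range t, (if j < c then 1 else 0) = min t c := by
  induction t with
  | zero => simp
  | succ t ih =>
    rw [Finset.sum_range_succ, ih]
    split_ifs <;> omega

theorem sumF (N e : ℕ) (F : ℕ → ℕ)
    (hF : ∀ n, n + 1 ≤ N → F n = if n + 1 ≤ e then N - (n + 1) else N + 1 - (n + 1)) :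
    ∑ n ∈ Finset.range N, F n = N.choose 2 + (N - e) := by
  rw [← Finset.sum_range_reflect F N]
  have h1 : ∀ j ∈ Finset.range N, F (N - 1 - j) = j + (if j < N - e then 1 else 0) := by
    intro j hj
    have hj' := Finset.mem_range.mp hj
    rw [hF (N - 1 - j) (by omega)]
    split_ifs <;> omega
  rw [Finset.sum_congr rfl h1, Finset.sum_add_distrib, sum_range_id_eq_choose, sum_range_ind]
  omega

theorem sumG (N e : ℕ) (hN : 1 ≤ N) (F G : ℕ → ℕ)
    (hF : ∀ n, n + 1 ≤ N → F n = if n + 1 ≤ e then N - (n + 1) else N + 1 - (n + 1))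
    (hFG : ∀ n, n + 2 ≤ N → G n + 1 = F n)
    (h1 : G (N - 1) ≤ F (N - 1)) (h2 : F (N - 1) ≤ G (N - 1) + 1) :
    ∃ ε : ℕ, ε ≤ 1 ∧
      (∑ n ∈ Finset.range N, G n) + 1 = (N - 1).choose 2 + (N - e) + ε := by
  obtain ⟨M, rfl⟩ : ∃ M, N = M + 1 := ⟨N - 1, by omega⟩
  have hsF := sumF (M + 1) e F hF
  rw [Finset.sum_range_succ] at hsF ⊢
  have hs : ∑ n ∈ Finset.range M, F n = (∑ n ∈ Finset.range M, G n) + M := by
    have hh : ∀ n ∈ Finset.range M, F n = G n + 1 := fun n hn =>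
      (hFG n (by have := Finset.mem_range.mp hn; omega)).symm
    rw [Finset.sum_congr rfl hh, Finset.sum_add_distrib, Finset.sum_const, Finset.card_range,
      smul_eq_mul, mul_one]
  have hc : (M + 1).choose 2 = M.choose 1 + M.choose 2 := Nat.choose_succ_succ M 1
  rw [Nat.choose_one_right] at hc
  simp only [Nat.add_sub_cancel] at h1 h2 ⊢
  refine ⟨G M + 1 - F M, by omega, ?_⟩
  omega

theorem sumG2 (N e : ℕ) (hN : 1 ≤ N) (he : 1 ≤ e) (F G : ℕ → ℕ)
    (hF : ∀ n, n + 1 ≤ N → F n = if n + 1 ≤ e then N - (n + 1) else N + 1 - (n + 1))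
    (hFG : ∀ n, 1 ≤ n → G n = F n)
    (h1 : G 0 ≤ F 0) (h2 : F 0 ≤ G 0 + 1) :
    ∃ ε : ℕ, ε ≤ 1 ∧
      ∑ n ∈ Finset.range N, G n = (N - 1).choose 2 + (N - e) + (N - 2) + ε := by
  obtain ⟨M, rfl⟩ : ∃ M, N = M + 1 := ⟨N - 1, by omega⟩
  have hsF := sumF (M + 1) e F hF
  have hF0 : F 0 = M := by
    rw [hF 0 (by omega)]
    split_ifs <;> omega
  rw [Finset.sum_range_succ'] at hsF ⊢
  have hs : ∑ n ∈ Finset.range M, G (n + 1) = ∑ n ∈ Finset.range M, F (n + 1) :=
    Finset.sum_congr rfl (fun n _ => hFG (n + 1) (by omega))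
  have hc : (M + 1).choose 2 = M.choose 1 + M.choose 2 := Nat.choose_succ_succ M 1
  rw [Nat.choose_one_right] at hc
  rw [hs]
  simp only [Nat.add_sub_cancel]
  refine ⟨G 0 - (M - 1), by omega, ?_⟩
  omega

theorem sum_range_eq_of_zero (d N : ℕ) (G : ℕ → ℕ) (h1 : ∀ n, N ≤ n → G n = 0)
    (h2 : ∀ n, d ≤ n → G n = 0) :
    ∑ n ∈ Finset.range d, G n = ∑ n ∈ Finset.range N, G n := by
  rcases le_total d N with h | h
  · exact Finset.sum_subset (Finset.range_mono h)
      (fun n _ hn => h2 n (by simpa using hn))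
  · exact (Finset.sum_subset (Finset.range_mono h)
      (fun n _ hn => h1 n (by simpa using hn))).symm

end nat

section linalg

variable {K M : Type*} [Field K] [AddCommGroup M] [Module K M]

theorem finrank_inf_hyperplane (V V₁ A : Submodule K M) (hle : V₁ ≤ V) [FiniteDimensional K ↥V]
    (hfin : Module.finrank K ↥V₁ + 1 = Module.finrank K ↥V) :
    Module.finrank K ↥(V₁ ⊓ A) ≤ Module.finrank K ↥(V ⊓ A) ∧
    Module.finrank K ↥(V ⊓ A) ≤ Module.finrank K ↥(V₁ ⊓ A) + 1 ∧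
    (¬ (V ⊓ A ≤ V₁) → Module.finrank K ↥(V₁ ⊓ A) + 1 = Module.finrank K ↥(V ⊓ A)) ∧
    (V ⊓ A ≤ V₁ → Module.finrank K ↥(V₁ ⊓ A) = Module.finrank K ↥(V ⊓ A)) := by
  have hfd1 : FiniteDimensional K ↥V₁ := Submodule.finiteDimensional_of_le hle
  have hfdB : FiniteDimensional K ↥(V ⊓ A) := Submodule.finiteDimensional_of_le inf_le_left
  have e : V₁ ⊓ A = V₁ ⊓ (V ⊓ A) := by rw [← inf_assoc, inf_eq_left.mpr hle]
  have hsupV : V₁ ⊔ (V ⊓ A) ≤ V := sup_le hle inf_le_left
  have hfdS : FiniteDimensional K ↥(V₁ ⊔ (V ⊓ A)) := Submodule.finiteDimensional_of_le hsupV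
  have hdim := Submodule.finrank_sup_add_finrank_inf_eq V₁ (V ⊓ A)
  have hS := Submodule.finrank_mono hsupV
  rw [← e] at hdim
  refine ⟨Submodule.finrank_mono (inf_le_inf_right A hle), by omega, ?_, ?_⟩
  · intro hn
    have hlt : V₁ < V₁ ⊔ (V ⊓ A) := by
      refine lt_of_le_of_ne le_sup_left ?_
      intro h
      apply hn
      exact le_trans le_sup_right (le_of_eq h.symm)
    have := Submodule.finrank_lt_finrank_of_lt hlt
    omega
  · intro h
    rw [e, inf_eq_right.mpr h]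

theorem weight_sum (V V₁ : Submodule K M) (hle : V₁ ≤ V) (N : ℕ) (hN : 1 ≤ N)
    [FiniteDimensional K ↥V]
    (hfinV : Module.finrank K ↥V = N) (hfin : Module.finrank K ↥V₁ + 1 = N)
    (Fil : ℕ → Submodule K M) (hanti : Antitone Fil) (e d : ℕ)
    (hf : ∀ n, Module.finrank K ↥(V ⊓ Fil n) = if n ≤ e then N - n else N + 1 - n)
    (hd0 : ∀ n, d ≤ n → Module.finrank K ↥(V ⊓ Fil (n + 1)) = 0)
    (hkey : 2 ≤ N → ¬ (V ⊓ Fil (N - 1) ≤ V₁)) :
    ∃ ε : ℕ, ε ≤ 1 ∧
      (∑ n ∈ Finset.range d, Module.finrank K ↥(V₁ ⊓ Fil (n + 1))) + 1 =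
        (N - 1).choose 2 + (N - e) + ε := by
  have hfin' : Module.finrank K ↥V₁ + 1 = Module.finrank K ↥V := by rw [hfin, hfinV]
  have hH := fun n => finrank_inf_hyperplane V V₁ (Fil n) hle hfin'
  obtain ⟨F, hFdef⟩ : ∃ F : ℕ → ℕ, F = fun n => Module.finrank K ↥(V ⊓ Fil (n + 1)) :=
    ⟨_, rfl⟩
  obtain ⟨G, hGdef⟩ : ∃ G : ℕ → ℕ, G = fun n => Module.finrank K ↥(V₁ ⊓ Fil (n + 1)) :=
    ⟨_, rfl⟩
  have hFn : ∀ n, F n = Module.finrank K ↥(V ⊓ Fil (n + 1)) := fun n => by rw [hFdef]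
  have hGn : ∀ n, G n = Module.finrank K ↥(V₁ ⊓ Fil (n + 1)) := fun n => by rw [hGdef]
  have hGF : ∀ n, G n ≤ F n := fun n => by rw [hFn, hGn]; exact (hH (n + 1)).1
  have hFval : ∀ n, n + 1 ≤ N →
      F n = if n + 1 ≤ e then N - (n + 1) else N + 1 - (n + 1) :=
    fun n _ => by rw [hFn, hf]
  have hG0N : ∀ n, N ≤ n → G n = 0 := by
    intro n hn
    have h1 := hGF n
    rw [hFn, hf] at h1
    split_ifs at h1 <;> omega
  have hG0d : ∀ n, d ≤ n → G n = 0 := by
    intro n hn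
    have h1 := hGF n
    rw [hFn, hd0 n hn] at h1
    omega
  have hFG : ∀ n, n + 2 ≤ N → G n + 1 = F n := by
    intro n hn
    rw [hFn, hGn]
    apply (hH (n + 1)).2.2.1
    intro hcon
    apply hkey (by omega)
    have h1 : Fil (N - 1) ≤ Fil (n + 1) := hanti (by omega)
    exact le_trans (inf_le_inf_left V h1) hcon
  have hsum : ∑ n ∈ Finset.range d, Module.finrank K ↥(V₁ ⊓ Fil (n + 1)) =
      ∑ n ∈ Finset.range N, G n := by
    rw [← sum_range_eq_of_zero d N G hG0N hG0d]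
    exact Finset.sum_congr rfl (fun n _ => (hGn n).symm)
  rw [hsum]
  exact sumG N e hN F G hFval hFG (hGF _) (by rw [hFn, hGn]; exact (hH _).2.1)

theorem weight_sum2 (V V₁ : Submodule K M) (hle : V₁ ≤ V) (N : ℕ) (hN : 1 ≤ N)
    [FiniteDimensional K ↥V]
    (hfinV : Module.finrank K ↥V = N) (hfin : Module.finrank K ↥V₁ + 1 = N)
    (Fil : ℕ → Submodule K M) (hanti : Antitone Fil) (e d : ℕ) (he : 1 ≤ e)
    (hf : ∀ n, Module.finrank K ↥(V ⊓ Fil n) = if n ≤ e then N - n else N + 1 - n)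
    (hd0 : ∀ n, d ≤ n → Module.finrank K ↥(V ⊓ Fil (n + 1)) = 0)
    (hkey : V ⊓ Fil 2 ≤ V₁) :
    ∃ ε : ℕ, ε ≤ 1 ∧
      (∑ n ∈ Finset.range d, Module.finrank K ↥(V₁ ⊓ Fil (n + 1))) =
        (N - 1).choose 2 + (N - e) + (N - 2) + ε := by
  have hfin' : Module.finrank K ↥V₁ + 1 = Module.finrank K ↥V := by rw [hfin, hfinV]
  have hH := fun n => finrank_inf_hyperplane V V₁ (Fil n) hle hfin'
  obtain ⟨F, hFdef⟩ : ∃ F : ℕ → ℕ, F = fun n => Module.finrank K ↥(V ⊓ Fil (n + 1)) :=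
    ⟨_, rfl⟩
  obtain ⟨G, hGdef⟩ : ∃ G : ℕ → ℕ, G = fun n => Module.finrank K ↥(V₁ ⊓ Fil (n + 1)) :=
    ⟨_, rfl⟩
  have hFn : ∀ n, F n = Module.finrank K ↥(V ⊓ Fil (n + 1)) := fun n => by rw [hFdef]
  have hGn : ∀ n, G n = Module.finrank K ↥(V₁ ⊓ Fil (n + 1)) := fun n => by rw [hGdef]
  have hGF : ∀ n, G n ≤ F n := fun n => by rw [hFn, hGn]; exact (hH (n + 1)).1
  have hFval : ∀ n, n + 1 ≤ N →
      F n = if n + 1 ≤ e then N - (n + 1) else N + 1 - (n + 1) :=
    fun n _ => by rw [hFn, hf]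
  have hG0N : ∀ n, N ≤ n → G n = 0 := by
    intro n hn
    have h1 := hGF n
    rw [hFn, hf] at h1
    split_ifs at h1 <;> omega
  have hG0d : ∀ n, d ≤ n → G n = 0 := by
    intro n hn
    have h1 := hGF n
    rw [hFn, hd0 n hn] at h1
    omega
  have hFG : ∀ n, 1 ≤ n → G n = F n := by
    intro n hn
    rw [hFn, hGn]
    apply (hH (n + 1)).2.2.2
    have h1 : Fil (n + 1) ≤ Fil 2 := hanti (by omega)
    exact le_trans (inf_le_inf_left V h1) hkey
  have hsum : ∑ n ∈ Finset.range d, Module.finrank K ↥(V₁ ⊓ Fil (n + 1)) =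
      ∑ n ∈ Finset.range N, G n := by
    rw [← sum_range_eq_of_zero d N G hG0N hG0d]
    exact Finset.sum_congr rfl (fun n _ => (hGn n).symm)
  rw [hsum]
  exact sumG2 N e hN he F G hFval hFG (hGF 0) (by rw [hFn, hGn]; exact (hH _).2.1)

end linalg

section charzero

variable {k : Type*} [Field k] [CharZero k] {m : ℕ} (r : Fin m → k) (a : Fin m → ℕ)

theorem mult_antitone (q : k) :
    Antitone (fun n : ℕ => (Ideal.span {(X - C q) ^ n}).restrictScalars k) := by
  intro n n' hnn'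
  show (Ideal.span {(X - C q) ^ n'}).restrictScalars k ≤
    (Ideal.span {(X - C q) ^ n}).restrictScalars k
  intro h hh
  exact mem_mult.mpr (dvd_trans (pow_dvd_pow _ hnn') (mem_mult.mp hh))

theorem infty_antitone (d : ℕ) : Antitone (fun n : ℕ => degreeLT k (d + 1 - n)) := by
  intro n n' hnn'
  show degreeLT k (d + 1 - n') ≤ degreeLT k (d + 1 - n)
  exact degreeLT_mono (by omega)

theorem finrank_inf_degreeLT_zero (V : Submodule k k[X]) :
    Module.finrank k ↥(V ⊓ degreeLT k 0) = 0 := by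
  have hfd0 := degreeLT_finiteDimensional (k := k) 0
  have h1 : Module.finrank k ↥(V ⊓ degreeLT k 0) ≤ Module.finrank k ↥(degreeLT k 0) :=
    Submodule.finrank_mono inf_le_right
  rw [finrank_degreeLT] at h1
  omega

/-- Weight at the marked point `r i` of a hyperplane `V₁` of `Vb r a b` not containing
`Vb ∩ ((X - r i)^(N-1))`. -/
theorem weight_marked (hr : Function.Injective r) (b N d : ℕ) (hb : 1 ≤ b)
    (hN : N = (∑ j, a j) + b) (hd : d + 1 = (∑ j, (a j + 1)) + b)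
    (V₁ : Submodule k k[X]) (hle : V₁ ≤ Vb r a b) (hfin : Module.finrank k ↥V₁ + 1 = N)
    (i : Fin m)
    (hkey : 2 ≤ N →
      ¬ (Vb r a b ⊓ (Ideal.span {(X - C (r i)) ^ (N - 1)}).restrictScalars k ≤ V₁)) :
    ∃ ε : ℕ, ε ≤ 1 ∧
      (∑ n ∈ Finset.range d, Module.finrank k
        ↥(V₁ ⊓ (Ideal.span {(X - C (r i)) ^ (n + 1)}).restrictScalars k)) + 1 =
        (N - 1).choose 2 + (N - a i) + ε := by
  have hfdV : FiniteDimensional k ↥(Vb r a b) := Vb_finiteDimensional r a b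
  have hfinV : Module.finrank k ↥(Vb r a b) = N := by rw [finrank_Vb r a hr b, hN]
  have hsum : ∑ j, (a j + 1) = (∑ j, a j) + m := by
    rw [Finset.sum_add_distrib, Finset.sum_const, Finset.card_univ, Fintype.card_fin,
      smul_eq_mul, mul_one]
  have hm : 0 < m := Fin.pos i
  have hfV : ∀ n, Module.finrank k
      ↥(Vb r a b ⊓ (Ideal.span {(X - C (r i)) ^ n}).restrictScalars k) =
      if n ≤ a i then N - n else N + 1 - n := fun n => finrank_inf_mult r a hr b N hN i n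
  have hd0 : ∀ n, d ≤ n → Module.finrank k
      ↥(Vb r a b ⊓ (Ideal.span {(X - C (r i)) ^ (n + 1)}).restrictScalars k) = 0 := by
    intro n hn
    rw [hfV (n + 1)]
    split_ifs <;> omega
  exact weight_sum (Vb r a b) V₁ hle N (by omega) hfinV hfin
    (fun n => (Ideal.span {(X - C (r i)) ^ n}).restrictScalars k) (mult_antitone (r i))
    (a i) d hfV hd0 hkey

/-- Weight at infinity of a hyperplane `V₁` of `Vb r a b` not containing the members of
`Vb` vanishing to order `N - 1` at infinity. -/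
theorem weight_infty (hr : Function.Injective r) (b N d : ℕ) (hb : 1 ≤ b)
    (hN : N = (∑ j, a j) + b) (hd : d + 1 = (∑ j, (a j + 1)) + b)
    (V₁ : Submodule k k[X]) (hle : V₁ ≤ Vb r a b) (hfin : Module.finrank k ↥V₁ + 1 = N)
    (hkey : 2 ≤ N → ¬ (Vb r a b ⊓ degreeLT k (d + 1 - (N - 1)) ≤ V₁)) :
    ∃ ε : ℕ, ε ≤ 1 ∧
      (∑ n ∈ Finset.range d, Module.finrank k ↥(V₁ ⊓ degreeLT k (d - n))) + 1 =
        (N - 1).choose 2 + (N - b) + ε := by
  have hfdV : FiniteDimensional k ↥(Vb r a b) := Vb_finiteDimensional r a b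
  have hfinV : Module.finrank k ↥(Vb r a b) = N := by rw [finrank_Vb r a hr b, hN]
  have hfV : ∀ n, Module.finrank k ↥(Vb r a b ⊓ degreeLT k (d + 1 - n)) =
      if n ≤ b then N - n else N + 1 - n := fun n => finrank_inf_degreeLT r a hr b N d hN hd n
  have hd0 : ∀ n, d ≤ n →
      Module.finrank k ↥(Vb r a b ⊓ degreeLT k (d + 1 - (n + 1))) = 0 := by
    intro n hn
    have h0 : d + 1 - (n + 1) = 0 := by omega
    rw [h0]
    exact finrank_inf_degreeLT_zero _
  have hconv : ∀ n, Module.finrank k ↥(V₁ ⊓ degreeLT k (d - n)) =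
      Module.finrank k ↥(V₁ ⊓ degreeLT k (d + 1 - (n + 1))) := fun n => by
    rw [Nat.add_sub_add_right]
  have hs : ∑ n ∈ Finset.range d, Module.finrank k ↥(V₁ ⊓ degreeLT k (d - n)) =
      ∑ n ∈ Finset.range d, Module.finrank k ↥(V₁ ⊓ degreeLT k (d + 1 - (n + 1))) :=
    Finset.sum_congr rfl (fun n _ => hconv n)
  rw [hs]
  exact weight_sum (Vb r a b) V₁ hle N (by omega) hfinV hfin
    (fun n => degreeLT k (d + 1 - n)) (infty_antitone d) b d hfV hd0 hkey

/-- Weight at infinity of a hyperplane `V₁` of `Vb r a b` containing the members of `Vb`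
vanishing to order `2` at infinity. -/
theorem weight_infty2 (hr : Function.Injective r) (b N d : ℕ) (hb : 1 ≤ b)
    (hN : N = (∑ j, a j) + b) (hd : d + 1 = (∑ j, (a j + 1)) + b)
    (V₁ : Submodule k k[X]) (hle : V₁ ≤ Vb r a b) (hfin : Module.finrank k ↥V₁ + 1 = N)
    (hkey : Vb r a b ⊓ degreeLT k (d + 1 - 2) ≤ V₁) :
    ∃ ε : ℕ, ε ≤ 1 ∧
      (∑ n ∈ Finset.range d, Module.finrank k ↥(V₁ ⊓ degreeLT k (d - n))) =
        (N - 1).choose 2 + (N - b) + (N - 2) + ε := by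
  have hfdV : FiniteDimensional k ↥(Vb r a b) := Vb_finiteDimensional r a b
  have hfinV : Module.finrank k ↥(Vb r a b) = N := by rw [finrank_Vb r a hr b, hN]
  have hfV : ∀ n, Module.finrank k ↥(Vb r a b ⊓ degreeLT k (d + 1 - n)) =
      if n ≤ b then N - n else N + 1 - n := fun n => finrank_inf_degreeLT r a hr b N d hN hd n
  have hd0 : ∀ n, d ≤ n →
      Module.finrank k ↥(Vb r a b ⊓ degreeLT k (d + 1 - (n + 1))) = 0 := by
    intro n hn
    have h0 : d + 1 - (n + 1) = 0 := by omega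
    rw [h0]
    exact finrank_inf_degreeLT_zero _
  have hconv : ∀ n, Module.finrank k ↥(V₁ ⊓ degreeLT k (d - n)) =
      Module.finrank k ↥(V₁ ⊓ degreeLT k (d + 1 - (n + 1))) := fun n => by
    rw [Nat.add_sub_add_right]
  have hs : ∑ n ∈ Finset.range d, Module.finrank k ↥(V₁ ⊓ degreeLT k (d - n)) =
      ∑ n ∈ Finset.range d, Module.finrank k ↥(V₁ ⊓ degreeLT k (d + 1 - (n + 1))) :=
    Finset.sum_congr rfl (fun n _ => hconv n)
  rw [hs]
  exact weight_sum2 (Vb r a b) V₁ hle N (by omega) hfinV hfin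
    (fun n => degreeLT k (d + 1 - n)) (infty_antitone d) b d hb hfV hd0 hkey

end charzero

end Groth.Agent.H88.PolarW
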