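import Mathlib.Analysis.Polynomial.Basic

set_option autoImplicit false

namespace Groth.Agent.H88

open Polynomial Filter

/-- `a p^k + R(p)` is eventually negative when `a < 0`, `k > 0` and `deg R < k`. -/
theorem eventually_neg_of_lead_neg (a : ℚ) (ha : a < 0) (k : ℕ) (hk : 0 < k) (R : ℚ[X])
    (hR : R.natDegree < k) :
    ∃ N : ℕ, ∀ p : ℕ, N ≤ p → a * (p : ℚ) ^ k + R.eval (p : ℚ) < 0 := by
  set Q : ℚ[X] := C a * X ^ k + R with hQ
  have hdegCX : (C a * X ^ k : ℚ[X]).degree = k := degree_C_mul_X_pow k ha.ne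
  have hdegR : R.degree < (C a * X ^ k : ℚ[X]).degree := by
    rw [hdegCX]
    exact lt_of_le_of_lt degree_le_natDegree (by exact_mod_cast hR)
  have hdegQ : Q.degree = k := by
    rw [hQ, degree_add_eq_left_of_degree_lt hdegR, hdegCX]
  have hlead : Q.leadingCoeff = a := by
    rw [hQ, leadingCoeff_add_of_degree_lt' hdegR, leadingCoeff_mul, leadingCoeff_C,
      leadingCoeff_X_pow, mul_one]
  have htend : Tendsto (fun x => eval x Q) atTop atBot := by
    apply Polynomial.tendsto_atBot_of_leadingCoeff_nonpos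
    · rw [hdegQ]; exact_mod_cast hk
    · rw [hlead]; exact ha.le
  have hev : ∀ᶠ x in atTop, eval x Q < 0 := htend.eventually_lt_atBot 0
  obtain ⟨x₀, hx₀⟩ := Filter.eventually_atTop.mp hev
  obtain ⟨N, hN⟩ := exists_nat_ge x₀
  refine ⟨N, fun p hp => ?_⟩
  have hpx : x₀ ≤ (p : ℚ) := hN.trans (by exact_mod_cast hp)
  have := hx₀ p hpx
  simpa [hQ] using this

end Groth.Agent.H88
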