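import Groth.Agent.H18.ProjUPKernel
import Groth.Agent.H8.QCohAffine
import Groth.Agent.H8.PullbackStalk
import Groth.Agent.H41.GrModQCoh
import Groth.Agent.H88.LocRankOne

/-!
# Local generators of a quasi-coherent module on an affine scheme, elementwise

If a global section `m` of a quasi-coherent module `L` on an affine scheme is a free generator of
`L` over an open `U`, then around each point of `U` there is `a ∈ Γ(X, ⊤)` invertible at the
point with `m` a free generator of `Γ(X, L)` after inverting `a` (`LocRankOne.IsLocGen`).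
-/

set_option autoImplicit false
universe u

open CategoryTheory AlgebraicGeometry TopologicalSpace Opposite
open Groth.Agent.H8 (res_res res_smul)
open Groth.Agent.H18.TensorGen
open Groth.Agent.H88.LocRankOne

namespace Groth.Agent.H88.ProjSecLoc

noncomputable section

theorem isLocGen_of_isGen {X : Scheme.{u}} (hX : IsAffineOpen (⊤ : X.Opens)) (L : X.Modules)
    [L.IsQuasicoherent] (m : Γ(L, ⊤)) (U : X.Opens)
    (hgen : IsGen L U (L.presheaf.map (homOfLE (le_top : U ≤ ⊤)).op m)) (x : X) (hx : x ∈ U) :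
    ∃ a : Γ(X, ⊤), x ∈ X.basicOpen a ∧ IsLocGen a m := by
  obtain ⟨a, haU, hxa⟩ := hX.exists_basicOpen_le ⟨x, hx⟩ trivial
  haveI := hX.isLocalization_basicOpen a
  have hD : X.basicOpen a ≤ ⊤ := X.basicOpen_le a
  refine ⟨a, hxa, ?_, ?_⟩
  · intro m'
    obtain ⟨b, hb⟩ := (hgen (X.basicOpen a) haU).2 (L.presheaf.map (homOfLE hD).op m')
    simp only [] at hb
    rw [res_res] at hb
    obtain ⟨⟨c, ⟨_, k, rfl⟩⟩, hc⟩ := IsLocalization.surj (Submonoid.powers a) b
    have hc' : b * X.presheaf.map (homOfLE hD).op (a ^ k) = X.presheaf.map (homOfLE hD).op c := hc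
    have hz : L.presheaf.map (homOfLE hD).op (a ^ k • m' - c • m) = 0 := by
      rw [map_sub, res_smul, res_smul, ← hb, ← mul_smul, mul_comm, hc', sub_self]
    obtain ⟨n, hn⟩ := Groth.Agent.H8.exists_smul_eq_zero hX L a _ hz
    refine ⟨n + k, a ^ n * c, ?_⟩
    rw [smul_sub, sub_eq_zero] at hn
    rw [pow_add, mul_smul, hn, mul_smul]
  · intro r hr
    have h0 : X.presheaf.map (homOfLE hD).op r = 0 := by
      apply (hgen (X.basicOpen a) haU).1
      simp only []
      rw [res_res, zero_smul, ← res_smul, hr, map_zero]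
    obtain ⟨⟨_, k, rfl⟩, hk⟩ := (IsLocalization.map_eq_zero_iff (Submonoid.powers a)
      Γ(X, X.basicOpen a) r).mp h0
    exact ⟨k, hk⟩

section Poly

open Groth.Agent.H18.ProjUPSym Groth.Agent.H18.ProjUPUniq Groth.Agent.H18.ProjUPUniqFinal

variable {R : Type u} [CommRing R] (n : ℕ)

/-- For a morphism `s` from an affine scheme to projective space, around every point one of the
pulled-back coordinates is a local free generator of the global sections of `s^* O(1)`. -/
theorem exists_isLocGen_pullSec {X : Scheme.{u}} (hX : IsAffineOpen (⊤ : X.Opens))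
    (s : X ⟶ Proj (CohB1.polyGrading n R)) (x : X) :
    ∃ a : Γ(X, ⊤), x ∈ X.basicOpen a ∧ ∃ i : Fin (n + 1),
      IsLocGen a (ProjUP.pullSec s (Twist.twist (CohB1.polyGrading n R) 1)
        (Twist.globalOf (CohB1.polyGrading n R)
          ⟨MvPolynomial.X i, MvPolynomial.isHomogeneous_X R i⟩)) := by
  have hg : ∀ i : ULift.{u} (Fin (n + 1)),
      (MvPolynomial.X i.down : MvPolynomial (Fin (n + 1)) R) ∈ CohB1.polyGrading n R 1 :=
    fun i => MvPolynomial.isHomogeneous_X R i.down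
  obtain ⟨g, hgdef⟩ : ∃ g : ULift.{u} (Fin (n + 1)) → MvPolynomial (Fin (n + 1)) R,
      g = fun i => MvPolynomial.X i.down := ⟨_, rfl⟩
  have hg' : ∀ i, g i ∈ CohB1.polyGrading n R 1 := by
    rw [hgdef]
    exact hg
  have hDcov : ∀ p : Proj (CohB1.polyGrading n R), ∃ i, p ∈ Proj.basicOpen _ (g i) := by
    intro p
    obtain ⟨i, hi⟩ := Groth.Agent.H18.ProjUPData.Dp_cover n R p
    rw [hgdef]
    exact ⟨⟨i⟩, hi⟩
  have hN : PicF.IsInvertible (N1 (CohB1.polyGrading n R)) :=
    isInvertible_N1 _ (fun y => by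
      obtain ⟨i, hi⟩ := hDcov y
      exact ⟨g i, hg' i, (ProjectiveSpectrum.mem_basicOpen _ _ _).mp hi⟩)
  obtain ⟨m₁, hm₁⟩ : ∃ m₁ : ULift.{u} (Fin (n + 1)) →
      Γ((Scheme.Modules.pullback s).obj (N1 (CohB1.polyGrading n R)), ⊤),
      m₁ = fun i => ProjUP.pullSec s (N1 (CohB1.polyGrading n R)) (tG _ (hg' i)) := ⟨_, rfl⟩
  have hτ₁ : ∀ i, (Iso.refl ((Scheme.Modules.pullback s).obj (N1 (CohB1.polyGrading n R)))).hom.app ⊤
      (ProjUP.pullSec s (N1 (CohB1.polyGrading n R)) (tG _ (hg' i))) = m₁ i := fun i => by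
    rw [hm₁]
    rfl
  have hpre₁ := hpre_of_iso _ s g hg' hDcov _ m₁ (Iso.refl _) hτ₁
  obtain ⟨i, hi⟩ := hDcov (s x)
  have hxi : x ∈ Us _ m₁ i := by
    rw [← hpre₁ i]
    exact hi
  haveI : (N1 (CohB1.polyGrading n R)).IsQuasicoherent :=
    Groth.Agent.H41.GrModQCoh.isQuasicoherent_tilde (CohB1.polyGrading n R)
      (CohB1.polyGrading n R) 1
  haveI : ((Scheme.Modules.pullback s).obj (N1 (CohB1.polyGrading n R))).IsQuasicoherent :=
    Groth.Agent.H8.isQuasicoherent_pullback s _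
  have hgen : IsGen _ (Us _ m₁ i) (((Scheme.Modules.pullback s).obj
      (N1 (CohB1.polyGrading n R))).presheaf.map (homOfLE (le_top : Us _ m₁ i ≤ ⊤)).op (m₁ i)) := by
    rw [← sv_σ]
    exact isGen_sv _ m₁ i
  obtain ⟨a, hxa, ha⟩ := isLocGen_of_isGen hX _ (m₁ i) _ hgen x hxi
  refine ⟨a, hxa, i.down, ?_⟩
  subst hgdef
  rw [hm₁] at ha
  exact ha

end Poly

end

end Groth.Agent.H88.ProjSecLoc
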