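import Groth.Agent.H88.PConeSections
import Groth.Agent.H18.ProjUPSym
import Groth.Agent.H18.RestrictTensor

/-!
# `p^* O_𝒜(n) ≅ O_ℬ(n)|_{G(φ)}` for the morphism `p : G(φ) ⟶ Proj 𝒜` induced by a graded
homomorphism `φ : 𝒜 → ℬ`, `𝒜` generated in degree one (helper88, S4403; route of helper18)
-/

set_option autoImplicit false
universe u

noncomputable section

namespace Groth.Agent.H88.PullTwist

open CategoryTheory AlgebraicGeometry TopologicalSpace Opposite HomogeneousLocalization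
open Groth.Agent.H8 (res_res res_smul app_res)
open Groth.Agent.H18 Groth.Agent.H18.TensorGen Groth.Agent.H18.HomOfGens Groth.Agent.H18.IsoOfGen
open Groth.Agent.H88.TwistGenN Groth.Agent.H88.PConeSections

variable {R A B : Type u} [CommRing R] [CommRing A] [Algebra R A] {𝒜 : ℕ → Submodule R A}
  [GradedAlgebra 𝒜] [CommRing B] [Algebra R B] {ℬ : ℕ → Submodule R B} [GradedAlgebra ℬ]
  (φ : 𝒜 →+*ᵍ ℬ)
  (p : (PCone.dom φ : Scheme.{u}) ⟶ Proj 𝒜)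
  (hp : ∀ (d : ℕ) (f : A) (hd : 0 < d) (hf : f ∈ 𝒜 d),
        PCone.chart φ hf hd ≫ p =
          Spec.map (CommRingCat.ofHom (Away.map φ f)) ≫ Proj.awayι 𝒜 f hf hd)
  (n : ℤ)

/-- The target module `O_ℬ(n)|_{G(φ)}`. -/
abbrev Lmod : (PCone.dom φ : Scheme.{u}).Modules :=
  (Twist.twist ℬ n).restrict (PCone.dom φ).ι

include hp in
theorem image_le {f : A} (hf : f ∈ 𝒜 1) :
    (PCone.dom φ).ι ''ᵁ (p ⁻¹ᵁ Proj.basicOpen 𝒜 f) ≤ Proj.basicOpen ℬ (φ f) := by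
  rw [preimage_basicOpen_of_chart_compat φ p hp one_pos hf,
    Scheme.Hom.image_preimage_eq_opensRange_inf]
  exact inf_le_right

/-- The generator `(φ f)^n` of the target over `p⁻¹ D₊(f)`. -/
def γN {f : A} (hf : f ∈ 𝒜 1) : Γ(Lmod φ n, p ⁻¹ᵁ Proj.basicOpen 𝒜 f) :=
  RestrictTensor.toRes (PCone.dom φ).ι (Twist.twist ℬ n)
    ((Twist.twist ℬ n).presheaf.map (homOfLE (image_le φ p hp hf)).op
      (αN ℬ (f := φ f) (GradedFunLike.map_mem φ hf) n))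

theorem isGen_γN {f : A} (hf : f ∈ 𝒜 1) :
    IsGen (Lmod φ n) (p ⁻¹ᵁ Proj.basicOpen 𝒜 f) (γN φ p hp n hf) :=
  RestrictTensor.isGen_restrict (PCone.dom φ).ι (Twist.twist ℬ n)
    ((isGen_αN ℬ (f := φ f) (GradedFunLike.map_mem φ hf) n).res (image_le φ p hp hf))

theorem γN_res {f g : A} (hf : f ∈ 𝒜 1) (hg : g ∈ 𝒜 1)
    (hl : p ⁻¹ᵁ (Proj.basicOpen 𝒜 f ⊓ Proj.basicOpen 𝒜 g) ≤ p ⁻¹ᵁ Proj.basicOpen 𝒜 f)
    (hr : p ⁻¹ᵁ (Proj.basicOpen 𝒜 f ⊓ Proj.basicOpen 𝒜 g) ≤ p ⁻¹ᵁ Proj.basicOpen 𝒜 g) :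
    (Lmod φ n).presheaf.map (homOfLE hr).op (γN φ p hp n hg) =
      (p.app (Proj.basicOpen 𝒜 f ⊓ Proj.basicOpen 𝒜 g)).hom (uN 𝒜 hf hg n) •
        (Lmod φ n).presheaf.map (homOfLE hl).op (γN φ p hp n hf) := by
  have hW' : (PCone.dom φ).ι ''ᵁ (p ⁻¹ᵁ (Proj.basicOpen 𝒜 f ⊓ Proj.basicOpen 𝒜 g)) ≤
      Proj.basicOpen ℬ (φ f) ⊓ Proj.basicOpen ℬ (φ g) :=
    le_inf (((PCone.dom φ).ι.image_mono hl).trans (image_le φ p hp hf))
      (((PCone.dom φ).ι.image_mono hr).trans (image_le φ p hp hg))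
  have hK := app_uN φ p hp hf hg n hW'
  have h := congrArg ((Twist.twist ℬ n).presheaf.map (homOfLE hW').op)
    (αN_res ℬ (f := φ f) (g := φ g) (GradedFunLike.map_mem φ hf) (GradedFunLike.map_mem φ hg) n)
  rw [res_res, res_smul, res_res, ← hK] at h
  show RestrictTensor.toRes (PCone.dom φ).ι (Twist.twist ℬ n)
      ((Twist.twist ℬ n).presheaf.map (homOfLE ((PCone.dom φ).ι.image_mono hr)).op
        ((Twist.twist ℬ n).presheaf.map (homOfLE (image_le φ p hp hg)).op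
          (αN ℬ (f := φ g) (GradedFunLike.map_mem φ hg) n))) =
    RestrictTensor.toRes (PCone.dom φ).ι (Twist.twist ℬ n)
      ((((PCone.dom φ).ι.appIso (p ⁻¹ᵁ (Proj.basicOpen 𝒜 f ⊓ Proj.basicOpen 𝒜 g))).inv.hom
          ((p.app (Proj.basicOpen 𝒜 f ⊓ Proj.basicOpen 𝒜 g)).hom (uN 𝒜 hf hg n))) •
        (Twist.twist ℬ n).presheaf.map (homOfLE ((PCone.dom φ).ι.image_mono hl)).op
          ((Twist.twist ℬ n).presheaf.map (homOfLE (image_le φ p hp hf)).op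
            (αN ℬ (f := φ f) (GradedFunLike.map_mem φ hf) n)))
  rw [res_res, res_res]
  exact congrArg (RestrictTensor.toRes (PCone.dom φ).ι (Twist.twist ℬ n)) h

include hp in
theorem main (hgen : (HomogeneousIdeal.irrelevant 𝒜).toIdeal = Ideal.span (𝒜 1 : Set A)) :
    Nonempty ((Scheme.Modules.pullback p).obj (Twist.twist 𝒜 n) ≅
      (Twist.twist ℬ n).restrict (PCone.dom φ).ι) := by
  have hDcov : ∀ x : Proj 𝒜, ∃ i : {f : A // f ∈ 𝒜 1}, x ∈ Proj.basicOpen 𝒜 i.1 := fun x => by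
    obtain ⟨f, hf, hfx⟩ := exists_degree_one_not_mem hgen x
    exact ⟨⟨f, hf⟩, (ProjectiveSpectrum.mem_basicOpen 𝒜 f x).mpr hfx⟩
  obtain ⟨ψ, hψ⟩ : ∃ ψ : Twist.twist 𝒜 n ⟶ (Scheme.Modules.pushforward p).obj (Lmod φ n),
      ∀ i : {f : A // f ∈ 𝒜 1}, ψ.app (Proj.basicOpen 𝒜 i.1) (αN 𝒜 i.2 n) =
        (show Γ((Scheme.Modules.pushforward p).obj (Lmod φ n), Proj.basicOpen 𝒜 i.1) from
          γN φ p hp n i.2) := by
    refine exists_hom_of_gens (X := Proj 𝒜) (A := Twist.twist 𝒜 n)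
      (C := (Scheme.Modules.pushforward p).obj (Lmod φ n))
      (D := fun i : {f : A // f ∈ 𝒜 1} => Proj.basicOpen 𝒜 i.1)
      (α := fun i => αN 𝒜 i.2 n)
      (γ := fun i => (show Γ((Scheme.Modules.pushforward p).obj (Lmod φ n),
        Proj.basicOpen 𝒜 i.1) from γN φ p hp n i.2))
      hDcov (fun i => isGen_αN 𝒜 i.2 n) ?_
    refine coh_of_transition (fun i => isGen_αN 𝒜 i.2 n) (fun i j => uN 𝒜 i.2 j.2 n)
      (fun i j => αN_res 𝒜 i.2 j.2 n) (fun i j => ?_)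
    exact γN_res φ p hp n i.2 j.2 _ _
  have e1 : ψ = (Scheme.Modules.pullbackPushforwardAdjunction p).unit.app (Twist.twist 𝒜 n) ≫
      (Scheme.Modules.pushforward p).map
        (((Scheme.Modules.pullbackPushforwardAdjunction p).homEquiv (Twist.twist 𝒜 n)
          (Lmod φ n)).symm ψ) := by
    have h := Adjunction.homEquiv_apply (Scheme.Modules.pullbackPushforwardAdjunction p)
      (Twist.twist 𝒜 n) (Lmod φ n)
      (((Scheme.Modules.pullbackPushforwardAdjunction p).homEquiv (Twist.twist 𝒜 n)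
        (Lmod φ n)).symm ψ)
    rw [Equiv.apply_symm_apply] at h
    exact h
  have hN : PicF.IsInvertible (Twist.twist 𝒜 n) := isInvertible_of_isGen _ (fun x => by
    obtain ⟨i, hi⟩ := hDcov x
    exact ⟨_, αN 𝒜 i.2 n, hi, isGen_αN 𝒜 i.2 n⟩)
  have hiso : IsIso (((Scheme.Modules.pullbackPushforwardAdjunction p).homEquiv
      (Twist.twist 𝒜 n) (Lmod φ n)).symm ψ) := by
    refine isIso_of_isGen_image (Groth.Agent.H22.PullGen.isInvertible_pullback p hN) _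
      (fun x => ?_)
    obtain ⟨i, hi⟩ := hDcov (p x)
    refine ⟨p ⁻¹ᵁ Proj.basicOpen 𝒜 i.1,
      (show Γ((Scheme.Modules.pullback p).obj (Twist.twist 𝒜 n), p ⁻¹ᵁ Proj.basicOpen 𝒜 i.1) from
        ((Scheme.Modules.pullbackPushforwardAdjunction p).unit.app (Twist.twist 𝒜 n)).app
          (Proj.basicOpen 𝒜 i.1) (αN 𝒜 i.2 n)), hi, ?_⟩
    have e2 : (((Scheme.Modules.pullbackPushforwardAdjunction p).homEquiv (Twist.twist 𝒜 n)
        (Lmod φ n)).symm ψ).app (p ⁻¹ᵁ Proj.basicOpen 𝒜 i.1)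
        (show Γ((Scheme.Modules.pullback p).obj (Twist.twist 𝒜 n),
          p ⁻¹ᵁ Proj.basicOpen 𝒜 i.1) from
          ((Scheme.Modules.pullbackPushforwardAdjunction p).unit.app (Twist.twist 𝒜 n)).app
            (Proj.basicOpen 𝒜 i.1) (αN 𝒜 i.2 n)) =
        ψ.app (Proj.basicOpen 𝒜 i.1) (αN 𝒜 i.2 n) := by
      conv_rhs => rw [e1]
      rfl
    rw [e2, hψ i]
    exact isGen_γN φ p hp n i.2
  exact ⟨@asIso _ _ _ _ _ hiso⟩

end Groth.Agent.H88.PullTwist
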