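import Mathlib
import Groth.Prelude.Def_W4c1limliniiiiRamP1

/-!
# Pencils on the line with three prescribed ramification points (helper88)

Elementary Wronskian arguments for `W4c1limliniiii.ramMaps d P e` with three points and
`e 0 + e 1 + e 2 = 2 d + 1`.
-/

set_option autoImplicit false

namespace Groth.Agent.H88.RamP1

open Polynomial

section gen

variable {k : Type*} [Field k]

theorem natDegree_pow_X_sub_C' (q : k) (N : ℕ) : ((X - C q) ^ N).natDegree = N := by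
  rw [natDegree_pow, natDegree_X_sub_C, mul_one]

theorem finrank_degreeLT' (n : ℕ) : Module.finrank k ↥(degreeLT k n) = n :=
  (degreeLTEquiv k n).finrank_eq.trans (Module.finrank_fin_fun k)

theorem natDegree_le_of_mem_degreeLE {p : k[X]} {d : ℕ} (h : p ∈ degreeLE k (d : WithBot ℕ)) :
    p.natDegree ≤ d :=
  natDegree_le_iff_degree_le.mpr (mem_degreeLE.mp h)

theorem mem_degreeLE_of_natDegree_le {p : k[X]} {d : ℕ} (h : p.natDegree ≤ d) :
    p ∈ degreeLE k (d : WithBot ℕ) :=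
  mem_degreeLE.mpr (natDegree_le_iff_degree_le.mp h)

theorem prod_dvd {ι : Type*} [Fintype ι] (pt : ι → k) (hpt : Function.Injective pt) (ν : ι → ℕ)
    (w : k[X]) (h : ∀ i, (X - C (pt i)) ^ ν i ∣ w) : ∏ i, (X - C (pt i)) ^ ν i ∣ w := by
  apply Finset.prod_dvd_of_coprime
  · intro i _ j _ hij
    exact IsCoprime.pow
      (isCoprime_X_sub_C_of_isUnit_sub (sub_ne_zero.mpr (fun h' => hij (hpt h'))).isUnit)
  · intro i _; exact h i

theorem natDegree_prod_pow {ι : Type*} [Fintype ι] (pt : ι → k) (ν : ι → ℕ) :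
    (∏ i, (X - C (pt i)) ^ ν i).natDegree = ∑ i, ν i := by
  rw [natDegree_prod_of_monic _ _ (fun i _ => (monic_X_sub_C (pt i)).pow (ν i))]
  exact Finset.sum_congr rfl (fun i _ => natDegree_pow_X_sub_C' _ _)

theorem sum_le_natDegree {ι : Type*} [Fintype ι] (pt : ι → k) (hpt : Function.Injective pt)
    (ν : ι → ℕ) (w : k[X]) (hw : w ≠ 0) (h : ∀ i, (X - C (pt i)) ^ ν i ∣ w) :
    ∑ i, ν i ≤ w.natDegree := by
  have h1 := natDegree_le_of_dvd (prod_dvd pt hpt ν w h) hw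
  rwa [natDegree_prod_pow] at h1

theorem sum_add_one_le_natDegree {ι : Type*} [Fintype ι] (pt : ι → k)
    (hpt : Function.Injective pt) (ν : ι → ℕ) (a : k) (ha : ∀ i, a ≠ pt i) (w : k[X]) (hw : w ≠ 0)
    (h : ∀ i, (X - C (pt i)) ^ ν i ∣ w) (hdvd : (X - C a) ∣ w) : ∑ i, ν i + 1 ≤ w.natDegree := by
  have hprod := prod_dvd pt hpt ν w h
  have hcop : IsCoprime (X - C a) (∏ i, (X - C (pt i)) ^ ν i) := by
    apply IsCoprime.prod_right
    intro i _
    exact IsCoprime.pow_right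
      (isCoprime_X_sub_C_of_isUnit_sub (sub_ne_zero.mpr (ha i)).isUnit)
  have hne : (∏ i, (X - C (pt i)) ^ ν i) ≠ 0 :=
    Finset.prod_ne_zero_iff.mpr (fun i _ => pow_ne_zero _ (X_sub_C_ne_zero _))
  have h1 := natDegree_le_of_dvd (hcop.mul_dvd hdvd hprod) hw
  rw [natDegree_mul (X_sub_C_ne_zero a) hne, natDegree_X_sub_C, natDegree_prod_pow] at h1
  omega

theorem sum_succ_le_natDegree {ι : Type*} [Fintype ι] [DecidableEq ι] (pt : ι → k)
    (hpt : Function.Injective pt) (ν : ι → ℕ) (i₀ : ι) (w : k[X]) (hw : w ≠ 0)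
    (h : ∀ i, (X - C (pt i)) ^ ν i ∣ w) (h' : (X - C (pt i₀)) ^ (ν i₀ + 1) ∣ w) :
    ∑ i, ν i + 1 ≤ w.natDegree := by
  have h1 := sum_le_natDegree pt hpt (fun i => ν i + if i = i₀ then 1 else 0) w hw (by
    intro i
    by_cases hi : i = i₀
    · subst hi; rw [if_pos rfl]; exact h'
    · rw [if_neg hi, add_zero]; exact h i)
  have h2 : ∑ i, (ν i + if i = i₀ then 1 else 0) = ∑ i, ν i + 1 := by
    rw [Finset.sum_add_distrib]
    simp
  rwa [h2] at h1

theorem wronskian_comb (A B : k[X]) (a b a' b' : k) :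
    wronskian (a • A + b • B) (a' • A + b' • B) = C (a * b' - a' * b) * wronskian A B := by
  simp only [wronskian, derivative_add, derivative_smul]
  simp only [smul_eq_C_mul, C_sub, C_mul]
  ring

theorem wronskian_mul_mul (u A B : k[X]) : wronskian (u * A) (u * B) = u ^ 2 * wronskian A B := by
  simp only [wronskian, derivative_mul]
  ring

theorem wronskian_sub_left (F G : k[X]) : wronskian (F - G) F = wronskian F G := by
  simp only [wronskian, derivative_sub]
  ring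

theorem dvd_wronskian_left (a : k) (n : ℕ) (A B : k[X]) (hA : (X - C a) ^ (n + 1) ∣ A) :
    (X - C a) ^ n ∣ wronskian A B := by
  obtain ⟨A₁, rfl⟩ := hA
  refine ⟨(X - C a) * A₁ * derivative B -
    (C ((n : k) + 1) * A₁ + (X - C a) * derivative A₁) * B, ?_⟩
  simp only [wronskian, derivative_mul, derivative_pow_succ, derivative_X_sub_C]
  ring

theorem dvd_wronskian_both (a : k) (n : ℕ) (A B : k[X]) (hA : (X - C a) ^ (n + 1) ∣ A)
    (hB : (X - C a) ∣ B) : (X - C a) ^ (n + 1) ∣ wronskian A B := by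
  obtain ⟨A₁, rfl⟩ := hA
  obtain ⟨B₁, rfl⟩ := hB
  refine ⟨A₁ * (B₁ + (X - C a) * derivative B₁) -
    (C ((n : k) + 1) * A₁ + (X - C a) * derivative A₁) * B₁, ?_⟩
  simp only [wronskian, derivative_mul, derivative_pow_succ, derivative_X_sub_C]
  ring

theorem natDegree_wronskian_le (d : ℕ) (F G : k[X]) (hF : F.natDegree ≤ d) (hG : G.natDegree ≤ d)
    (hw : wronskian F G ≠ 0) : (wronskian F G).natDegree + 2 ≤ 2 * d := by
  by_cases hFd : F.natDegree < d
  · have := natDegree_wronskian_lt_add hw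
    omega
  · have hFd' : F.natDegree = d := by omega
    have hF0 : F ≠ 0 := by
      rintro rfl
      exact hw (wronskian_zero_left _)
    have hlc : F.coeff d ≠ 0 := by
      rw [← hFd']
      exact leadingCoeff_ne_zero.mpr hF0
    obtain ⟨c, hc⟩ : ∃ c : k, c = G.coeff d / F.coeff d := ⟨_, rfl⟩
    obtain ⟨G₁, hG₁⟩ : ∃ G₁ : k[X], G₁ = G - C c * F := ⟨_, rfl⟩
    have hW : wronskian F G₁ = wronskian F G := by
      rw [hG₁]
      simp only [wronskian, derivative_sub, derivative_C_mul]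
      ring
    have hw₁ : wronskian F G₁ ≠ 0 := by rw [hW]; exact hw
    have hG₁0 : G₁ ≠ 0 := by
      rintro h0
      rw [h0, wronskian_zero_right] at hw₁
      exact hw₁ rfl
    have hdeg : G₁.degree < d := by
      rw [degree_lt_iff_coeff_zero]
      intro j hj
      rw [hG₁, coeff_sub, coeff_C_mul]
      rcases Nat.eq_or_lt_of_le hj with h | h
      · rw [← h, hc, div_mul_cancel₀ _ hlc, sub_self]
      · rw [coeff_eq_zero_of_natDegree_lt (lt_of_le_of_lt hG h),
          coeff_eq_zero_of_natDegree_lt (lt_of_le_of_lt hF h), mul_zero, sub_zero]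
    have hdeg' : G₁.natDegree < d := (natDegree_lt_iff_degree_lt hG₁0).mpr hdeg
    have h1 := natDegree_wronskian_lt_add hw₁
    rw [hW] at h1
    omega

theorem dvd_of_comb_eq_zero {q u v : k[X]} {a b : k} (hb : b ≠ 0) (h : a • u + b • v = 0)
    (hq : q ∣ u) : q ∣ v := by
  have h1 : v = C (-(a / b)) * u := by
    have h2 : C b * v = -(C a * u) := by
      rw [← smul_eq_C_mul, ← smul_eq_C_mul]
      exact eq_neg_of_add_eq_zero_right h
    have hCb : (C b : k[X]) ≠ 0 := C_ne_zero.mpr hb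
    apply mul_left_cancel₀ hCb
    rw [h2, ← mul_assoc, ← C_mul]
    have h3 : b * -(a / b) = -a := by field_simp
    rw [h3, C_neg, neg_mul]
  rw [h1]
  exact Dvd.dvd.mul_left hq _

theorem exists_comb_of_finrank_two (V : Submodule k k[X]) (hV : Module.finrank k ↥V = 2)
    (u v : k[X]) (hu : u ∈ V) (hv : v ∈ V)
    (hli : ∀ a b : k, a • u + b • v = 0 → a = 0 ∧ b = 0) :
    ∀ s ∈ V, ∃ a b : k, s = a • u + b • v := by
  have li : LinearIndependent k ![u, v] := LinearIndependent.pair_iff.mpr hli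
  have h1 : Module.finrank k ↥(Submodule.span k (Set.range ![u, v])) = 2 := by
    rw [finrank_span_eq_card li, Fintype.card_fin]
  have hle : Submodule.span k (Set.range ![u, v]) ≤ V := by
    rw [Submodule.span_le]
    rintro _ ⟨i, rfl⟩
    rcases (by decide : ∀ x : Fin 2, x = 0 ∨ x = 1) i with rfl | rfl
    · exact hu
    · exact hv
  have hfd : FiniteDimensional k ↥V := Module.finite_of_finrank_pos (by omega)
  have hEq := Submodule.eq_of_le_of_finrank_eq hle (by rw [h1, hV])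
  intro s hs
  rw [← hEq, Submodule.mem_span_range_iff_exists_fun] at hs
  obtain ⟨c, hc⟩ := hs
  rw [Fin.sum_univ_two] at hc
  exact ⟨c 0, c 1, hc.symm⟩

theorem mem_span_pair' (u v : k[X]) (a b : k) :
    a • u + b • v ∈ Submodule.span k (Set.range ![u, v]) :=
  Submodule.add_mem _ (Submodule.smul_mem _ _ (Submodule.subset_span ⟨0, rfl⟩))
    (Submodule.smul_mem _ _ (Submodule.subset_span ⟨1, rfl⟩))

theorem exists_of_mem_span_pair' (u v s : k[X]) (hs : s ∈ Submodule.span k (Set.range ![u, v])) :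
    ∃ a b : k, s = a • u + b • v := by
  rw [Submodule.mem_span_range_iff_exists_fun] at hs
  obtain ⟨c, hc⟩ := hs
  rw [Fin.sum_univ_two] at hc
  exact ⟨c 0, c 1, hc.symm⟩

/-- Independent polynomials of small degree have nonzero Wronskian. -/
theorem wronskian_ne_zero_of_indep (p : ℕ) [CharP k p] (d : ℕ) (hp : p = 0 ∨ d < p) (A B : k[X])
    (hA : A.natDegree ≤ d) (hB : B.natDegree ≤ d)
    (hli : ∀ a b : k, a • A + b • B = 0 → a = 0 ∧ b = 0) : wronskian A B ≠ 0 := by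
  classical
  let := EuclideanDomain.gcdMonoid k[X]
  intro hw
  have hB0 : B ≠ 0 := by
    rintro rfl
    have := hli 0 1 (by simp)
    exact one_ne_zero this.2
  have hg0 : GCDMonoid.gcd A B ≠ 0 := gcd_ne_zero_of_right hB0
  obtain ⟨g, hg⟩ : ∃ g : k[X], g = GCDMonoid.gcd A B := ⟨_, rfl⟩
  rw [← hg] at hg0
  have hcop : IsCoprime (A / g) (B / g) := by rw [hg]; exact isCoprime_div_gcd_div_gcd hB0
  have hA' : g * (A / g) = A :=
    EuclideanDomain.mul_div_cancel' hg0 (by rw [hg]; exact GCDMonoid.gcd_dvd_left A B)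
  have hB' : g * (B / g) = B :=
    EuclideanDomain.mul_div_cancel' hg0 (by rw [hg]; exact GCDMonoid.gcd_dvd_right A B)
  have hw' : wronskian (A / g) (B / g) = 0 := by
    have h1 := wronskian_mul_mul g (A / g) (B / g)
    rw [hA', hB', hw] at h1
    exact (mul_eq_zero.mp h1.symm).resolve_left (pow_ne_zero 2 hg0)
  obtain ⟨hdA, hdB⟩ := (hcop.wronskian_eq_zero_iff).mp hw'
  have hconst : ∀ Q : k[X], Q.natDegree ≤ d → derivative Q = 0 → Q.natDegree = 0 := by
    intro Q hQ hQ'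
    by_contra hn
    have hn1 : 1 ≤ Q.natDegree := Nat.one_le_iff_ne_zero.mpr hn
    have h1 := coeff_derivative Q (Q.natDegree - 1)
    rw [hQ', coeff_zero, Nat.sub_add_cancel hn1] at h1
    have hQ0 : Q ≠ 0 := by
      rintro rfl
      exact hn natDegree_zero
    have hlc : Q.coeff Q.natDegree ≠ 0 := leadingCoeff_ne_zero.mpr hQ0
    have h2 : (((Q.natDegree - 1 : ℕ) : k) + 1) = 0 :=
      (mul_eq_zero.mp h1.symm).resolve_left hlc
    have h3 : ((Q.natDegree : ℕ) : k) = 0 := by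
      have h4 : ((Q.natDegree - 1 + 1 : ℕ) : k) = 0 := by push_cast; exact h2
      rwa [Nat.sub_add_cancel hn1] at h4
    have h5 : p ∣ Q.natDegree := (CharP.cast_eq_zero_iff k p _).mp h3
    rcases hp with hp | hp
    · rw [hp, zero_dvd_iff] at h5
      exact hn h5
    · have := Nat.le_of_dvd (by omega) h5
      omega
  have hdegA : (A / g).natDegree ≤ d := by
    have h1 : (A / g).natDegree ≤ A.natDegree := by
      by_cases h0 : A / g = 0
      · rw [h0]; simp
      · have h := congrArg natDegree hA'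
        rw [natDegree_mul hg0 h0] at h
        omega
    omega
  have hdegB : (B / g).natDegree ≤ d := by
    have h1 : (B / g).natDegree ≤ B.natDegree := by
      by_cases h0 : B / g = 0
      · rw [h0]; simp
      · have h := congrArg natDegree hB'
        rw [natDegree_mul hg0 h0] at h
        omega
    omega
  have hcA := hconst _ hdegA hdA
  have hcB := hconst _ hdegB hdB
  obtain ⟨a, ha⟩ : ∃ a : k, A / g = C a := ⟨_, eq_C_of_natDegree_eq_zero hcA⟩
  obtain ⟨b, hb⟩ : ∃ b : k, B / g = C b := ⟨_, eq_C_of_natDegree_eq_zero hcB⟩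
  have hb0 : b ≠ 0 := by
    rintro rfl
    rw [hb, C_0, mul_zero] at hB'
    exact hB0 hB'.symm
  have hdep : b • A + (-a) • B = 0 := by
    rw [← hA', ← hB', ha, hb, smul_eq_C_mul, smul_eq_C_mul, C_neg]
    ring
  exact hb0 (hli b (-a) hdep).1

end gen

section three

variable {k : Type*} [Field k]

/-- The numerical data: distinct points, `2 ≤ e i ≤ d`, `e 0 + e 1 + e 2 = 2 d + 1`. -/
structure Data (d : ℕ) (P : Fin 3 → k) (e : Fin 3 → ℕ) : Prop where
  inj : Function.Injective P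
  two_le : ∀ i, 2 ≤ e i
  le_d : ∀ i, e i ≤ d
  sum : e 0 + e 1 + e 2 = 2 * d + 1

theorem Data.of_admissible {p d : ℕ} {P : Fin 3 → k} {e : Fin 3 → ℕ} (hP : Function.Injective P)
    (he : W4c1limliniiii.Admissible p d e) : Data d P e := by
  refine ⟨hP, fun i => (he.1 i).1, fun i => (he.1 i).2.1, ?_⟩
  have h := he.2
  rw [Fin.sum_univ_three] at h
  omega

theorem fin3 : ∀ x : Fin 3, x = 0 ∨ x = 1 ∨ x = 2 := by decide

variable {d : ℕ} {P : Fin 3 → k} {e : Fin 3 → ℕ}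

theorem Data.pair (D : Data d P e) : ∀ i j : Fin 3, i ≠ j → d + 1 ≤ e i + e j := by
  intro i j hij
  have h0 := D.le_d 0
  have h1 := D.le_d 1
  have h2 := D.le_d 2
  have hs := D.sum
  rcases fin3 i with rfl | rfl | rfl <;> rcases fin3 j with rfl | rfl | rfl <;>
    first | exact absurd rfl hij | omega

theorem Data.sum_pred (D : Data d P e) : ∑ i, (e i - 1) + 2 = 2 * d := by
  have h0 := D.two_le 0
  have h1 := D.two_le 1
  have h2 := D.two_le 2
  have hs := D.sum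
  rw [Fin.sum_univ_three]
  omega

theorem Data.no_common (D : Data d P e) (i j : Fin 3) (hij : i ≠ j) (s : k[X]) (hs : s ≠ 0)
    (hd : s.natDegree ≤ d) (hi : (X - C (P i)) ^ e i ∣ s) (hj : (X - C (P j)) ^ e j ∣ s) :
    False := by
  have hcop : IsCoprime ((X - C (P i)) ^ e i) ((X - C (P j)) ^ e j) :=
    IsCoprime.pow
      (isCoprime_X_sub_C_of_isUnit_sub (sub_ne_zero.mpr (fun h => hij (D.inj h))).isUnit)
  have h1 := natDegree_le_of_dvd (hcop.mul_dvd hi hj) hs
  rw [natDegree_mul (pow_ne_zero _ (X_sub_C_ne_zero _)) (pow_ne_zero _ (X_sub_C_ne_zero _)),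
    natDegree_pow_X_sub_C', natDegree_pow_X_sub_C'] at h1
  have := D.pair i j hij
  omega

/-- A two-dimensional space of polynomials of degree `≤ d` with members vanishing to order
`≥ e i` at `P i`. -/
def Good (d : ℕ) (P : Fin 3 → k) (e : Fin 3 → ℕ) (V : Submodule k k[X]) : Prop :=
  V ≤ degreeLE k (d : WithBot ℕ) ∧ Module.finrank k ↥V = 2 ∧
    ∀ i, ∃ s ∈ V, s ≠ 0 ∧ (X - C (P i)) ^ e i ∣ s

theorem good_of_mem {V : Submodule k k[X]} (hV : V ∈ W4c1limliniiii.ramMaps d P e) :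
    Good d P e V := by
  obtain ⟨⟨hle, hfin, _, _⟩, _, hram⟩ := hV
  refine ⟨hle, hfin, fun i => ?_⟩
  obtain ⟨s, hs, hs0, hsm⟩ := (hram i).1
  exact ⟨s, hs, hs0, (le_rootMultiplicity_iff hs0).mp hsm⟩

theorem Good.normal (D : Data d P e) {V : Submodule k k[X]} (hV : Good d P e V) :
    ∃ G0 G1 : k[X], G0 ∈ V ∧ G1 ∈ V ∧ G0 ≠ 0 ∧ G1 ≠ 0 ∧ G0 - G1 ≠ 0 ∧
      (X - C (P 0)) ^ e 0 ∣ G0 ∧ (X - C (P 1)) ^ e 1 ∣ G1 ∧ (X - C (P 2)) ^ e 2 ∣ (G0 - G1) ∧
      (∀ a b : k, a • G0 + b • G1 = 0 → a = 0 ∧ b = 0) ∧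
      (∀ s ∈ V, ∃ a b : k, s = a • G0 + b • G1) := by
  obtain ⟨hle, hfin, hmem⟩ := hV
  obtain ⟨s0, hs0V, hs00, hs0d⟩ := hmem 0
  obtain ⟨s1, hs1V, hs10, hs1d⟩ := hmem 1
  obtain ⟨s2, hs2V, hs20, hs2d⟩ := hmem 2
  have hdeg : ∀ s ∈ V, s.natDegree ≤ d := fun s hs => natDegree_le_of_mem_degreeLE (hle hs)
  have hli : ∀ a b : k, a • s0 + b • s1 = 0 → a = 0 ∧ b = 0 := by
    intro a b hab
    have hb : b = 0 := by
      by_contra hb
      exact D.no_common 0 1 (by decide) s1 hs10 (hdeg s1 hs1V)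
        (dvd_of_comb_eq_zero hb hab hs0d) hs1d
    subst hb
    rw [zero_smul, add_zero] at hab
    exact ⟨(smul_eq_zero.mp hab).resolve_right hs00, rfl⟩
  obtain ⟨α, β, hs2⟩ := exists_comb_of_finrank_two V hfin s0 s1 hs0V hs1V hli s2 hs2V
  have hα : α ≠ 0 := by
    rintro rfl
    rw [zero_smul, zero_add] at hs2
    have h1 : (X - C (P 1)) ^ e 1 ∣ s2 := by
      rw [hs2, smul_eq_C_mul]; exact Dvd.dvd.mul_left hs1d _
    exact D.no_common 1 2 (by decide) s2 hs20 (hdeg s2 hs2V) h1 hs2d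
  have hβ : β ≠ 0 := by
    rintro rfl
    rw [zero_smul, add_zero] at hs2
    have h1 : (X - C (P 0)) ^ e 0 ∣ s2 := by
      rw [hs2, smul_eq_C_mul]; exact Dvd.dvd.mul_left hs0d _
    exact D.no_common 0 2 (by decide) s2 hs20 (hdeg s2 hs2V) h1 hs2d
  have hdiff : α • s0 - (-β) • s1 = s2 := by
    rw [hs2, neg_smul, sub_neg_eq_add]
  refine ⟨α • s0, (-β) • s1, V.smul_mem _ hs0V, V.smul_mem _ hs1V, smul_ne_zero hα hs00,
    smul_ne_zero (neg_ne_zero.mpr hβ) hs10, by rw [hdiff]; exact hs20, ?_, ?_,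
    by rw [hdiff]; exact hs2d, ?_, ?_⟩
  · rw [smul_eq_C_mul]; exact Dvd.dvd.mul_left hs0d _
  · rw [smul_eq_C_mul]; exact Dvd.dvd.mul_left hs1d _
  · intro a b hab
    rw [smul_smul, smul_smul] at hab
    obtain ⟨h1, h2⟩ := hli _ _ hab
    refine ⟨(mul_eq_zero.mp h1).resolve_right hα, ?_⟩
    exact (mul_eq_zero.mp h2).resolve_right (neg_ne_zero.mpr hβ)
  · intro s hs
    obtain ⟨a, b, hab⟩ := exists_comb_of_finrank_two V hfin s0 s1 hs0V hs1V hli s hs
    refine ⟨a / α, b / (-β), ?_⟩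
    rw [smul_smul, smul_smul, div_mul_cancel₀ _ hα, div_mul_cancel₀ _ (neg_ne_zero.mpr hβ)]
    exact hab

theorem Data.delta (D : Data d P e) (G0 G1 G0' G1' : k[X]) (h0 : G0.natDegree ≤ d)
    (h1 : G1.natDegree ≤ d) (h0' : G0'.natDegree ≤ d) (h1' : G1'.natDegree ≤ d)
    (d0 : (X - C (P 0)) ^ e 0 ∣ G0) (d1 : (X - C (P 1)) ^ e 1 ∣ G1)
    (d2 : (X - C (P 2)) ^ e 2 ∣ (G0 - G1))
    (d0' : (X - C (P 0)) ^ e 0 ∣ G0') (d1' : (X - C (P 1)) ^ e 1 ∣ G1')
    (d2' : (X - C (P 2)) ^ e 2 ∣ (G0' - G1')) : G0 * G1' = G0' * G1 := by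
  by_contra hne
  have hΔ : G0 * G1' - G0' * G1 ≠ 0 := sub_ne_zero.mpr hne
  have hdiv : ∀ i, (X - C (P i)) ^ e i ∣ G0 * G1' - G0' * G1 := by
    intro i
    rcases fin3 i with rfl | rfl | rfl
    · exact dvd_sub (Dvd.dvd.mul_right d0 _) (Dvd.dvd.mul_right d0' _)
    · exact dvd_sub (Dvd.dvd.mul_left d1' _) (Dvd.dvd.mul_left d1 _)
    · have h : G0 * G1' - G0' * G1 = (G0 - G1) * G1' - (G0' - G1') * G1 := by ring
      rw [h]
      exact dvd_sub (Dvd.dvd.mul_right d2 _) (Dvd.dvd.mul_right d2' _)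
  have h := sum_le_natDegree P D.inj e _ hΔ hdiv
  rw [Fin.sum_univ_three, D.sum] at h
  have hdeg : (G0 * G1' - G0' * G1).natDegree ≤ 2 * d := by
    refine (natDegree_sub_le _ _).trans (max_le ?_ ?_)
    · exact natDegree_mul_le.trans (by omega)
    · exact natDegree_mul_le.trans (by omega)
  omega

theorem coprime_of_bpf [IsAlgClosed k] {V : Submodule k k[X]} {G0 G1 : k[X]}
    (hbpf : ∀ a : k, ∃ s ∈ V, s.eval a ≠ 0)
    (hspan : ∀ s ∈ V, ∃ a b : k, s = a • G0 + b • G1) : IsCoprime G0 G1 := by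
  rw [isCoprime_iff_aeval_ne_zero_of_isAlgClosed k k]
  intro a
  by_contra hcon
  push Not at hcon
  obtain ⟨s, hsV, hsa⟩ := hbpf a
  obtain ⟨α, β, rfl⟩ := hspan s hsV
  apply hsa
  have h0 : G0.eval a = 0 := by simpa using hcon.1
  have h1 : G1.eval a = 0 := by simpa using hcon.2
  rw [eval_add, eval_smul, eval_smul, h0, h1, smul_zero, smul_zero, add_zero]

theorem ramMaps_subsingleton [IsAlgClosed k] (D : Data d P e) :
    (W4c1limliniiii.ramMaps d P e).Subsingleton := by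
  intro V hV V' hV'
  have hg := good_of_mem hV
  have hg' := good_of_mem hV'
  obtain ⟨G0, G1, hG0V, hG1V, hG00, hG10, _, d0, d1, d2, _, hspan⟩ := hg.normal D
  obtain ⟨G0', G1', hG0V', hG1V', hG00', hG10', _, d0', d1', d2', _, hspan'⟩ := hg'.normal D
  have hdeg : ∀ s ∈ V, s.natDegree ≤ d := fun s hs => natDegree_le_of_mem_degreeLE (hg.1 hs)
  have hdeg' : ∀ s ∈ V', s.natDegree ≤ d := fun s hs => natDegree_le_of_mem_degreeLE (hg'.1 hs)
  have hΔ := D.delta G0 G1 G0' G1' (hdeg _ hG0V) (hdeg _ hG1V) (hdeg' _ hG0V') (hdeg' _ hG1V')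
    d0 d1 d2 d0' d1' d2'
  have hcop : IsCoprime G0 G1 := coprime_of_bpf hV.1.2.2.2 hspan
  have hcop' : IsCoprime G0' G1' := coprime_of_bpf hV'.1.2.2.2 hspan'
  have hd1 : G0 ∣ G0' := hcop.dvd_of_dvd_mul_right ⟨G1', hΔ.symm⟩
  have hd2 : G0' ∣ G0 := hcop'.dvd_of_dvd_mul_right ⟨G1, hΔ⟩
  obtain ⟨u, hu⟩ := associated_of_dvd_dvd hd1 hd2
  obtain ⟨c, hc, hcu⟩ := Polynomial.isUnit_iff.mp u.isUnit
  have hc0 : c ≠ 0 := hc.ne_zero
  have hG0' : G0' = C c * G0 := by rw [← hu, ← hcu, mul_comm]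
  have hG1' : G1' = C c * G1 := by
    apply mul_left_cancel₀ hG00
    rw [hΔ, hG0']
    ring
  have hle : V ≤ V' := by
    intro s hs
    obtain ⟨a, b, rfl⟩ := hspan s hs
    have e0 : G0 = c⁻¹ • G0' := by
      rw [hG0', smul_eq_C_mul, ← mul_assoc, ← C_mul, inv_mul_cancel₀ hc0, C_1, one_mul]
    have e1 : G1 = c⁻¹ • G1' := by
      rw [hG1', smul_eq_C_mul, ← mul_assoc, ← C_mul, inv_mul_cancel₀ hc0, C_1, one_mul]
    rw [e0, e1]
    exact V'.add_mem (V'.smul_mem _ (V'.smul_mem _ hG0V')) (V'.smul_mem _ (V'.smul_mem _ hG1V'))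
  have hfd : FiniteDimensional k ↥V' := Module.finite_of_finrank_pos (by rw [hg'.2.1]; omega)
  exact Submodule.eq_of_le_of_finrank_eq hle (by rw [hg.2.1, hg'.2.1])

theorem not_mem_of_insep [IsAlgClosed k] (D : Data d P e) {V₀ : Submodule k k[X]}
    (hg₀ : Good d P e V₀) (hinsep : ¬ W4c1limliniiii.IsSeparable V₀) {V : Submodule k k[X]}
    (hV : V ∈ W4c1limliniiii.ramMaps d P e) : False := by
  have hg := good_of_mem hV
  obtain ⟨G0, G1, hG0V, hG1V, hG00, hG10, _, d0, d1, d2, _, hspan⟩ := hg.normal D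
  obtain ⟨G0', G1', hG0V', hG1V', hG00', hG10', _, d0', d1', d2', _, _⟩ := hg₀.normal D
  have hdeg : ∀ s ∈ V, s.natDegree ≤ d := fun s hs => natDegree_le_of_mem_degreeLE (hg.1 hs)
  have hdeg' : ∀ s ∈ V₀, s.natDegree ≤ d := fun s hs => natDegree_le_of_mem_degreeLE (hg₀.1 hs)
  have hΔ := D.delta G0 G1 G0' G1' (hdeg _ hG0V) (hdeg _ hG1V) (hdeg' _ hG0V') (hdeg' _ hG1V')
    d0 d1 d2 d0' d1' d2'
  have hcop : IsCoprime G0 G1 := coprime_of_bpf hV.1.2.2.2 hspan
  obtain ⟨u, hu⟩ : G0 ∣ G0' := hcop.dvd_of_dvd_mul_right ⟨G1', hΔ.symm⟩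
  have hu0 : u ≠ 0 := by
    rintro rfl
    rw [mul_zero] at hu
    exact hG00' hu
  have hG1' : G1' = u * G1 := by
    apply mul_left_cancel₀ hG00
    rw [hΔ, hu]
    ring
  have hw : wronskian G0 G1 ≠ 0 := by
    obtain ⟨F, hF, G, hG, hFG⟩ := hV.2.1
    obtain ⟨a, b, rfl⟩ := hspan F hF
    obtain ⟨a', b', rfl⟩ := hspan G hG
    rw [wronskian_comb] at hFG
    exact right_ne_zero_of_mul hFG
  apply hinsep
  refine ⟨G0', hG0V', G1', hG1V', ?_⟩
  rw [hu, hG1', mul_comm G0 u, wronskian_mul_mul]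
  exact mul_ne_zero (pow_ne_zero 2 hu0) hw

/-- The linear map `(f, g, h) ↦ x₀^e₀ f - x₁^e₁ g - x₂^e₂ h`. -/
noncomputable def Psi (d : ℕ) (P : Fin 3 → k) (e : Fin 3 → ℕ) :
    (↥(degreeLT k (d + 1 - e 0)) × ↥(degreeLT k (d + 1 - e 1)) × ↥(degreeLT k (d + 1 - e 2)))
      →ₗ[k] k[X] where
  toFun x := (X - C (P 0)) ^ e 0 * (x.1 : k[X]) - (X - C (P 1)) ^ e 1 * (x.2.1 : k[X]) -
    (X - C (P 2)) ^ e 2 * (x.2.2 : k[X])
  map_add' x y := by
    simp only [Prod.fst_add, Prod.snd_add, Submodule.coe_add, mul_add]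
    ring
  map_smul' c x := by
    simp only [Prod.smul_fst, Prod.smul_snd, Submodule.coe_smul, RingHom.id_apply, mul_smul_comm,
      smul_sub]

theorem Psi_apply (x : ↥(degreeLT k (d + 1 - e 0)) × ↥(degreeLT k (d + 1 - e 1)) ×
    ↥(degreeLT k (d + 1 - e 2))) :
    Psi d P e x = (X - C (P 0)) ^ e 0 * (x.1 : k[X]) - (X - C (P 1)) ^ e 1 * (x.2.1 : k[X]) -
      (X - C (P 2)) ^ e 2 * (x.2.2 : k[X]) := rfl

theorem mul_pow_mem (D : Data d P e) (i : Fin 3) (f : k[X]) (hf : f ∈ degreeLT k (d + 1 - e i)) :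
    (X - C (P i)) ^ e i * f ∈ degreeLT k (d + 1) := by
  by_cases h0 : f = 0
  · rw [h0, mul_zero]; exact Submodule.zero_mem _
  · have h1 : f.natDegree < d + 1 - e i := (natDegree_lt_iff_degree_lt h0).mpr (mem_degreeLT.mp hf)
    have h2 : ((X - C (P i)) ^ e i * f).natDegree = e i + f.natDegree := by
      rw [natDegree_mul (pow_ne_zero _ (X_sub_C_ne_zero _)) h0, natDegree_pow_X_sub_C']
    have h3 : (X - C (P i)) ^ e i * f ≠ 0 := mul_ne_zero (pow_ne_zero _ (X_sub_C_ne_zero _)) h0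
    rw [mem_degreeLT, ← natDegree_lt_iff_degree_lt h3, h2]
    have := D.le_d i
    omega

theorem natDegree_le_of_mem_degreeLT_succ {p : k[X]} {n : ℕ} (h : p ∈ degreeLT k (n + 1)) :
    p.natDegree ≤ n := by
  rw [degreeLT_succ_eq_degreeLE] at h
  exact natDegree_le_of_mem_degreeLE h

theorem exists_kernel (D : Data d P e) : ∃ x, x ≠ 0 ∧ Psi d P e x = 0 := by
  have hrange : LinearMap.range (Psi d P e) ≤ degreeLT k (d + 1) := by
    rintro _ ⟨x, rfl⟩
    rw [Psi_apply]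
    exact Submodule.sub_mem _ (Submodule.sub_mem _ (mul_pow_mem D 0 _ x.1.2)
      (mul_pow_mem D 1 _ x.2.1.2)) (mul_pow_mem D 2 _ x.2.2.2)
  have h1 := LinearMap.finrank_range_add_finrank_ker (Psi d P e)
  have h2 : Module.finrank k ↥(LinearMap.range (Psi d P e)) ≤ d + 1 := by
    have h := Submodule.finrank_mono hrange
    rwa [finrank_degreeLT'] at h
  have h3 : Module.finrank k (↥(degreeLT k (d + 1 - e 0)) × ↥(degreeLT k (d + 1 - e 1)) ×
      ↥(degreeLT k (d + 1 - e 2))) = (d + 1 - e 0) + ((d + 1 - e 1) + (d + 1 - e 2)) := by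
    rw [Module.finrank_prod, Module.finrank_prod, finrank_degreeLT', finrank_degreeLT',
      finrank_degreeLT']
  have h4 : 1 ≤ Module.finrank k ↥(LinearMap.ker (Psi d P e)) := by
    have := D.sum
    have := D.le_d 0
    have := D.le_d 1
    have := D.le_d 2
    omega
  have hne : LinearMap.ker (Psi d P e) ≠ ⊥ := by
    intro hbot
    rw [hbot, finrank_bot] at h4
    omega
  obtain ⟨x, hx, hx0⟩ := Submodule.exists_mem_ne_zero_of_ne_bot hne
  exact ⟨x, hx0, LinearMap.mem_ker.mp hx⟩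

theorem exists_pair (D : Data d P e) : ∃ F G : k[X], F ≠ 0 ∧ G ≠ 0 ∧ F - G ≠ 0 ∧
    F.natDegree ≤ d ∧ G.natDegree ≤ d ∧ (X - C (P 0)) ^ e 0 ∣ F ∧ (X - C (P 1)) ^ e 1 ∣ G ∧
    (X - C (P 2)) ^ e 2 ∣ (F - G) ∧ (∀ a b : k, a • F + b • G = 0 → a = 0 ∧ b = 0) := by
  obtain ⟨⟨f, g, h⟩, hx0, hx⟩ := exists_kernel D
  rw [Psi_apply] at hx
  obtain ⟨F, hF⟩ : ∃ F : k[X], F = (X - C (P 0)) ^ e 0 * (f : k[X]) := ⟨_, rfl⟩
  obtain ⟨G, hG⟩ : ∃ G : k[X], G = (X - C (P 1)) ^ e 1 * (g : k[X]) := ⟨_, rfl⟩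
  obtain ⟨H, hH⟩ : ∃ H : k[X], H = (X - C (P 2)) ^ e 2 * (h : k[X]) := ⟨_, rfl⟩
  have hx' : F - G - H = 0 := by rw [hF, hG, hH]; exact hx
  have hFGH : F - G = H := sub_eq_zero.mp hx'
  have hFd : F.natDegree ≤ d := by
    rw [hF]; exact natDegree_le_of_mem_degreeLT_succ (mul_pow_mem D 0 _ f.2)
  have hGd : G.natDegree ≤ d := by
    rw [hG]; exact natDegree_le_of_mem_degreeLT_succ (mul_pow_mem D 1 _ g.2)
  have d0 : (X - C (P 0)) ^ e 0 ∣ F := ⟨_, hF⟩
  have d1 : (X - C (P 1)) ^ e 1 ∣ G := ⟨_, hG⟩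
  have d2 : (X - C (P 2)) ^ e 2 ∣ F - G := ⟨_, hFGH.trans hH⟩
  have hall : ¬ (F = 0 ∧ G = 0) := by
    rintro ⟨hF0, hG0⟩
    have hH0 : H = 0 := by rw [← hFGH, hF0, hG0, sub_zero]
    apply hx0
    have hf0 : (f : k[X]) = 0 := by
      rw [hF] at hF0
      exact (mul_eq_zero.mp hF0).resolve_left (pow_ne_zero _ (X_sub_C_ne_zero _))
    have hg0 : (g : k[X]) = 0 := by
      rw [hG] at hG0
      exact (mul_eq_zero.mp hG0).resolve_left (pow_ne_zero _ (X_sub_C_ne_zero _))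
    have hh0 : (h : k[X]) = 0 := by
      rw [hH] at hH0
      exact (mul_eq_zero.mp hH0).resolve_left (pow_ne_zero _ (X_sub_C_ne_zero _))
    exact Prod.ext (Subtype.ext hf0) (Prod.ext (Subtype.ext hg0) (Subtype.ext hh0))
  have hF0 : F ≠ 0 := by
    intro hF0
    have hG0 : G ≠ 0 := fun hG0 => hall ⟨hF0, hG0⟩
    have h2 : (X - C (P 2)) ^ e 2 ∣ G := by
      have h3 : G = -(F - G) := by rw [hF0]; ring
      rw [h3]; exact dvd_neg.mpr d2
    exact D.no_common 1 2 (by decide) G hG0 hGd d1 h2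
  have hG0 : G ≠ 0 := by
    intro hG0
    have h2 : (X - C (P 2)) ^ e 2 ∣ F := by
      have h3 : F = F - G := by rw [hG0, sub_zero]
      rw [h3]; exact d2
    exact D.no_common 0 2 (by decide) F hF0 hFd d0 h2
  have hH0 : F - G ≠ 0 := by
    intro hFG
    have h3 : F = G := sub_eq_zero.mp hFG
    exact D.no_common 0 1 (by decide) F hF0 hFd d0 (by rw [h3]; exact d1)
  refine ⟨F, G, hF0, hG0, hH0, hFd, hGd, d0, d1, d2, ?_⟩
  intro a b hab
  have hb : b = 0 := by
    by_contra hb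
    exact D.no_common 0 1 (by decide) G hG0 hGd (dvd_of_comb_eq_zero hb hab d0) d1
  subst hb
  rw [zero_smul, add_zero] at hab
  exact ⟨(smul_eq_zero.mp hab).resolve_right hF0, rfl⟩

theorem good_span (D : Data d P e) (F G : k[X]) (hF0 : F ≠ 0) (hG0 : G ≠ 0) (hH0 : F - G ≠ 0)
    (hFd : F.natDegree ≤ d) (hGd : G.natDegree ≤ d) (d0 : (X - C (P 0)) ^ e 0 ∣ F)
    (d1 : (X - C (P 1)) ^ e 1 ∣ G) (d2 : (X - C (P 2)) ^ e 2 ∣ (F - G))
    (hli : ∀ a b : k, a • F + b • G = 0 → a = 0 ∧ b = 0) :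
    Good d P e (Submodule.span k (Set.range ![F, G])) := by
  have hFm : F ∈ Submodule.span k (Set.range ![F, G]) := Submodule.subset_span ⟨0, rfl⟩
  have hGm : G ∈ Submodule.span k (Set.range ![F, G]) := Submodule.subset_span ⟨1, rfl⟩
  refine ⟨?_, ?_, ?_⟩
  · rw [Submodule.span_le]
    rintro _ ⟨i, rfl⟩
    rcases (by decide : ∀ x : Fin 2, x = 0 ∨ x = 1) i with rfl | rfl
    · exact mem_degreeLE_of_natDegree_le hFd
    · exact mem_degreeLE_of_natDegree_le hGd
  · rw [finrank_span_eq_card (LinearIndependent.pair_iff.mpr hli), Fintype.card_fin]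
  · intro i
    rcases fin3 i with rfl | rfl | rfl
    · exact ⟨F, hFm, hF0, d0⟩
    · exact ⟨G, hGm, hG0, d1⟩
    · exact ⟨F - G, Submodule.sub_mem _ hFm hGm, hH0, d2⟩

theorem mem_ramMaps_of_sep (D : Data d P e) (F G : k[X]) (hF0 : F ≠ 0) (hG0 : G ≠ 0)
    (hH0 : F - G ≠ 0) (hFd : F.natDegree ≤ d) (hGd : G.natDegree ≤ d)
    (d0 : (X - C (P 0)) ^ e 0 ∣ F) (d1 : (X - C (P 1)) ^ e 1 ∣ G)
    (d2 : (X - C (P 2)) ^ e 2 ∣ (F - G))
    (hli : ∀ a b : k, a • F + b • G = 0 → a = 0 ∧ b = 0) (hw : wronskian F G ≠ 0) :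
    Submodule.span k (Set.range ![F, G]) ∈ W4c1limliniiii.ramMaps d P e := by
  have hgood := good_span D F G hF0 hG0 hH0 hFd hGd d0 d1 d2 hli
  have hFm : F ∈ Submodule.span k (Set.range ![F, G]) := Submodule.subset_span ⟨0, rfl⟩
  have hGm : G ∈ Submodule.span k (Set.range ![F, G]) := Submodule.subset_span ⟨1, rfl⟩
  have hwdeg := natDegree_wronskian_le d F G hFd hGd hw
  have e1 : ∀ i, e i - 1 + 1 = e i := fun i => Nat.sub_add_cancel (le_trans (by norm_num) (D.two_le i))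
  -- the Wronskian as seen from each point
  have hw1 : wronskian F G = -wronskian G F := by rw [wronskian_neg_eq]
  have hw2 : wronskian F G = wronskian (F - G) F := (wronskian_sub_left F G).symm
  have hwdiv : ∀ i, (X - C (P i)) ^ (e i - 1) ∣ wronskian F G := by
    intro i
    rcases fin3 i with rfl | rfl | rfl
    · exact dvd_wronskian_left (P 0) (e 0 - 1) F G (by rw [e1]; exact d0)
    · rw [hw1]
      exact dvd_neg.mpr (dvd_wronskian_left (P 1) (e 1 - 1) G F (by rw [e1]; exact d1))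
    · rw [hw2]
      exact dvd_wronskian_left (P 2) (e 2 - 1) (F - G) F (by rw [e1]; exact d2)
  have hsum := D.sum_pred
  have hexa : ∀ a : k, (∀ i, a ≠ P i) → ¬ (X - C a) ∣ wronskian F G := by
    intro a ha hdvd
    have := sum_add_one_le_natDegree P D.inj (fun i => e i - 1) a ha _ hw hwdiv hdvd
    omega
  have hexb : ∀ i, ¬ (X - C (P i)) ^ e i ∣ wronskian F G := by
    intro i hdvd
    have := sum_succ_le_natDegree P D.inj (fun i => e i - 1) i _ hw hwdiv
      (by show (X - C (P i)) ^ (e i - 1 + 1) ∣ _; rw [e1]; exact hdvd)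
    omega
  refine ⟨⟨hgood.1, hgood.2.1, ?_, ?_⟩, ⟨F, hFm, G, hGm, hw⟩, ?_⟩
  · -- a member of degree exactly d
    by_contra hcon
    push Not at hcon
    have hF' : F.natDegree ≠ d := hcon F hFm
    have hG' : G.natDegree ≠ d := hcon G hGm
    have h1 := natDegree_wronskian_lt_add hw
    have h2 := sum_le_natDegree P D.inj (fun i => e i - 1) _ hw hwdiv
    omega
  · -- no base points
    intro a
    by_contra hcon
    push Not at hcon
    have hFa : (X - C a) ∣ F := dvd_iff_isRoot.mpr (hcon F hFm)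
    have hGa : (X - C a) ∣ G := dvd_iff_isRoot.mpr (hcon G hGm)
    by_cases hex : ∃ i, a = P i
    · obtain ⟨i, rfl⟩ := hex
      rcases fin3 i with rfl | rfl | rfl
      · have := dvd_wronskian_both (P 0) (e 0 - 1) F G (by rw [e1]; exact d0) hGa
        rw [e1] at this
        exact hexb 0 this
      · have := dvd_wronskian_both (P 1) (e 1 - 1) G F (by rw [e1]; exact d1) hFa
        rw [e1] at this
        exact hexb 1 (by rw [hw1]; exact dvd_neg.mpr this)
      · have := dvd_wronskian_both (P 2) (e 2 - 1) (F - G) F (by rw [e1]; exact d2) hFa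
        rw [e1] at this
        exact hexb 2 (by rw [hw2]; exact this)
    · push Not at hex
      have := dvd_wronskian_both a 0 F G (by rw [zero_add, pow_one]; exact hFa) hGa
      rw [zero_add, pow_one] at this
      exact hexa a hex this
  · -- exact ramification
    intro i
    constructor
    · obtain ⟨s, hs, hs0, hsd⟩ := hgood.2.2 i
      exact ⟨s, hs, hs0, (le_rootMultiplicity_iff hs0).mpr hsd⟩
    · intro s hs hs0
      by_contra hcon
      push Not at hcon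
      have hsd : (X - C (P i)) ^ (e i + 1) ∣ s := (le_rootMultiplicity_iff hs0).mp hcon
      obtain ⟨α, β, rfl⟩ := exists_of_mem_span_pair' F G s hs
      have h1 : (X - C (P i)) ^ e i ∣ wronskian (α • F + β • G) G :=
        dvd_wronskian_left (P i) (e i) _ G hsd
      have h2 : (X - C (P i)) ^ e i ∣ wronskian (α • F + β • G) F :=
        dvd_wronskian_left (P i) (e i) _ F hsd
      have h1' : wronskian (α • F + β • G) G = C α * wronskian F G := by
        have h := wronskian_comb F G α β 0 1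
        rw [zero_smul, zero_add, one_smul] at h
        have h' : α * 1 - 0 * β = α := by ring
        rw [h, h']
      have h2' : wronskian (α • F + β • G) F = C (-β) * wronskian F G := by
        have h := wronskian_comb F G α β 1 0
        rw [one_smul, zero_smul, add_zero] at h
        have h' : α * 0 - 1 * β = -β := by ring
        rw [h, h']
      by_cases hα : α = 0
      · have hβ : β ≠ 0 := by
          rintro rfl
          apply hs0
          rw [hα, zero_smul, zero_smul, add_zero]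
        rw [h2'] at h2
        exact hexb i ((IsUnit.dvd_mul_left (isUnit_C.mpr (neg_ne_zero.mpr hβ).isUnit)).mp h2)
      · rw [h1'] at h1
        exact hexb i ((IsUnit.dvd_mul_left (isUnit_C.mpr (Ne.isUnit hα))).mp h1)

theorem exists_insep_of_empty (D : Data d P e) (hempty : W4c1limliniiii.ramMaps d P e = ∅) :
    ∃ V₀ : Submodule k k[X], Good d P e V₀ ∧ ¬ W4c1limliniiii.IsSeparable V₀ := by
  obtain ⟨F, G, hF0, hG0, hH0, hFd, hGd, d0, d1, d2, hli⟩ := exists_pair D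
  refine ⟨Submodule.span k (Set.range ![F, G]),
    good_span D F G hF0 hG0 hH0 hFd hGd d0 d1 d2 hli, ?_⟩
  intro hsep
  obtain ⟨F', hF', G', hG', hFG⟩ := hsep
  obtain ⟨a, b, rfl⟩ := exists_of_mem_span_pair' F G F' hF'
  obtain ⟨a', b', rfl⟩ := exists_of_mem_span_pair' F G G' hG'
  rw [wronskian_comb] at hFG
  have hw : wronskian F G ≠ 0 := right_ne_zero_of_mul hFG
  have hmem := mem_ramMaps_of_sep D F G hF0 hG0 hH0 hFd hGd d0 d1 d2 hli hw
  rw [hempty] at hmem
  exact hmem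

end three

end Groth.Agent.H88.RamP1
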