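import Mathlib
import Groth.Prelude.Def_AlgSt
import Groth.Agent.S12815
import Groth.Agent.H32.StkGlue
import Groth.Agent.H32.RepStack

/-!
# Object-level forms of the stack conditions (helper88)

For a category `𝒯` fibred in groupoids over `C` and a sieve `R` on `U`:
* `LocEq 𝒯 R`  : morphisms over the same base arrow agreeing locally on `R` are equal
  (`⇔ (Stk.resSieve R 𝒯).Faithful`);
* `GlueHom 𝒯 R`: gluing of morphisms in relational form (`⇔ Full`, given the above);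
* `GlueObj 𝒯 R`: every functor `sieveCat R ⥤ᵇ 𝒯` has a "colimit cocone" over `U` (`⇔ EssSurj`).
Also: composition of categories fibred in groupoids, `strictify`, pulled back sieves.
-/

set_option autoImplicit false
open CategoryTheory

universe w₁ w₂ w₃ w₄ v u

namespace Groth.Agent.H88.StkObj

open FibCat Groth.Agent.S12815

section Chains
variable {𝒟 : Type w₃} [Category.{w₄} 𝒟]

theorem chP {s a t t' : 𝒟} (κ : s ⟶ a) (g : a ⟶ t) (ψ : s ⟶ t) (x y : t ⟶ t') (hκ : κ ≫ g = ψ)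
    (e : g ≫ x = g ≫ y) : ψ ≫ x = ψ ≫ y := by
  rw [← hκ, Category.assoc, Category.assoc, e]

theorem chA {A B A' B' Y T : 𝒟} (Gm : A ⟶ B) (θb : B ⟶ B') (lb : B' ⟶ Y) (θa : A ⟶ A')
    (Hm : A' ⟶ B') (la : A' ⟶ Y) (Gτb : B ⟶ T) (Gτa : A ⟶ T) (t : T ⟶ Y)
    (h1 : θb ≫ lb = Gτb ≫ t) (h2 : θa ≫ la = Gτa ≫ t) (c1 : Gm ≫ Gτb = Gτa) (n : Hm ≫ lb = la) :
    (Gm ≫ θb) ≫ lb = (θa ≫ Hm) ≫ lb := by
  rw [Category.assoc, h1, ← Category.assoc, c1, Category.assoc, n, h2]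

theorem chB {A B A' B' T : 𝒟} (Hm : A ⟶ B) (ib : B ⟶ B') (Gτb : B' ⟶ T) (ia : A ⟶ A')
    (Gm : A' ⟶ B') (Gτa : A' ⟶ T) (n : Hm ≫ ib = ia ≫ Gm) (c1 : Gm ≫ Gτb = Gτa) :
    Hm ≫ ib ≫ Gτb = ia ≫ Gτa := by
  rw [← Category.assoc, n, Category.assoc, c1]

theorem chC {s A₀ A T : 𝒟} (κ₀ : s ⟶ A₀) (G₁k : A₀ ⟶ A) (τc : A ⟶ T) (τc₀ : A₀ ⟶ T)
    (c1 : G₁k ≫ τc = τc₀) : (κ₀ ≫ G₁k) ≫ τc = κ₀ ≫ τc₀ := by
  rw [Category.assoc, c1]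

theorem chD {s A₀ A B₀ B T : 𝒟} (κ₀ : s ⟶ A₀) (G₁k : A₀ ⟶ A) (γc : A ⟶ B) (G₂τc : B ⟶ T)
    (γc₀ : A₀ ⟶ B₀) (G₂k : B₀ ⟶ B) (G₂τc₀ : B₀ ⟶ T) (n : G₁k ≫ γc = γc₀ ≫ G₂k)
    (c2 : G₂k ≫ G₂τc = G₂τc₀) : (κ₀ ≫ G₁k) ≫ γc ≫ G₂τc = κ₀ ≫ γc₀ ≫ G₂τc₀ := by
  rw [Category.assoc, reassoc_of% n, c2]

theorem chS {Z Z' A A' X : 𝒟} (kl : Z ⟶ Z') (σ' : Z' ⟶ A') (lam' : A' ⟶ X) (σ : Z ⟶ A)
    (j : A ⟶ A') (lam : A ⟶ X) (h' : Z' ⟶ X) (h : Z ⟶ X) (e' : σ' ≫ lam' = h') (e : σ ≫ lam = h)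
    (n : j ≫ lam' = lam) (w : kl ≫ h' = h) : (kl ≫ σ') ≫ lam' = (σ ≫ j) ≫ lam' := by
  rw [Category.assoc, e', w, Category.assoc, n, e]

theorem chK {A' A₀ A B' B₀ B : 𝒟} (θa : A' ⟶ A₀) (Hia : A₀ ⟶ A) (Hm : A ⟶ B) (Hmt' : A' ⟶ B')
    (θb : B' ⟶ B₀) (Hib : B₀ ⟶ B) (Hpm : A₀ ⟶ B₀) (n : Hmt' ≫ θb = θa ≫ Hpm)
    (e2 : Hia ≫ Hm = Hpm ≫ Hib) : (θa ≫ Hia) ≫ Hm = Hmt' ≫ (θb ≫ Hib) := by
  rw [Category.assoc, e2, ← Category.assoc, ← n, Category.assoc]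

theorem chInv {A A' B B' Y : 𝒟} (εa : A' ⟶ A) (εb : B' ⟶ B) (ia : A ⟶ A') (ib : B ⟶ B')
    (m : A ⟶ B) (m' : A' ⟶ B') (la : A' ⟶ Y) (lb : B' ⟶ Y)
    (h1a : ia ≫ εa = 𝟙 _) (h2b : εb ≫ ib = 𝟙 _)
    (key : εa ≫ m = m' ≫ εb) (n : m' ≫ lb = la) : m ≫ ib ≫ lb = ia ≫ la := by
  have e : m ≫ ib = ia ≫ m' := by
    calc m ≫ ib = (ia ≫ εa) ≫ m ≫ ib := by rw [h1a, Category.id_comp]
      _ = ia ≫ (εa ≫ m) ≫ ib := by simp only [Category.assoc]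
      _ = ia ≫ (m' ≫ εb) ≫ ib := by rw [key]
      _ = ia ≫ m' ≫ (εb ≫ ib) := by simp only [Category.assoc]
      _ = ia ≫ m' := by rw [h2b, Category.comp_id]
  rw [← Category.assoc, e, Category.assoc, n]

end Chains

section Basic
variable {C : Type u} [Category.{v} C] {ℬ : Type w₃} [Category.{w₄} ℬ] (p : ℬ ⥤ C)

theorem dom_eq {R S : C} {a b : ℬ} (f : R ⟶ S) (φ : a ⟶ b) (h : p.IsHomLift f φ) : p.obj a = R :=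
  IsHomLift.domain_eq p f φ

theorem cod_eq {R S : C} {a b : ℬ} (f : R ⟶ S) (φ : a ⟶ b) (h : p.IsHomLift f φ) : p.obj b = S :=
  IsHomLift.codomain_eq p f φ

theorem fac_of {R S : C} {a b : ℬ} (f : R ⟶ S) (φ : a ⟶ b) (h : p.IsHomLift f φ) :
    p.map φ = eqToHom (dom_eq p f φ h) ≫ f ≫ eqToHom (cod_eq p f φ h).symm :=
  IsHomLift.fac' p f φ

theorem sc_exists_g {R S : C} {a b : ℬ} (f : R ⟶ S) (φ : a ⟶ b) (hsc : p.IsStronglyCartesian f φ)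
    {R' : C} {a' : ℬ} (g : R' ⟶ R) (φ' : a' ⟶ b) (h : p.IsHomLift (g ≫ f) φ') :
    ∃ χ : a' ⟶ a, p.IsHomLift g χ ∧ χ ≫ φ = φ' :=
  ⟨Functor.IsStronglyCartesian.map p f φ (g := g) (f' := g ≫ f) rfl φ',
    Functor.IsStronglyCartesian.map_isHomLift p f φ (g := g) (f' := g ≫ f) rfl φ',
    Functor.IsStronglyCartesian.fac p f φ (g := g) (f' := g ≫ f) rfl φ'⟩

theorem lift_comp2 {R S T : C} (f : R ⟶ S) (g : S ⟶ T) {a b c : ℬ} (φ : a ⟶ b) (ψ : b ⟶ c)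
    (h1 : p.IsHomLift f φ) (h2 : p.IsHomLift g ψ) : p.IsHomLift (f ≫ g) (φ ≫ ψ) := inferInstance

theorem base_unique {R S : C} (f f' : R ⟶ S) {a b : ℬ} (φ : a ⟶ b) (h : p.IsHomLift f φ)
    (h' : p.IsHomLift f' φ) : f = f' :=
  (IsHomLift.fac p f φ).trans (IsHomLift.fac p f' φ).symm

theorem isIso_of_lift_iso (hp : IsFibGrpd p) {R S : C} (f : R ⟶ S) [IsIso f] {a b : ℬ} (φ : a ⟶ b)
    (hφ : p.IsHomLift f φ) : IsIso φ := by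
  haveI := sc_of_isHomLift p hp f φ hφ
  exact Functor.IsStronglyCartesian.isIso_of_base_isIso p f φ

theorem isIso_of_lift_id (hp : IsFibGrpd p) {R : C} {a b : ℬ} (φ : a ⟶ b)
    (hφ : p.IsHomLift (𝟙 R) φ) : IsIso φ := isIso_of_lift_iso p hp (𝟙 R) φ hφ

theorem exists_inv_of_lift_id (hp : IsFibGrpd p) {R : C} {a b : ℬ} (φ : a ⟶ b)
    (hφ : p.IsHomLift (𝟙 R) φ) :
    ∃ φ' : b ⟶ a, φ' ≫ φ = 𝟙 _ ∧ φ ≫ φ' = 𝟙 _ ∧ p.IsHomLift (𝟙 R) φ' := by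
  haveI := isIso_of_lift_id p hp φ hφ
  exact ⟨inv φ, IsIso.inv_hom_id _, IsIso.hom_inv_id _, inferInstance⟩

end Basic

section Comp
variable {C : Type u} [Category.{v} C] {X : Type w₁} [Category.{w₂} X] {Y : Type w₃}
  [Category.{w₄} Y] (q : Y ⥤ X) (p : X ⥤ C)

theorem lift_of_comp {R S : C} (f : R ⟶ S) {a b : Y} (φ : a ⟶ b) (h : (q ⋙ p).IsHomLift f φ) :
    p.IsHomLift f (q.map φ) :=
  IsHomLift.of_fac' p f (q.map φ) (IsHomLift.domain_eq (q ⋙ p) f φ)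
    (IsHomLift.codomain_eq (q ⋙ p) f φ) (IsHomLift.fac' (q ⋙ p) f φ)

theorem comp_of_lift {R S : C} (f : R ⟶ S) {a b : Y} (φ : a ⟶ b) (h : p.IsHomLift f (q.map φ)) :
    (q ⋙ p).IsHomLift f φ :=
  IsHomLift.of_fac' (q ⋙ p) f φ (IsHomLift.domain_eq p f (q.map φ))
    (IsHomLift.codomain_eq p f (q.map φ)) (IsHomLift.fac' p f (q.map φ))

theorem lift_functor {y y' : Y} {ψ : y ⟶ y'} {x x' : X} {χ : x ⟶ x'} {R S : C} {f : R ⟶ S}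
    (h1 : q.IsHomLift χ ψ) (h2 : p.IsHomLift f χ) : (q ⋙ p).IsHomLift f ψ := by
  subst_hom_lift q χ ψ
  exact comp_of_lift q p f ψ h2

theorem isFibGrpd_comp (hq : IsFibGrpd q) (hp : IsFibGrpd p) : IsFibGrpd (q ⋙ p) where
  exists_lift := by
    intro y V f
    obtain ⟨x', φ, hφ⟩ := hp.exists_lift (x := q.obj y) f
    obtain ⟨y', ψ, hψ⟩ := hq.exists_lift φ
    exact ⟨y', ψ, lift_functor q p hψ hφ⟩
  isStronglyCartesian := by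
    intro y' y ψ
    refine Functor.IsStronglyCartesian.mk ?_
    intro a' g φ' hφ'
    have scp : p.IsStronglyCartesian (p.map (q.map ψ)) (q.map ψ) := hp.isStronglyCartesian (q.map ψ)
    have scq : q.IsStronglyCartesian (q.map ψ) ψ := hq.isStronglyCartesian ψ
    have l1 : p.IsHomLift (g ≫ p.map (q.map ψ)) (q.map φ') := lift_of_comp q p _ φ' hφ'
    obtain ⟨χ₀, hχ₀1, hχ₀2⟩ := sc_exists_g p (p.map (q.map ψ)) (q.map ψ) scp g (q.map φ') l1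
    have l2 : q.IsHomLift (χ₀ ≫ q.map ψ) φ' := by rw [hχ₀2]; exact IsHomLift.map q φ'
    obtain ⟨χ, hχ1, hχ2⟩ := sc_exists_g q (q.map ψ) ψ scq χ₀ φ' l2
    refine ⟨χ, ⟨lift_functor q p hχ1 hχ₀1, hχ2⟩, ?_⟩
    rintro χ' ⟨hχ'1, hχ'2⟩
    have l3 : p.IsHomLift g (q.map χ') := lift_of_comp q p g χ' hχ'1
    have e0 : q.map χ' = χ₀ := by
      refine sc_ext p (p.map (q.map ψ)) (q.map ψ) scp g _ _ l3 hχ₀1 ?_
      rw [← q.map_comp, hχ'2, hχ₀2]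
    have l4 : q.IsHomLift χ₀ χ' := by rw [← e0]; exact IsHomLift.map q χ'
    exact sc_ext q (q.map ψ) ψ scq χ₀ _ _ l4 hχ1 (hχ'2.trans hχ2.symm)

theorem functorPullback_mem (hp : IsFibGrpd p) (J : GrothendieckTopology C) (x : X)
    (R : Sieve (p.obj x)) (hR : R ∈ J (p.obj x)) :
    R.functorPullback p ∈ p.restrictedTopology J x := by
  apply Functor.mem_restrictedTopology_of_functorPushforward_mem
  refine J.superset_covering ?_ hR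
  intro V f hf
  obtain ⟨z, χ, hχ⟩ := hp.exists_lift f
  have hd : p.obj z = V := IsHomLift.domain_eq p f χ
  subst hd
  have e : f = p.map χ := IsHomLift.eq_of_isHomLift p f χ
  subst e
  exact Exists.intro z (Exists.intro χ (Exists.intro (𝟙 _)
    (And.intro hf (Category.id_comp _).symm)))

/-- the functor from the pulled back sieve to the sieve -/
def piFun {x : X} (R : Sieve (p.obj x)) :
    (R.functorPullback p).arrows.category ⥤ R.arrows.category :=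
  ObjectProperty.lift _ (ObjectProperty.ι _ ⋙ Over.post p) (fun c => c.property)

end Comp

section Gen
variable {C : Type u} [Category.{v} C] {𝒯 : BasedCategory.{v, max u v} C}

theorem map_comp_tau {V : C} (K : FibCat.overCat V ⥤ᵇ 𝒯) {g g' : Over V} (k : g ⟶ g') :
    K.map k ≫ K.map (tau g') = K.map (tau g) :=
  (K.toFunctor.map_comp k (tau g')).symm.trans (congrArg (fun x => K.toFunctor.map x) (comp_tau k))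

theorem nt_ext (h𝒯 : IsFibGrpd 𝒯.p) {U : C} {G₁ G₂ : FibCat.overCat U ⥤ᵇ 𝒯} (α β : G₁ ⟶ G₂)
    (h : α.toNatTrans.app (Over.mk (𝟙 U)) = β.toNatTrans.app (Over.mk (𝟙 U))) : α = β := by
  apply BasedNatTrans.homCategory.ext
  ext g
  have sc : 𝒯.p.IsStronglyCartesian g.hom (G₂.map (tau g)) :=
    sc_of_isHomLift 𝒯.p h𝒯 _ _ (tau_lift G₂ g)
  refine sc_ext 𝒯.p g.hom (G₂.map (tau g)) sc (𝟙 g.left) _ _ (α.isHomLift' g) (β.isHomLift' g) ?_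
  have n1 : G₁.map (tau g) ≫ α.toNatTrans.app (Over.mk (𝟙 U)) =
      α.toNatTrans.app g ≫ G₂.map (tau g) := α.toNatTrans.naturality (tau g)
  have n2 : G₁.map (tau g) ≫ β.toNatTrans.app (Over.mk (𝟙 U)) =
      β.toNatTrans.app g ≫ G₂.map (tau g) := β.toNatTrans.naturality (tau g)
  exact n1.symm.trans ((congrArg (fun t => G₁.map (tau g) ≫ t) h).trans n2)

/-- morphisms over the same base arrow which agree locally on `R` are equal -/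
def LocEq (𝒯 : BasedCategory.{v, max u v} C) {U : C} (R : Sieve U) : Prop :=
  ∀ {W' : C} (u : U ⟶ W') {t t' : 𝒯.obj} (b b' : t ⟶ t'), 𝒯.p.IsHomLift u b → 𝒯.p.IsHomLift u b' →
    (∀ ⦃V : C⦄ (f : V ⟶ U), R f → ∀ (s : 𝒯.obj) (ψ : s ⟶ t), 𝒯.p.IsHomLift f ψ →
      ψ ≫ b = ψ ≫ b') → b = b'

/-- gluing of morphisms, in relational form -/
def GlueHom (𝒯 : BasedCategory.{v, max u v} C) {U : C} (R : Sieve U) : Prop :=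
  ∀ (t t' : 𝒯.obj) (_ : 𝒯.p.obj t = U) (_ : 𝒯.p.obj t' = U)
    (Rel : ∀ {s : 𝒯.obj}, (s ⟶ t) → (s ⟶ t') → Prop)
    (_ : ∀ ⦃V : C⦄ (f : V ⟶ U), R f → ∀ (s : 𝒯.obj) (ψ : s ⟶ t), 𝒯.p.IsHomLift f ψ →
      ∃ ψ' : s ⟶ t', 𝒯.p.IsHomLift f ψ' ∧ Rel ψ ψ')
    (_ : ∀ (s : 𝒯.obj) (ψ : s ⟶ t) (ψ₁ ψ₂ : s ⟶ t'), Rel ψ ψ₁ → Rel ψ ψ₂ → ψ₁ = ψ₂)
    (_ : ∀ (s s' : 𝒯.obj) (χ : s ⟶ s') (ψ : s' ⟶ t) (ψ' : s' ⟶ t'), Rel ψ ψ' →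
      Rel (χ ≫ ψ) (χ ≫ ψ')),
    ∃ μ : t ⟶ t', 𝒯.p.IsHomLift (𝟙 U) μ ∧
      ∀ ⦃V : C⦄ (f : V ⟶ U), R f → ∀ (s : 𝒯.obj) (ψ : s ⟶ t), 𝒯.p.IsHomLift f ψ → Rel ψ (ψ ≫ μ)

/-- gluing of objects: every descent datum has a "colimit cocone" -/
def GlueObj (𝒯 : BasedCategory.{v, max u v} C) {U : C} (R : Sieve U) : Prop :=
  ∀ H : Stk.sieveCat R ⥤ᵇ 𝒯, ∃ (y : 𝒯.obj) (_ : 𝒯.p.obj y = U)
    (lam : ∀ a : R.arrows.category, H.obj a ⟶ y),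
    (∀ a : R.arrows.category, 𝒯.p.IsHomLift a.obj.hom (lam a)) ∧
      ∀ {a b : R.arrows.category} (m : a ⟶ b), H.map m ≫ lam b = lam a

theorem locEq_of_faithful (h𝒯 : IsFibGrpd 𝒯.p) {U : C} (R : Sieve U)
    (hfa : (Stk.resSieve R 𝒯).Faithful) : LocEq 𝒯 R :=
  fun u _ _ b b' hb hb' hloc => Groth.Agent.H32.StkGlue.eq_of_locally h𝒯 u R hfa b b' hb hb' hloc

theorem glueHom_of_full (h𝒯 : IsFibGrpd 𝒯.p) {U : C} (R : Sieve U)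
    (hfull : (Stk.resSieve R 𝒯).Full) : GlueHom 𝒯 R :=
  fun _ _ ht ht' Rel hex huniq hnat =>
    Groth.Agent.H32.StkGlue.glue_hom h𝒯 R hfull ht ht' @Rel hex huniq hnat

theorem faithful_of_locEq (h𝒯 : IsFibGrpd 𝒯.p) {U : C} (R : Sieve U) (hl : LocEq 𝒯 R) :
    (Stk.resSieve R 𝒯).Faithful := by
  refine ⟨fun {G₁ G₂} α β hαβ => ?_⟩
  apply nt_ext h𝒯
  refine hl (𝟙 U) _ _ (α.isHomLift' (Over.mk (𝟙 U))) (β.isHomLift' (Over.mk (𝟙 U))) ?_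
  intro V f hf s ψ hψ
  have hαβ' : α.toNatTrans.app (Over.mk f) = β.toNatTrans.app (Over.mk f) :=
    congrArg (fun ε => ε.toNatTrans.app (⟨Over.mk f, hf⟩ : R.arrows.category)) hαβ
  have sc : 𝒯.p.IsStronglyCartesian f (G₁.map (tau (Over.mk f))) :=
    sc_of_isHomLift 𝒯.p h𝒯 _ _ (tau_lift G₁ (Over.mk f))
  obtain ⟨κ, -, hκ2⟩ := sc_exists 𝒯.p f (G₁.map (tau (Over.mk f))) sc ψ hψ
  have n1 : G₁.map (tau (Over.mk f)) ≫ α.toNatTrans.app (Over.mk (𝟙 U)) =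
      α.toNatTrans.app (Over.mk f) ≫ G₂.map (tau (Over.mk f)) :=
    α.toNatTrans.naturality (tau (Over.mk f))
  have n2 : G₁.map (tau (Over.mk f)) ≫ β.toNatTrans.app (Over.mk (𝟙 U)) =
      β.toNatTrans.app (Over.mk f) ≫ G₂.map (tau (Over.mk f)) :=
    β.toNatTrans.naturality (tau (Over.mk f))
  exact chP κ _ ψ _ _ hκ2
    (n1.trans ((congrArg (fun x => x ≫ G₂.map (tau (Over.mk f))) hαβ').trans n2.symm))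

theorem indep₀ (h𝒯 : IsFibGrpd 𝒯.p) {U : C} (R : Sieve U) {G₁ G₂ : FibCat.overCat U ⥤ᵇ 𝒯}
    (γ : (Stk.resSieve R 𝒯).obj G₁ ⟶ (Stk.resSieve R 𝒯).obj G₂) {s : 𝒯.obj}
    (c₀ c : R.arrows.category) (κ₀ : s ⟶ G₁.obj c₀.obj)
    (hκ₀ : 𝒯.p.IsHomLift (𝟙 c₀.obj.left) κ₀) (κ : s ⟶ G₁.obj c.obj)
    (h : κ ≫ G₁.map (tau c.obj) = κ₀ ≫ G₁.map (tau c₀.obj)) :
    κ ≫ γ.toNatTrans.app c ≫ G₂.map (tau c.obj) =
      κ₀ ≫ γ.toNatTrans.app c₀ ≫ G₂.map (tau c₀.obj) := by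
  have hs : 𝒯.p.obj s = c₀.obj.left := dom_eq 𝒯.p (𝟙 c₀.obj.left) κ₀ hκ₀
  have hc : 𝒯.p.obj (G₁.obj c.obj) = c.obj.left := G₁.w_obj c.obj
  obtain ⟨g, hg⟩ : ∃ g : c₀.obj.left ⟶ c.obj.left, 𝒯.p.IsHomLift g κ :=
    ⟨eqToHom hs.symm ≫ 𝒯.p.map κ ≫ eqToHom hc, IsHomLift.of_fac 𝒯.p _ κ hs hc rfl⟩
  have l1 : 𝒯.p.IsHomLift (g ≫ c.obj.hom) (κ ≫ G₁.map (tau c.obj)) :=
    lift_comp2 𝒯.p g c.obj.hom κ _ hg (tau_lift G₁ c.obj)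
  have l2 : 𝒯.p.IsHomLift c₀.obj.hom (κ₀ ≫ G₁.map (tau c₀.obj)) :=
    lift_comp_id_left 𝒯.p c₀.obj.hom κ₀ _ hκ₀ (tau_lift G₁ c₀.obj)
  rw [h] at l1
  have hw : g ≫ c.obj.hom = c₀.obj.hom := base_unique 𝒯.p _ _ _ l1 l2
  let k : c₀ ⟶ c := ObjectProperty.homMk (Over.homMk g hw)
  have sc : 𝒯.p.IsStronglyCartesian c.obj.hom (G₁.map (tau c.obj)) :=
    sc_of_isHomLift 𝒯.p h𝒯 _ _ (tau_lift G₁ c.obj)
  have c1 : G₁.map k.hom ≫ G₁.map (tau c.obj) = G₁.map (tau c₀.obj) := map_comp_tau G₁ k.hom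
  have c2 : G₂.map k.hom ≫ G₂.map (tau c.obj) = G₂.map (tau c₀.obj) := map_comp_tau G₂ k.hom
  have e : κ = κ₀ ≫ G₁.map k.hom := by
    refine sc_ext 𝒯.p c.obj.hom (G₁.map (tau c.obj)) sc g _ _ hg
      (lift_comp_id_left 𝒯.p g κ₀ _ hκ₀ (map_lift G₁ k.hom)) ?_
    exact h.trans (chC κ₀ (G₁.map k.hom) (G₁.map (tau c.obj)) (G₁.map (tau c₀.obj)) c1).symm
  have n : G₁.map k.hom ≫ γ.toNatTrans.app c = γ.toNatTrans.app c₀ ≫ G₂.map k.hom :=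
    γ.toNatTrans.naturality k
  exact (congrArg (fun z => z ≫ γ.toNatTrans.app c ≫ G₂.map (tau c.obj)) e).trans
    (chD κ₀ (G₁.map k.hom) (γ.toNatTrans.app c) (G₂.map (tau c.obj)) (γ.toNatTrans.app c₀)
      (G₂.map k.hom) (G₂.map (tau c₀.obj)) n c2)

theorem indep (h𝒯 : IsFibGrpd 𝒯.p) {U : C} (R : Sieve U) {G₁ G₂ : FibCat.overCat U ⥤ᵇ 𝒯}
    (γ : (Stk.resSieve R 𝒯).obj G₁ ⟶ (Stk.resSieve R 𝒯).obj G₂) {s : 𝒯.obj}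
    (c c' : R.arrows.category) (κ : s ⟶ G₁.obj c.obj) (κ' : s ⟶ G₁.obj c'.obj)
    (h : κ ≫ G₁.map (tau c.obj) = κ' ≫ G₁.map (tau c'.obj)) :
    κ ≫ γ.toNatTrans.app c ≫ G₂.map (tau c.obj) =
      κ' ≫ γ.toNatTrans.app c' ≫ G₂.map (tau c'.obj) := by
  have hc : 𝒯.p.obj (G₁.obj c.obj) = c.obj.left := G₁.w_obj c.obj
  obtain ⟨g, hg⟩ : ∃ g : 𝒯.p.obj s ⟶ c.obj.left, 𝒯.p.IsHomLift g κ :=
    ⟨𝒯.p.map κ ≫ eqToHom hc, IsHomLift.of_fac 𝒯.p _ κ rfl hc (by simp)⟩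
  let c₀ : R.arrows.category := ⟨Over.mk (g ≫ c.obj.hom), R.downward_closed c.property g⟩
  have l : 𝒯.p.IsHomLift (g ≫ c.obj.hom) (κ ≫ G₁.map (tau c.obj)) :=
    lift_comp2 𝒯.p g c.obj.hom κ _ hg (tau_lift G₁ c.obj)
  obtain ⟨κ₀, hκ1, hκ2⟩ := sc_exists 𝒯.p (g ≫ c.obj.hom) (G₁.map (tau c₀.obj))
    (sc_of_isHomLift 𝒯.p h𝒯 _ _ (tau_lift G₁ c₀.obj)) _ l
  exact (indep₀ h𝒯 R γ c₀ c κ₀ hκ1 κ hκ2.symm).trans
    (indep₀ h𝒯 R γ c₀ c' κ₀ hκ1 κ' (h.symm.trans hκ2.symm)).symm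

theorem full_of_glueHom (h𝒯 : IsFibGrpd 𝒯.p) {U : C} (R : Sieve U) (hg : GlueHom 𝒯 R) :
    (Stk.resSieve R 𝒯).Full := by
  refine ⟨fun {G₁ G₂} γ => ?_⟩
  have ht : 𝒯.p.obj (G₁.obj (Over.mk (𝟙 U))) = U := G₁.w_obj (Over.mk (𝟙 U))
  have ht' : 𝒯.p.obj (G₂.obj (Over.mk (𝟙 U))) = U := G₂.w_obj (Over.mk (𝟙 U))
  have hex' : ∀ ⦃V : C⦄ (f : V ⟶ U), R f → ∀ (s : 𝒯.obj) (ψ : s ⟶ G₁.obj (Over.mk (𝟙 U))),
      𝒯.p.IsHomLift f ψ → ∃ ψ' : s ⟶ G₂.obj (Over.mk (𝟙 U)), 𝒯.p.IsHomLift f ψ' ∧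
        ∃ (c : R.arrows.category) (κ : s ⟶ G₁.obj c.obj), κ ≫ G₁.map (tau c.obj) = ψ ∧
          ψ' = κ ≫ γ.toNatTrans.app c ≫ G₂.map (tau c.obj) := by
    intro V f hf s ψ hψ
    let c₀ : R.arrows.category := ⟨Over.mk f, hf⟩
    obtain ⟨κ₀, hκ1, hκ2⟩ := sc_exists 𝒯.p f (G₁.map (tau (Over.mk f)))
      (sc_of_isHomLift 𝒯.p h𝒯 _ _ (tau_lift G₁ (Over.mk f))) ψ hψ
    refine ⟨κ₀ ≫ γ.toNatTrans.app c₀ ≫ G₂.map (tau (Over.mk f)), ?_, c₀, κ₀, hκ2, rfl⟩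
    exact lift_comp_id_left 𝒯.p f κ₀ _ hκ1
      (lift_comp_id_left 𝒯.p f _ _ (γ.isHomLift' c₀) (tau_lift G₂ (Over.mk f)))
  have huniq' : ∀ (s : 𝒯.obj) (ψ : s ⟶ G₁.obj (Over.mk (𝟙 U)))
      (ψ₁ ψ₂ : s ⟶ G₂.obj (Over.mk (𝟙 U))),
      (∃ (c : R.arrows.category) (κ : s ⟶ G₁.obj c.obj), κ ≫ G₁.map (tau c.obj) = ψ ∧
          ψ₁ = κ ≫ γ.toNatTrans.app c ≫ G₂.map (tau c.obj)) →
      (∃ (c : R.arrows.category) (κ : s ⟶ G₁.obj c.obj), κ ≫ G₁.map (tau c.obj) = ψ ∧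
          ψ₂ = κ ≫ γ.toNatTrans.app c ≫ G₂.map (tau c.obj)) → ψ₁ = ψ₂ := by
    rintro s ψ ψ₁ ψ₂ ⟨c, κ, h1, h2⟩ ⟨c', κ', h1', h2'⟩
    exact h2.trans ((indep h𝒯 R γ c c' κ κ' (h1.trans h1'.symm)).trans h2'.symm)
  have hnat' : ∀ (s s' : 𝒯.obj) (χ : s ⟶ s') (ψ : s' ⟶ G₁.obj (Over.mk (𝟙 U)))
      (ψ' : s' ⟶ G₂.obj (Over.mk (𝟙 U))),
      (∃ (c : R.arrows.category) (κ : s' ⟶ G₁.obj c.obj), κ ≫ G₁.map (tau c.obj) = ψ ∧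
          ψ' = κ ≫ γ.toNatTrans.app c ≫ G₂.map (tau c.obj)) →
      (∃ (c : R.arrows.category) (κ : s ⟶ G₁.obj c.obj), κ ≫ G₁.map (tau c.obj) = χ ≫ ψ ∧
          χ ≫ ψ' = κ ≫ γ.toNatTrans.app c ≫ G₂.map (tau c.obj)) := by
    rintro s s' χ ψ ψ' ⟨c, κ, h1, h2⟩
    exact ⟨c, χ ≫ κ, by rw [Category.assoc, h1], by rw [h2, Category.assoc]⟩
  obtain ⟨μ, hμ1, hμ2⟩ := hg _ _ ht ht'
    (fun {s} ψ ψ' => ∃ (c : R.arrows.category) (κ : s ⟶ G₁.obj c.obj),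
      κ ≫ G₁.map (tau c.obj) = ψ ∧ ψ' = κ ≫ γ.toNatTrans.app c ≫ G₂.map (tau c.obj))
    hex' huniq' hnat'
  obtain ⟨α, hα⟩ := exists_ext h𝒯 G₁ G₂ μ hμ1
  refine ⟨α, ?_⟩
  apply BasedNatTrans.homCategory.ext
  ext c
  have sc : 𝒯.p.IsStronglyCartesian c.obj.hom (G₂.map (tau c.obj)) :=
    sc_of_isHomLift 𝒯.p h𝒯 _ _ (tau_lift G₂ c.obj)
  refine sc_ext 𝒯.p c.obj.hom (G₂.map (tau c.obj)) sc (𝟙 c.obj.left) _ _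
    (α.isHomLift' c.obj) (γ.isHomLift' c) ?_
  have n : G₁.map (tau c.obj) ≫ α.toNatTrans.app (Over.mk (𝟙 U)) =
      α.toNatTrans.app c.obj ≫ G₂.map (tau c.obj) := α.toNatTrans.naturality (tau c.obj)
  obtain ⟨c', κ', h1, h2⟩ := hμ2 c.obj.hom c.property _ (G₁.map (tau c.obj)) (tau_lift G₁ c.obj)
  have i := indep h𝒯 R γ c' c κ' (𝟙 _) (h1.trans (Category.id_comp _).symm)
  exact n.symm.trans ((congrArg (fun x => G₁.map (tau c.obj) ≫ x) hα).trans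
    (h2.trans (i.trans (Category.id_comp _))))

theorem glueObj_of_essSurj {U : C} (R : Sieve U) (hE : (Stk.resSieve R 𝒯).EssSurj) :
    GlueObj 𝒯 R := by
  intro H
  obtain ⟨G, ⟨θ⟩⟩ := hE.mem_essImage H
  refine ⟨G.obj (Over.mk (𝟙 U)), G.w_obj (Over.mk (𝟙 U)),
    fun a => θ.inv.toNatTrans.app a ≫ G.map (tau a.obj), ?_, ?_⟩
  · intro a
    exact lift_comp_id_left 𝒯.p a.obj.hom _ _ (θ.inv.isHomLift' a) (tau_lift G a.obj)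
  · intro a b m
    have n : H.map m ≫ θ.inv.toNatTrans.app b = θ.inv.toNatTrans.app a ≫ G.map m.hom :=
      θ.inv.toNatTrans.naturality m
    exact chB _ _ _ _ _ _ n (map_comp_tau G m.hom)

theorem essSurj_of_glueObj (h𝒯 : IsFibGrpd 𝒯.p) {U : C} (R : Sieve U) (h : GlueObj 𝒯 R) :
    (Stk.resSieve R 𝒯).EssSurj := by
  refine ⟨fun H => ?_⟩
  obtain ⟨y, hy, lam, hlam, hnat⟩ := h H
  haveI : 𝒯.p.IsFibered := Groth.Agent.H32.Split.isFibered_of_isFibGrpd 𝒯 h𝒯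
  obtain ⟨G, -, t, -, ht⟩ := Groth.Agent.H32.Yoneda2.exists_based_functor
    (Groth.Agent.H32.Split.hT U) y hy
  have ht' : 𝒯.p.IsHomLift (𝟙 U) t := ht
  have hE : ∀ a : R.arrows.category, ∃ θ : G.obj a.obj ⟶ H.obj a,
      𝒯.p.IsHomLift (𝟙 a.obj.left) θ ∧ θ ≫ lam a = G.map (tau a.obj) ≫ t := fun a =>
    sc_exists 𝒯.p a.obj.hom (lam a) (sc_of_isHomLift 𝒯.p h𝒯 _ _ (hlam a))
      (G.map (tau a.obj) ≫ t)
      (lift_comp_id_right 𝒯.p a.obj.hom _ _ (tau_lift G a.obj) ht')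
  choose θ hθ1 hθ2 using hE
  have nat : ∀ {a b : R.arrows.category} (m : a ⟶ b),
      G.map m.hom ≫ θ b = θ a ≫ H.map m := by
    intro a b m
    refine sc_ext 𝒯.p b.obj.hom (lam b) (sc_of_isHomLift 𝒯.p h𝒯 _ _ (hlam b)) m.hom.left _ _
      (lift_comp_id_right 𝒯.p m.hom.left _ _ (map_lift G m.hom) (hθ1 b))
      (lift_comp_id_left 𝒯.p m.hom.left _ _ (hθ1 a) (lift_map H m)) ?_
    exact chA _ _ _ _ _ _ _ _ _ (hθ2 b) (hθ2 a) (map_comp_tau G m.hom) (hnat m)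
  let α : (Stk.resSieve R 𝒯).obj G ⟶ H :=
    { toNatTrans := { app := θ, naturality := fun a b m => nat m }
      isHomLift' := fun a => hθ1 a }
  haveI : IsIso α := Groth.Agent.H32.RepStack.isIso_natTrans h𝒯 α
  exact ⟨G, ⟨asIso α⟩⟩

end Gen

section Strict
variable {B : Type u} [Category.{v} B] {𝒲 : BasedCategory.{v, max u v} B}

theorem strictify (h𝒲 : IsFibGrpd 𝒲.p) {𝒟 : Type w₁} [Category.{w₂} 𝒟] (Φ : 𝒟 ⥤ B)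
    (H₀ : 𝒟 ⥤ 𝒲.obj) (σ : ∀ d, Φ.obj d ⟶ 𝒲.p.obj (H₀.obj d))
    (hσ : ∀ {d d' : 𝒟} (k : d ⟶ d'), Φ.map k ≫ σ d' = σ d ≫ 𝒲.p.map (H₀.map k)) :
    ∃ (H' : 𝒟 ⥤ 𝒲.obj) (_ : H' ⋙ 𝒲.p = Φ) (θ : ∀ d, H'.obj d ⟶ H₀.obj d),
      (∀ d, 𝒲.p.IsHomLift (σ d) (θ d)) ∧
        ∀ {d d' : 𝒟} (k : d ⟶ d'), H'.map k ≫ θ d' = θ d ≫ H₀.map k := by
  have hE := fun d => h𝒲.exists_lift (σ d)
  choose ob θ hθ using hE
  have sc : ∀ d, 𝒲.p.IsStronglyCartesian (σ d) (θ d) := fun d =>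
    sc_of_isHomLift 𝒲.p h𝒲 _ _ (hθ d)
  have hM : ∀ (d d' : 𝒟) (k : d ⟶ d'), ∃ m : ob d ⟶ ob d',
      𝒲.p.IsHomLift (Φ.map k) m ∧ m ≫ θ d' = θ d ≫ H₀.map k := by
    intro d d' k
    have l : 𝒲.p.IsHomLift (Φ.map k ≫ σ d') (θ d ≫ H₀.map k) := by
      rw [hσ k]
      exact lift_comp2 𝒲.p (σ d) (𝒲.p.map (H₀.map k)) (θ d) (H₀.map k) (hθ d)
        (IsHomLift.map 𝒲.p (H₀.map k))
    exact sc_exists_g 𝒲.p (σ d') (θ d') (sc d') (Φ.map k) _ l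
  choose M hM1 hM2 using hM
  have hid : ∀ d, M d d (𝟙 d) = 𝟙 (ob d) := by
    intro d
    have l1 : 𝒲.p.IsHomLift (Φ.map (𝟙 d)) (𝟙 (ob d)) := by
      rw [Φ.map_id]
      exact IsHomLift.id (dom_eq 𝒲.p (σ d) (θ d) (hθ d))
    refine sc_ext 𝒲.p (σ d) (θ d) (sc d) (Φ.map (𝟙 d)) _ _ (hM1 d d (𝟙 d)) l1 ?_
    rw [hM2, H₀.map_id, Category.comp_id, Category.id_comp]
  have hcomp : ∀ {d d' d'' : 𝒟} (k : d ⟶ d') (k' : d' ⟶ d''),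
      M d d'' (k ≫ k') = M d d' k ≫ M d' d'' k' := by
    intro d d' d'' k k'
    have l1 : 𝒲.p.IsHomLift (Φ.map (k ≫ k')) (M d d' k ≫ M d' d'' k') := by
      rw [Φ.map_comp]
      exact lift_comp2 𝒲.p _ _ _ _ (hM1 d d' k) (hM1 d' d'' k')
    refine sc_ext 𝒲.p (σ d'') (θ d'') (sc d'') (Φ.map (k ≫ k')) _ _ (hM1 d d'' (k ≫ k')) l1 ?_
    rw [hM2, Category.assoc, hM2, ← Category.assoc, hM2, Category.assoc, H₀.map_comp]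
  let H' : 𝒟 ⥤ 𝒲.obj :=
    { obj := ob
      map := fun {d d'} k => M d d' k
      map_id := hid
      map_comp := fun k k' => hcomp k k' }
  refine ⟨H', ?_, θ, hθ, fun {d d'} k => hM2 d d' k⟩
  refine CategoryTheory.Functor.ext (fun d => dom_eq 𝒲.p (σ d) (θ d) (hθ d)) ?_
  intro d d' k
  exact fac_of 𝒲.p (Φ.map k) (M d d' k) (hM1 d d' k)

end Strict

end Groth.Agent.H88.StkObj
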