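import Mathlib
import Groth.Prelude.Def_AlgSt
import Groth.Agent.S12815
import Groth.Agent.H32.StkGlue
import Groth.Agent.H32.RepStack
import Groth.Agent.H88.StkObj

/-!
# Universe-general object-level forms of the stack conditions (helper88)

Same content as `H88/StkObj.lean` (and the parts of `H32/StkLoc`, `H32/StkGlue`, `S12815` it uses), but for
`𝒯 : BasedCategory.{v₂, u₂} C` in arbitrary universes.
-/

set_option autoImplicit false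
open CategoryTheory

universe w₁ w₂ w₃ w₄ v₂ u₂ v u

namespace Groth.Agent.H88.StkU

open FibCat Groth.Agent.S12815 Groth.Agent.H88.StkObj Groth.Agent.H32.FibProd Groth.Agent.H32.Yoneda2
  Groth.Agent.H32.StkLoc Groth.Agent.H32.StkGlue

section Gen0
variable {C : Type u} [Category.{v} C] {𝒳 : BasedCategory.{v₂, u₂} C}

theorem isFibered_of_isFibGrpd (h : IsFibGrpd 𝒳.p) : 𝒳.p.IsFibered := by
  apply Functor.IsFibered.of_exists_isStronglyCartesian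
  intro a R f
  obtain ⟨b, φ, hφ⟩ := h.exists_lift f
  exact ⟨b, φ, sc_of_isHomLift 𝒳.p h f φ hφ⟩

theorem tau_lift {V : C} (K : FibCat.overCat V ⥤ᵇ 𝒳) (g : Over V) :
    𝒳.p.IsHomLift g.hom (K.map (tau g)) := by
  haveI : (FibCat.overCat V).p.IsHomLift g.hom (tau g) := IsHomLift.map (Over.forget V) (tau g)
  infer_instance


theorem map_lift {V : C} (K : FibCat.overCat V ⥤ᵇ 𝒳) {g g' : Over V} (k : g ⟶ g') :
    𝒳.p.IsHomLift k.left (K.map k) := by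
  haveI : (FibCat.overCat V).p.IsHomLift k.left k := IsHomLift.map (Over.forget V) k
  infer_instance

theorem exists_ext (h𝒳 : FibCat.IsFibGrpd 𝒳.p) {V : C} (K₁ K₂ : FibCat.overCat V ⥤ᵇ 𝒳)
    (ξ : K₁.obj (Over.mk (𝟙 V)) ⟶ K₂.obj (Over.mk (𝟙 V))) (hξ : 𝒳.p.IsHomLift (𝟙 V) ξ) :
    ∃ δ : K₁ ⟶ K₂, δ.toNatTrans.app (Over.mk (𝟙 V)) = ξ := by
  have hsc : ∀ g : Over V, 𝒳.p.IsStronglyCartesian g.hom (K₂.map (tau g)) := fun g =>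
    sc_of_isHomLift 𝒳.p h𝒳 _ _ (tau_lift K₂ g)
  have hd : ∀ g : Over V, ∃ d : K₁.obj g ⟶ K₂.obj g, 𝒳.p.IsHomLift (𝟙 g.left) d ∧
      d ≫ K₂.map (tau g) = K₁.map (tau g) ≫ ξ := fun g =>
    sc_exists 𝒳.p g.hom (K₂.map (tau g)) (hsc g) (K₁.map (tau g) ≫ ξ)
      (lift_comp_id_right 𝒳.p g.hom _ _ (tau_lift K₁ g) hξ)
  choose d hd1 hd2 using hd
  have nat : ∀ {g g' : Over V} (k : g ⟶ g'), K₁.map k ≫ d g' = d g ≫ K₂.map k :=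
    fun {g g'} k => by
    refine sc_ext 𝒳.p g'.hom (K₂.map (tau g')) (hsc g') k.left _ _
      (lift_comp_id_right 𝒳.p k.left _ _ (map_lift K₁ k) (hd1 g'))
      (lift_comp_id_left 𝒳.p k.left _ _ (hd1 g) (map_lift K₂ k)) ?_
    have c1 : K₁.map k ≫ K₁.map (tau g') = K₁.map (tau g) :=
      (K₁.toFunctor.map_comp k (tau g')).symm.trans
        (congrArg (fun x => K₁.toFunctor.map x) (comp_tau k))
    have c2 : K₂.map k ≫ K₂.map (tau g') = K₂.map (tau g) :=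
      (K₂.toFunctor.map_comp k (tau g')).symm.trans
        (congrArg (fun x => K₂.toFunctor.map x) (comp_tau k))
    exact chainNat (K₁.map k) (d g') (K₂.map (tau g')) (d g) (K₂.map k) (K₁.map (tau g')) ξ
      (K₁.map (tau g)) (K₂.map (tau g)) (hd2 g') (hd2 g) c1 c2
  refine ⟨{ toNatTrans := { app := d, naturality := fun g g' k => nat k },
            isHomLift' := fun g => hd1 g }, ?_⟩
  have h1 : tau (Over.mk (𝟙 V)) = 𝟙 (Over.mk (𝟙 V)) := Over.OverMorphism.ext rfl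
  have h2 := hd2 (Over.mk (𝟙 V))
  have m1 : K₁.map (tau (Over.mk (𝟙 V))) = 𝟙 _ :=
    (congrArg (fun x => K₁.toFunctor.map x) h1).trans (K₁.toFunctor.map_id _)
  have m2 : K₂.map (tau (Over.mk (𝟙 V))) = 𝟙 _ :=
    (congrArg (fun x => K₂.toFunctor.map x) h1).trans (K₂.toFunctor.map_id _)
  exact (Category.comp_id _).symm.trans
    ((congrArg (fun x => d (Over.mk (𝟙 V)) ≫ x) m2.symm).trans
      (h2.trans ((congrArg (fun x => x ≫ ξ) m1).trans (Category.id_comp _))))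


variable {U : C}

theorem lift_map {R : Sieve U} (G : Stk.sieveCat R ⥤ᵇ 𝒳) {a b : R.arrows.category} (m : a ⟶ b) :
    𝒳.p.IsHomLift m.hom.left (G.map m) := by
  haveI : (Stk.sieveCat R).p.IsHomLift m.hom.left m := IsHomLift.map (Stk.sieveCat R).p m
  infer_instance


end Gen0

section H32
variable {C : Type u} [Category.{v} C] {𝒯 : BasedCategory.{v₂, u₂} C}

/-- an automorphism over an identity in a prestack that is locally trivial is trivial. -/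
theorem aut_eq_id (h𝒯 : IsFibGrpd 𝒯.p) {W : C} (R : Sieve W)
    (hfa : (Stk.resSieve R 𝒯).Faithful) (t : 𝒯.obj) (ht : 𝒯.p.obj t = W) (α : t ⟶ t)
    (hα : 𝒯.p.IsHomLift (𝟙 W) α)
    (hloc : ∀ (a : (Stk.sieveCat R).obj) (s : 𝒯.obj) (ψ : s ⟶ t),
      𝒯.p.IsHomLift a.obj.hom ψ → ψ ≫ α = ψ) : α = 𝟙 t := by
  haveI : 𝒯.p.IsFibered := isFibered_of_isFibGrpd h𝒯
  obtain ⟨Y, -, τ₀, hτ₀iso, hτ₀⟩ := exists_based_functor (Groth.Agent.H32.Split.hT W) t ht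
  have hτ₀' : 𝒯.p.IsHomLift (𝟙 W) τ₀ := hτ₀
  have hinv : 𝒯.p.IsHomLift (𝟙 W) (inv τ₀) := inferInstance
  let α' : Y.obj (Groth.Agent.H32.Split.T W) ⟶ Y.obj (Groth.Agent.H32.Split.T W) :=
    τ₀ ≫ α ≫ inv τ₀
  have hα' : 𝒯.p.IsHomLift (𝟙 ((FibCat.overCat W).p.obj (Groth.Agent.H32.Split.T W))) α' := by
    have h1 : 𝒯.p.IsHomLift (𝟙 W) (α ≫ inv τ₀) := isHomLift_comp_id_left 𝒯.p (𝟙 W) _ _ hα hinv
    exact isHomLift_comp_id_left 𝒯.p (𝟙 W) _ _ hτ₀' h1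
  have hsc : ∀ X, 𝒯.p.IsStronglyCartesian
      ((FibCat.overCat W).p.map ((Groth.Agent.H32.Split.hT W).from X))
      (Y.map ((Groth.Agent.H32.Split.hT W).from X)) := fun X =>
    sc_of_isFibGrpd 𝒯.p h𝒯 _ _
  obtain ⟨A, hA⟩ := exists_natTrans (Groth.Agent.H32.Split.hT W) hsc α' (ht := hα')
  have hA1 : A = 𝟙 Y := by
    apply (Stk.resSieve R 𝒯).map_injective
    apply BasedNatTrans.homCategory.ext
    refine NatTrans.ext (funext fun a => ?_)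
    change A.toNatTrans.app a.obj = 𝟙 (Y.obj a.obj)
    let τ : a.obj ⟶ Groth.Agent.H32.Split.T W := Over.homMk a.obj.hom (by simp)
    have hτl : (FibCat.overCat W).p.IsHomLift a.obj.hom τ :=
      IsHomLift.map (FibCat.overCat W).p τ
    have hYτ : 𝒯.p.IsHomLift a.obj.hom (Y.map τ) :=
      (BasedFunctor.isHomLift_iff Y a.obj.hom τ).mpr hτl
    have hψ : 𝒯.p.IsHomLift a.obj.hom (Y.map τ ≫ τ₀) :=
      isHomLift_comp_id_right 𝒯.p a.obj.hom _ _ hYτ hτ₀'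
    have n := A.toNatTrans.naturality τ
    rw [hA] at n
    have hβ : 𝒯.p.IsHomLift (𝟙 a.obj.left) (A.toNatTrans.app a.obj) := A.isHomLift' a.obj
    have h0 : inv τ₀ ≫ τ₀ = 𝟙 t := IsIso.inv_hom_id τ₀
    have key := aux1 (Y.map τ) τ₀ (inv τ₀) α (A.toNatTrans.app a.obj) h0 n
      (hloc a _ (Y.map τ ≫ τ₀) hψ)
    rw [Category.id_comp] at key
    exact eq_id_of_comp 𝒯.p h𝒯 a.obj.hom (Y.map τ ≫ τ₀) hψ _ hβ key
  have hα'1 : α' = 𝟙 _ := by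
    rw [← hA, hA1]
    rfl
  have : τ₀ ≫ α = τ₀ := by
    have h2 : (τ₀ ≫ α ≫ inv τ₀) ≫ τ₀ = 𝟙 _ ≫ τ₀ := by rw [← hα'1]
    simpa using h2
  exact (cancel_epi τ₀).mp (this.trans (Category.comp_id τ₀).symm)



/-- two morphisms over the same base morphism which agree locally on the source are equal. -/
theorem eq_of_locally (h𝒯 : IsFibGrpd 𝒯.p) {W W' : C} (u : W ⟶ W') (R : Sieve W)
    (hfa : (Stk.resSieve R 𝒯).Faithful) {t t' : 𝒯.obj} (b b' : t ⟶ t')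
    (hb : 𝒯.p.IsHomLift u b) (hb' : 𝒯.p.IsHomLift u b')
    (hloc : ∀ ⦃V : C⦄ (f : V ⟶ W), R f → ∀ (s : 𝒯.obj) (ψ : s ⟶ t), 𝒯.p.IsHomLift f ψ →
      ψ ≫ b = ψ ≫ b') : b = b' := by
  obtain ⟨α, hα, hαb⟩ := exists_aut 𝒯.p h𝒯 u b b' hb hb'
  have ht : 𝒯.p.obj t = W := IsHomLift.domain_eq 𝒯.p u b
  have hα1 : α = 𝟙 t := by
    refine aut_eq_id h𝒯 R hfa t ht α hα ?_
    intro a s ψ hψ
    have sc := sc_of_isFibGrpd 𝒯.p h𝒯 u b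
    have l1 : 𝒯.p.IsHomLift a.obj.hom (ψ ≫ α) :=
      isHomLift_comp_id_right 𝒯.p a.obj.hom ψ α hψ hα
    refine Functor.IsStronglyCartesian.ext 𝒯.p u b a.obj.hom ?_
    rw [Category.assoc, hαb]
    exact (hloc a.obj.hom a.property s ψ hψ).symm
  rw [← hαb, hα1, Category.id_comp]

/-- gluing of morphisms in a prestack, in relational form. -/
theorem glue_hom (h𝒯 : IsFibGrpd 𝒯.p) {W : C} (R : Sieve W)
    (hfull : (Stk.resSieve R 𝒯).Full) {t t' : 𝒯.obj} (ht : 𝒯.p.obj t = W)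
    (ht' : 𝒯.p.obj t' = W)
    (Rel : ∀ {s : 𝒯.obj}, (s ⟶ t) → (s ⟶ t') → Prop)
    (hex : ∀ ⦃V : C⦄ (f : V ⟶ W), R f → ∀ (s : 𝒯.obj) (ψ : s ⟶ t), 𝒯.p.IsHomLift f ψ →
      ∃ ψ' : s ⟶ t', 𝒯.p.IsHomLift f ψ' ∧ Rel ψ ψ')
    (huniq : ∀ (s : 𝒯.obj) (ψ : s ⟶ t) (ψ₁ ψ₂ : s ⟶ t'), Rel ψ ψ₁ → Rel ψ ψ₂ → ψ₁ = ψ₂)
    (hnat : ∀ (s s' : 𝒯.obj) (χ : s ⟶ s') (ψ : s' ⟶ t) (ψ' : s' ⟶ t'), Rel ψ ψ' →
      Rel (χ ≫ ψ) (χ ≫ ψ')) :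
    ∃ μ : t ⟶ t', 𝒯.p.IsHomLift (𝟙 W) μ ∧
      ∀ ⦃V : C⦄ (f : V ⟶ W), R f → ∀ (s : 𝒯.obj) (ψ : s ⟶ t), 𝒯.p.IsHomLift f ψ →
        Rel ψ (ψ ≫ μ) := by
  haveI : 𝒯.p.IsFibered := isFibered_of_isFibGrpd h𝒯
  obtain ⟨Y, -, τ, hτiso, hτ⟩ := exists_based_functor (Groth.Agent.H32.Split.hT W) t ht
  obtain ⟨Y', -, τ', hτ'iso, hτ'⟩ := exists_based_functor (Groth.Agent.H32.Split.hT W) t' ht'
  have hτl : 𝒯.p.IsHomLift (𝟙 W) τ := hτ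
  have hτ'l : 𝒯.p.IsHomLift (𝟙 W) τ' := hτ'
  have hτinv : 𝒯.p.IsHomLift (𝟙 W) (inv τ) := inferInstance
  let ι : ∀ a : (Stk.sieveCat R).obj, a.obj ⟶ Groth.Agent.H32.Split.T W := fun a =>
    Over.homMk a.obj.hom (by simp)
  have hιk : ∀ {a b : (Stk.sieveCat R).obj} (k : a ⟶ b), k.hom ≫ ι b = ι a := by
    intro a b k
    apply Over.OverMorphism.ext
    exact Over.w k.hom
  have hιl : ∀ a : (Stk.sieveCat R).obj, (FibCat.overCat W).p.IsHomLift a.obj.hom (ι a) :=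
    fun a => IsHomLift.map (FibCat.overCat W).p (ι a)
  let ψa : ∀ a : (Stk.sieveCat R).obj, Y.obj a.obj ⟶ t := fun a => Y.map (ι a) ≫ τ
  have hψa : ∀ a : (Stk.sieveCat R).obj, 𝒯.p.IsHomLift a.obj.hom (ψa a) := fun a =>
    isHomLift_comp_id_right 𝒯.p a.obj.hom (Y.map (ι a)) τ
      ((BasedFunctor.isHomLift_iff Y a.obj.hom (ι a)).mpr (hιl a)) hτl
  let sa : ∀ a : (Stk.sieveCat R).obj, Y'.obj a.obj ⟶ t' := fun a => Y'.map (ι a) ≫ τ'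
  have hsa : ∀ a : (Stk.sieveCat R).obj, 𝒯.p.IsHomLift a.obj.hom (sa a) := fun a =>
    isHomLift_comp_id_right 𝒯.p a.obj.hom (Y'.map (ι a)) τ'
      ((BasedFunctor.isHomLift_iff Y' a.obj.hom (ι a)).mpr (hιl a)) hτ'l
  have ssc : ∀ a : (Stk.sieveCat R).obj, 𝒯.p.IsStronglyCartesian a.obj.hom (sa a) := fun a =>
    haveI := hsa a
    sc_of_isFibGrpd 𝒯.p h𝒯 a.obj.hom (sa a)
  have hex' : ∀ a : (Stk.sieveCat R).obj, ∃ ψ' : Y.obj a.obj ⟶ t',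
      𝒯.p.IsHomLift a.obj.hom ψ' ∧ Rel (ψa a) ψ' := fun a =>
    hex a.obj.hom a.property _ (ψa a) (hψa a)
  choose m hm hrel using hex'
  have hid : ∀ a : (Stk.sieveCat R).obj, a.obj.hom = 𝟙 a.obj.left ≫ a.obj.hom := fun a =>
    (Category.id_comp _).symm
  let n : ∀ a : (Stk.sieveCat R).obj, Y.obj a.obj ⟶ Y'.obj a.obj := fun a =>
    haveI := ssc a
    haveI := hm a
    Functor.IsStronglyCartesian.map 𝒯.p a.obj.hom (sa a) (hid a) (m a)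
  have n_fac : ∀ a, n a ≫ sa a = m a := fun a =>
    haveI := ssc a
    haveI := hm a
    Functor.IsStronglyCartesian.fac 𝒯.p a.obj.hom (sa a) (hid a) (m a)
  have n_lift : ∀ a : (Stk.sieveCat R).obj, 𝒯.p.IsHomLift (𝟙 a.obj.left) (n a) := fun a =>
    haveI := ssc a
    haveI := hm a
    Functor.IsStronglyCartesian.map_isHomLift 𝒯.p a.obj.hom (sa a) (hid a) (m a)
  have nat : ∀ {a b : (Stk.sieveCat R).obj} (k : a ⟶ b),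
      Y.toFunctor.map k.hom ≫ n b = n a ≫ Y'.toFunctor.map k.hom := by
    intro a b k
    have hkl : (FibCat.overCat W).p.IsHomLift k.hom.left k.hom :=
      IsHomLift.map (FibCat.overCat W).p k.hom
    have l1 : 𝒯.p.IsHomLift k.hom.left (Y.toFunctor.map k.hom ≫ n b) :=
      isHomLift_comp_id_right 𝒯.p k.hom.left _ _
        ((BasedFunctor.isHomLift_iff Y _ _).mpr hkl) (n_lift b)
    have l2 : 𝒯.p.IsHomLift k.hom.left (n a ≫ Y'.toFunctor.map k.hom) :=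
      isHomLift_comp_id_left 𝒯.p k.hom.left _ _ (n_lift a)
        ((BasedFunctor.isHomLift_iff Y' _ _).mpr hkl)
    haveI := ssc b
    refine Functor.IsStronglyCartesian.ext 𝒯.p b.obj.hom (sa b) k.hom.left ?_
    have h3 : Y'.toFunctor.map k.hom ≫ sa b = sa a :=
      aux_map3 Y'.toFunctor k.hom (ι b) (ι a) τ' (hιk k)
    have h3' : Y.toFunctor.map k.hom ≫ ψa b = ψa a :=
      aux_map3 Y.toFunctor k.hom (ι b) (ι a) τ (hιk k)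
    have h4 : Y.toFunctor.map k.hom ≫ m b = m a := by
      have r1 := hnat _ _ (Y.toFunctor.map k.hom) (ψa b) (m b) (hrel b)
      rw [h3'] at r1
      exact huniq _ _ _ _ r1 (hrel a)
    exact aux_nat2 _ _ _ _ _ _ _ _ (n_fac b) (n_fac a) h3 h4
  let ν' : (Stk.resSieve R 𝒯).obj Y ⟶ (Stk.resSieve R 𝒯).obj Y' :=
    { app := fun a => n a
      naturality := fun a b k => nat k
      isHomLift' := fun a => n_lift a }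
  obtain ⟨ν, hν⟩ := hfull.map_surjective ν'
  have hνa : ∀ a : (Stk.sieveCat R).obj, ν.toNatTrans.app a.obj = n a := by
    intro a
    have := congrArg (fun z => z.toNatTrans.app a) hν
    exact this
  refine ⟨inv τ ≫ ν.toNatTrans.app (Groth.Agent.H32.Split.T W) ≫ τ', ?_, ?_⟩
  · have h1 : 𝒯.p.IsHomLift (𝟙 W) (ν.toNatTrans.app (Groth.Agent.H32.Split.T W) ≫ τ') :=
      isHomLift_comp_id_left 𝒯.p (𝟙 W) _ _ (ν.isHomLift' (Groth.Agent.H32.Split.T W)) hτ'l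
    exact isHomLift_comp_id_left 𝒯.p (𝟙 W) _ _ hτinv h1
  · intro V f hf s ψ hψ
    let a : (Stk.sieveCat R).obj := ⟨Over.mk f, hf⟩
    haveI : 𝒯.p.IsStronglyCartesian f (ψa a) := by
      haveI : 𝒯.p.IsHomLift f (ψa a) := hψa a
      exact sc_of_isFibGrpd 𝒯.p h𝒯 f (ψa a)
    have hidf : f = 𝟙 V ≫ f := (Category.id_comp f).symm
    let k : s ⟶ Y.obj a.obj := Functor.IsStronglyCartesian.map 𝒯.p f (ψa a) hidf ψ
    have kfac : k ≫ ψa a = ψ := Functor.IsStronglyCartesian.fac 𝒯.p f (ψa a) hidf ψ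
    have r1 := hnat _ _ k (ψa a) (m a) (hrel a)
    rw [kfac] at r1
    have e : ψ ≫ inv τ ≫ ν.toNatTrans.app (Groth.Agent.H32.Split.T W) ≫ τ' = k ≫ m a := by
      rw [← kfac]
      exact aux_fin k (Y.map (ι a)) τ (inv τ) (ν.toNatTrans.app (Groth.Agent.H32.Split.T W)) τ'
        (n a) (ν.toNatTrans.app a.obj) (Y'.map (ι a)) (m a) (IsIso.hom_inv_id τ) (hνa a)
        (ν.toNatTrans.naturality (ι a)) (n_fac a)
    rw [e]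
    exact r1


end H32

section Gen
variable {C : Type u} [Category.{v} C] {𝒯 : BasedCategory.{v₂, u₂} C}

theorem map_comp_tau {V : C} (K : FibCat.overCat V ⥤ᵇ 𝒯) {g g' : Over V} (k : g ⟶ g') :
    K.map k ≫ K.map (tau g') = K.map (tau g) :=
  (K.toFunctor.map_comp k (tau g')).symm.trans (congrArg (fun x => K.toFunctor.map x) (comp_tau k))

theorem nt_ext (h𝒯 : IsFibGrpd 𝒯.p) {U : C} {G₁ G₂ : FibCat.overCat U ⥤ᵇ 𝒯} (α β : G₁ ⟶ G₂)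
    (h : α.toNatTrans.app (Over.mk (𝟙 U)) = β.toNatTrans.app (Over.mk (𝟙 U))) : α = β := by
  apply BasedNatTrans.homCategory.ext
  ext g
  have sc : 𝒯.p.IsStronglyCartesian g.hom (G₂.map (tau g)) :=
    sc_of_isHomLift 𝒯.p h𝒯 _ _ (tau_lift G₂ g)
  refine sc_ext 𝒯.p g.hom (G₂.map (tau g)) sc (𝟙 g.left) _ _ (α.isHomLift' g) (β.isHomLift' g) ?_
  have n1 : G₁.map (tau g) ≫ α.toNatTrans.app (Over.mk (𝟙 U)) =
      α.toNatTrans.app g ≫ G₂.map (tau g) := α.toNatTrans.naturality (tau g)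
  have n2 : G₁.map (tau g) ≫ β.toNatTrans.app (Over.mk (𝟙 U)) =
      β.toNatTrans.app g ≫ G₂.map (tau g) := β.toNatTrans.naturality (tau g)
  exact n1.symm.trans ((congrArg (fun t => G₁.map (tau g) ≫ t) h).trans n2)

/-- morphisms over the same base arrow which agree locally on `R` are equal -/
def LocEq (𝒯 : BasedCategory.{v₂, u₂} C) {U : C} (R : Sieve U) : Prop :=
  ∀ {W' : C} (u : U ⟶ W') {t t' : 𝒯.obj} (b b' : t ⟶ t'), 𝒯.p.IsHomLift u b → 𝒯.p.IsHomLift u b' →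
    (∀ ⦃V : C⦄ (f : V ⟶ U), R f → ∀ (s : 𝒯.obj) (ψ : s ⟶ t), 𝒯.p.IsHomLift f ψ →
      ψ ≫ b = ψ ≫ b') → b = b'

/-- gluing of morphisms, in relational form -/
def GlueHom (𝒯 : BasedCategory.{v₂, u₂} C) {U : C} (R : Sieve U) : Prop :=
  ∀ (t t' : 𝒯.obj) (_ : 𝒯.p.obj t = U) (_ : 𝒯.p.obj t' = U)
    (Rel : ∀ {s : 𝒯.obj}, (s ⟶ t) → (s ⟶ t') → Prop)
    (_ : ∀ ⦃V : C⦄ (f : V ⟶ U), R f → ∀ (s : 𝒯.obj) (ψ : s ⟶ t), 𝒯.p.IsHomLift f ψ →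
      ∃ ψ' : s ⟶ t', 𝒯.p.IsHomLift f ψ' ∧ Rel ψ ψ')
    (_ : ∀ (s : 𝒯.obj) (ψ : s ⟶ t) (ψ₁ ψ₂ : s ⟶ t'), Rel ψ ψ₁ → Rel ψ ψ₂ → ψ₁ = ψ₂)
    (_ : ∀ (s s' : 𝒯.obj) (χ : s ⟶ s') (ψ : s' ⟶ t) (ψ' : s' ⟶ t'), Rel ψ ψ' →
      Rel (χ ≫ ψ) (χ ≫ ψ')),
    ∃ μ : t ⟶ t', 𝒯.p.IsHomLift (𝟙 U) μ ∧
      ∀ ⦃V : C⦄ (f : V ⟶ U), R f → ∀ (s : 𝒯.obj) (ψ : s ⟶ t), 𝒯.p.IsHomLift f ψ → Rel ψ (ψ ≫ μ)

/-- gluing of objects: every descent datum has a "colimit cocone" -/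
def GlueObj (𝒯 : BasedCategory.{v₂, u₂} C) {U : C} (R : Sieve U) : Prop :=
  ∀ H : Stk.sieveCat R ⥤ᵇ 𝒯, ∃ (y : 𝒯.obj) (_ : 𝒯.p.obj y = U)
    (lam : ∀ a : R.arrows.category, H.obj a ⟶ y),
    (∀ a : R.arrows.category, 𝒯.p.IsHomLift a.obj.hom (lam a)) ∧
      ∀ {a b : R.arrows.category} (m : a ⟶ b), H.map m ≫ lam b = lam a

theorem locEq_of_faithful (h𝒯 : IsFibGrpd 𝒯.p) {U : C} (R : Sieve U)
    (hfa : (Stk.resSieve R 𝒯).Faithful) : LocEq 𝒯 R :=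
  fun u _ _ b b' hb hb' hloc => eq_of_locally h𝒯 u R hfa b b' hb hb' hloc

theorem glueHom_of_full (h𝒯 : IsFibGrpd 𝒯.p) {U : C} (R : Sieve U)
    (hfull : (Stk.resSieve R 𝒯).Full) : GlueHom 𝒯 R :=
  fun _ _ ht ht' Rel hex huniq hnat =>
    glue_hom h𝒯 R hfull ht ht' @Rel hex huniq hnat

theorem faithful_of_locEq (h𝒯 : IsFibGrpd 𝒯.p) {U : C} (R : Sieve U) (hl : LocEq 𝒯 R) :
    (Stk.resSieve R 𝒯).Faithful := by
  refine ⟨fun {G₁ G₂} α β hαβ => ?_⟩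
  apply nt_ext h𝒯
  refine hl (𝟙 U) _ _ (α.isHomLift' (Over.mk (𝟙 U))) (β.isHomLift' (Over.mk (𝟙 U))) ?_
  intro V f hf s ψ hψ
  have hαβ' : α.toNatTrans.app (Over.mk f) = β.toNatTrans.app (Over.mk f) :=
    congrArg (fun ε => ε.toNatTrans.app (⟨Over.mk f, hf⟩ : R.arrows.category)) hαβ
  have sc : 𝒯.p.IsStronglyCartesian f (G₁.map (tau (Over.mk f))) :=
    sc_of_isHomLift 𝒯.p h𝒯 _ _ (tau_lift G₁ (Over.mk f))
  obtain ⟨κ, -, hκ2⟩ := sc_exists 𝒯.p f (G₁.map (tau (Over.mk f))) sc ψ hψ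
  have n1 : G₁.map (tau (Over.mk f)) ≫ α.toNatTrans.app (Over.mk (𝟙 U)) =
      α.toNatTrans.app (Over.mk f) ≫ G₂.map (tau (Over.mk f)) :=
    α.toNatTrans.naturality (tau (Over.mk f))
  have n2 : G₁.map (tau (Over.mk f)) ≫ β.toNatTrans.app (Over.mk (𝟙 U)) =
      β.toNatTrans.app (Over.mk f) ≫ G₂.map (tau (Over.mk f)) :=
    β.toNatTrans.naturality (tau (Over.mk f))
  exact chP κ _ ψ _ _ hκ2
    (n1.trans ((congrArg (fun x => x ≫ G₂.map (tau (Over.mk f))) hαβ').trans n2.symm))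

theorem indep₀ (h𝒯 : IsFibGrpd 𝒯.p) {U : C} (R : Sieve U) {G₁ G₂ : FibCat.overCat U ⥤ᵇ 𝒯}
    (γ : (Stk.resSieve R 𝒯).obj G₁ ⟶ (Stk.resSieve R 𝒯).obj G₂) {s : 𝒯.obj}
    (c₀ c : R.arrows.category) (κ₀ : s ⟶ G₁.obj c₀.obj)
    (hκ₀ : 𝒯.p.IsHomLift (𝟙 c₀.obj.left) κ₀) (κ : s ⟶ G₁.obj c.obj)
    (h : κ ≫ G₁.map (tau c.obj) = κ₀ ≫ G₁.map (tau c₀.obj)) :
    κ ≫ γ.toNatTrans.app c ≫ G₂.map (tau c.obj) =
      κ₀ ≫ γ.toNatTrans.app c₀ ≫ G₂.map (tau c₀.obj) := by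
  have hs : 𝒯.p.obj s = c₀.obj.left := dom_eq 𝒯.p (𝟙 c₀.obj.left) κ₀ hκ₀
  have hc : 𝒯.p.obj (G₁.obj c.obj) = c.obj.left := G₁.w_obj c.obj
  obtain ⟨g, hg⟩ : ∃ g : c₀.obj.left ⟶ c.obj.left, 𝒯.p.IsHomLift g κ :=
    ⟨eqToHom hs.symm ≫ 𝒯.p.map κ ≫ eqToHom hc, IsHomLift.of_fac 𝒯.p _ κ hs hc rfl⟩
  have l1 : 𝒯.p.IsHomLift (g ≫ c.obj.hom) (κ ≫ G₁.map (tau c.obj)) :=
    lift_comp2 𝒯.p g c.obj.hom κ _ hg (tau_lift G₁ c.obj)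
  have l2 : 𝒯.p.IsHomLift c₀.obj.hom (κ₀ ≫ G₁.map (tau c₀.obj)) :=
    lift_comp_id_left 𝒯.p c₀.obj.hom κ₀ _ hκ₀ (tau_lift G₁ c₀.obj)
  rw [h] at l1
  have hw : g ≫ c.obj.hom = c₀.obj.hom := base_unique 𝒯.p _ _ _ l1 l2
  let k : c₀ ⟶ c := ObjectProperty.homMk (Over.homMk g hw)
  have sc : 𝒯.p.IsStronglyCartesian c.obj.hom (G₁.map (tau c.obj)) :=
    sc_of_isHomLift 𝒯.p h𝒯 _ _ (tau_lift G₁ c.obj)
  have c1 : G₁.map k.hom ≫ G₁.map (tau c.obj) = G₁.map (tau c₀.obj) := map_comp_tau G₁ k.hom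
  have c2 : G₂.map k.hom ≫ G₂.map (tau c.obj) = G₂.map (tau c₀.obj) := map_comp_tau G₂ k.hom
  have e : κ = κ₀ ≫ G₁.map k.hom := by
    refine sc_ext 𝒯.p c.obj.hom (G₁.map (tau c.obj)) sc g _ _ hg
      (lift_comp_id_left 𝒯.p g κ₀ _ hκ₀ (map_lift G₁ k.hom)) ?_
    exact h.trans (chC κ₀ (G₁.map k.hom) (G₁.map (tau c.obj)) (G₁.map (tau c₀.obj)) c1).symm
  have n : G₁.map k.hom ≫ γ.toNatTrans.app c = γ.toNatTrans.app c₀ ≫ G₂.map k.hom :=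
    γ.toNatTrans.naturality k
  exact (congrArg (fun z => z ≫ γ.toNatTrans.app c ≫ G₂.map (tau c.obj)) e).trans
    (chD κ₀ (G₁.map k.hom) (γ.toNatTrans.app c) (G₂.map (tau c.obj)) (γ.toNatTrans.app c₀)
      (G₂.map k.hom) (G₂.map (tau c₀.obj)) n c2)

theorem indep (h𝒯 : IsFibGrpd 𝒯.p) {U : C} (R : Sieve U) {G₁ G₂ : FibCat.overCat U ⥤ᵇ 𝒯}
    (γ : (Stk.resSieve R 𝒯).obj G₁ ⟶ (Stk.resSieve R 𝒯).obj G₂) {s : 𝒯.obj}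
    (c c' : R.arrows.category) (κ : s ⟶ G₁.obj c.obj) (κ' : s ⟶ G₁.obj c'.obj)
    (h : κ ≫ G₁.map (tau c.obj) = κ' ≫ G₁.map (tau c'.obj)) :
    κ ≫ γ.toNatTrans.app c ≫ G₂.map (tau c.obj) =
      κ' ≫ γ.toNatTrans.app c' ≫ G₂.map (tau c'.obj) := by
  have hc : 𝒯.p.obj (G₁.obj c.obj) = c.obj.left := G₁.w_obj c.obj
  obtain ⟨g, hg⟩ : ∃ g : 𝒯.p.obj s ⟶ c.obj.left, 𝒯.p.IsHomLift g κ :=
    ⟨𝒯.p.map κ ≫ eqToHom hc, IsHomLift.of_fac 𝒯.p _ κ rfl hc (by simp)⟩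
  let c₀ : R.arrows.category := ⟨Over.mk (g ≫ c.obj.hom), R.downward_closed c.property g⟩
  have l : 𝒯.p.IsHomLift (g ≫ c.obj.hom) (κ ≫ G₁.map (tau c.obj)) :=
    lift_comp2 𝒯.p g c.obj.hom κ _ hg (tau_lift G₁ c.obj)
  obtain ⟨κ₀, hκ1, hκ2⟩ := sc_exists 𝒯.p (g ≫ c.obj.hom) (G₁.map (tau c₀.obj))
    (sc_of_isHomLift 𝒯.p h𝒯 _ _ (tau_lift G₁ c₀.obj)) _ l
  exact (indep₀ h𝒯 R γ c₀ c κ₀ hκ1 κ hκ2.symm).trans
    (indep₀ h𝒯 R γ c₀ c' κ₀ hκ1 κ' (h.symm.trans hκ2.symm)).symm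

theorem full_of_glueHom (h𝒯 : IsFibGrpd 𝒯.p) {U : C} (R : Sieve U) (hg : GlueHom 𝒯 R) :
    (Stk.resSieve R 𝒯).Full := by
  refine ⟨fun {G₁ G₂} γ => ?_⟩
  have ht : 𝒯.p.obj (G₁.obj (Over.mk (𝟙 U))) = U := G₁.w_obj (Over.mk (𝟙 U))
  have ht' : 𝒯.p.obj (G₂.obj (Over.mk (𝟙 U))) = U := G₂.w_obj (Over.mk (𝟙 U))
  have hex' : ∀ ⦃V : C⦄ (f : V ⟶ U), R f → ∀ (s : 𝒯.obj) (ψ : s ⟶ G₁.obj (Over.mk (𝟙 U))),
      𝒯.p.IsHomLift f ψ → ∃ ψ' : s ⟶ G₂.obj (Over.mk (𝟙 U)), 𝒯.p.IsHomLift f ψ' ∧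
        ∃ (c : R.arrows.category) (κ : s ⟶ G₁.obj c.obj), κ ≫ G₁.map (tau c.obj) = ψ ∧
          ψ' = κ ≫ γ.toNatTrans.app c ≫ G₂.map (tau c.obj) := by
    intro V f hf s ψ hψ
    let c₀ : R.arrows.category := ⟨Over.mk f, hf⟩
    obtain ⟨κ₀, hκ1, hκ2⟩ := sc_exists 𝒯.p f (G₁.map (tau (Over.mk f)))
      (sc_of_isHomLift 𝒯.p h𝒯 _ _ (tau_lift G₁ (Over.mk f))) ψ hψ
    refine ⟨κ₀ ≫ γ.toNatTrans.app c₀ ≫ G₂.map (tau (Over.mk f)), ?_, c₀, κ₀, hκ2, rfl⟩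
    exact lift_comp_id_left 𝒯.p f κ₀ _ hκ1
      (lift_comp_id_left 𝒯.p f _ _ (γ.isHomLift' c₀) (tau_lift G₂ (Over.mk f)))
  have huniq' : ∀ (s : 𝒯.obj) (ψ : s ⟶ G₁.obj (Over.mk (𝟙 U)))
      (ψ₁ ψ₂ : s ⟶ G₂.obj (Over.mk (𝟙 U))),
      (∃ (c : R.arrows.category) (κ : s ⟶ G₁.obj c.obj), κ ≫ G₁.map (tau c.obj) = ψ ∧
          ψ₁ = κ ≫ γ.toNatTrans.app c ≫ G₂.map (tau c.obj)) →
      (∃ (c : R.arrows.category) (κ : s ⟶ G₁.obj c.obj), κ ≫ G₁.map (tau c.obj) = ψ ∧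
          ψ₂ = κ ≫ γ.toNatTrans.app c ≫ G₂.map (tau c.obj)) → ψ₁ = ψ₂ := by
    rintro s ψ ψ₁ ψ₂ ⟨c, κ, h1, h2⟩ ⟨c', κ', h1', h2'⟩
    exact h2.trans ((indep h𝒯 R γ c c' κ κ' (h1.trans h1'.symm)).trans h2'.symm)
  have hnat' : ∀ (s s' : 𝒯.obj) (χ : s ⟶ s') (ψ : s' ⟶ G₁.obj (Over.mk (𝟙 U)))
      (ψ' : s' ⟶ G₂.obj (Over.mk (𝟙 U))),
      (∃ (c : R.arrows.category) (κ : s' ⟶ G₁.obj c.obj), κ ≫ G₁.map (tau c.obj) = ψ ∧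
          ψ' = κ ≫ γ.toNatTrans.app c ≫ G₂.map (tau c.obj)) →
      (∃ (c : R.arrows.category) (κ : s ⟶ G₁.obj c.obj), κ ≫ G₁.map (tau c.obj) = χ ≫ ψ ∧
          χ ≫ ψ' = κ ≫ γ.toNatTrans.app c ≫ G₂.map (tau c.obj)) := by
    rintro s s' χ ψ ψ' ⟨c, κ, h1, h2⟩
    exact ⟨c, χ ≫ κ, by rw [Category.assoc, h1], by rw [h2, Category.assoc]⟩
  obtain ⟨μ, hμ1, hμ2⟩ := hg _ _ ht ht'
    (fun {s} ψ ψ' => ∃ (c : R.arrows.category) (κ : s ⟶ G₁.obj c.obj),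
      κ ≫ G₁.map (tau c.obj) = ψ ∧ ψ' = κ ≫ γ.toNatTrans.app c ≫ G₂.map (tau c.obj))
    hex' huniq' hnat'
  obtain ⟨α, hα⟩ := exists_ext h𝒯 G₁ G₂ μ hμ1
  refine ⟨α, ?_⟩
  apply BasedNatTrans.homCategory.ext
  ext c
  have sc : 𝒯.p.IsStronglyCartesian c.obj.hom (G₂.map (tau c.obj)) :=
    sc_of_isHomLift 𝒯.p h𝒯 _ _ (tau_lift G₂ c.obj)
  refine sc_ext 𝒯.p c.obj.hom (G₂.map (tau c.obj)) sc (𝟙 c.obj.left) _ _
    (α.isHomLift' c.obj) (γ.isHomLift' c) ?_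
  have n : G₁.map (tau c.obj) ≫ α.toNatTrans.app (Over.mk (𝟙 U)) =
      α.toNatTrans.app c.obj ≫ G₂.map (tau c.obj) := α.toNatTrans.naturality (tau c.obj)
  obtain ⟨c', κ', h1, h2⟩ := hμ2 c.obj.hom c.property _ (G₁.map (tau c.obj)) (tau_lift G₁ c.obj)
  have i := indep h𝒯 R γ c' c κ' (𝟙 _) (h1.trans (Category.id_comp _).symm)
  exact n.symm.trans ((congrArg (fun x => G₁.map (tau c.obj) ≫ x) hα).trans
    (h2.trans (i.trans (Category.id_comp _))))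

theorem glueObj_of_essSurj {U : C} (R : Sieve U) (hE : (Stk.resSieve R 𝒯).EssSurj) :
    GlueObj 𝒯 R := by
  intro H
  obtain ⟨G, ⟨θ⟩⟩ := hE.mem_essImage H
  refine ⟨G.obj (Over.mk (𝟙 U)), G.w_obj (Over.mk (𝟙 U)),
    fun a => θ.inv.toNatTrans.app a ≫ G.map (tau a.obj), ?_, ?_⟩
  · intro a
    exact lift_comp_id_left 𝒯.p a.obj.hom _ _ (θ.inv.isHomLift' a) (tau_lift G a.obj)
  · intro a b m
    have n : H.map m ≫ θ.inv.toNatTrans.app b = θ.inv.toNatTrans.app a ≫ G.map m.hom :=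
      θ.inv.toNatTrans.naturality m
    exact chB _ _ _ _ _ _ n (map_comp_tau G m.hom)

theorem essSurj_of_glueObj (h𝒯 : IsFibGrpd 𝒯.p) {U : C} (R : Sieve U) (h : GlueObj 𝒯 R) :
    (Stk.resSieve R 𝒯).EssSurj := by
  refine ⟨fun H => ?_⟩
  obtain ⟨y, hy, lam, hlam, hnat⟩ := h H
  haveI : 𝒯.p.IsFibered := isFibered_of_isFibGrpd h𝒯
  obtain ⟨G, -, t, -, ht⟩ := Groth.Agent.H32.Yoneda2.exists_based_functor
    (Groth.Agent.H32.Split.hT U) y hy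
  have ht' : 𝒯.p.IsHomLift (𝟙 U) t := ht
  have hE : ∀ a : R.arrows.category, ∃ θ : G.obj a.obj ⟶ H.obj a,
      𝒯.p.IsHomLift (𝟙 a.obj.left) θ ∧ θ ≫ lam a = G.map (tau a.obj) ≫ t := fun a =>
    sc_exists 𝒯.p a.obj.hom (lam a) (sc_of_isHomLift 𝒯.p h𝒯 _ _ (hlam a))
      (G.map (tau a.obj) ≫ t)
      (lift_comp_id_right 𝒯.p a.obj.hom _ _ (tau_lift G a.obj) ht')
  choose θ hθ1 hθ2 using hE
  have nat : ∀ {a b : R.arrows.category} (m : a ⟶ b),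
      G.map m.hom ≫ θ b = θ a ≫ H.map m := by
    intro a b m
    refine sc_ext 𝒯.p b.obj.hom (lam b) (sc_of_isHomLift 𝒯.p h𝒯 _ _ (hlam b)) m.hom.left _ _
      (lift_comp_id_right 𝒯.p m.hom.left _ _ (map_lift G m.hom) (hθ1 b))
      (lift_comp_id_left 𝒯.p m.hom.left _ _ (hθ1 a) (lift_map H m)) ?_
    exact chA _ _ _ _ _ _ _ _ _ (hθ2 b) (hθ2 a) (map_comp_tau G m.hom) (hnat m)
  let α : (Stk.resSieve R 𝒯).obj G ⟶ H :=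
    { toNatTrans := { app := θ, naturality := fun a b m => nat m }
      isHomLift' := fun a => hθ1 a }
  haveI : IsIso α := Groth.Agent.H32.RepStack.isIso_natTrans h𝒯 α
  exact ⟨G, ⟨asIso α⟩⟩

end Gen

section Strict
variable {B : Type u} [Category.{v} B] {𝒲 : BasedCategory.{v₂, u₂} B}

theorem strictify (h𝒲 : IsFibGrpd 𝒲.p) {𝒟 : Type w₁} [Category.{w₂} 𝒟] (Φ : 𝒟 ⥤ B)
    (H₀ : 𝒟 ⥤ 𝒲.obj) (σ : ∀ d, Φ.obj d ⟶ 𝒲.p.obj (H₀.obj d))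
    (hσ : ∀ {d d' : 𝒟} (k : d ⟶ d'), Φ.map k ≫ σ d' = σ d ≫ 𝒲.p.map (H₀.map k)) :
    ∃ (H' : 𝒟 ⥤ 𝒲.obj) (_ : H' ⋙ 𝒲.p = Φ) (θ : ∀ d, H'.obj d ⟶ H₀.obj d),
      (∀ d, 𝒲.p.IsHomLift (σ d) (θ d)) ∧
        ∀ {d d' : 𝒟} (k : d ⟶ d'), H'.map k ≫ θ d' = θ d ≫ H₀.map k := by
  have hE := fun d => h𝒲.exists_lift (σ d)
  choose ob θ hθ using hE
  have sc : ∀ d, 𝒲.p.IsStronglyCartesian (σ d) (θ d) := fun d =>
    sc_of_isHomLift 𝒲.p h𝒲 _ _ (hθ d)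
  have hM : ∀ (d d' : 𝒟) (k : d ⟶ d'), ∃ m : ob d ⟶ ob d',
      𝒲.p.IsHomLift (Φ.map k) m ∧ m ≫ θ d' = θ d ≫ H₀.map k := by
    intro d d' k
    have l : 𝒲.p.IsHomLift (Φ.map k ≫ σ d') (θ d ≫ H₀.map k) := by
      rw [hσ k]
      exact lift_comp2 𝒲.p (σ d) (𝒲.p.map (H₀.map k)) (θ d) (H₀.map k) (hθ d)
        (IsHomLift.map 𝒲.p (H₀.map k))
    exact sc_exists_g 𝒲.p (σ d') (θ d') (sc d') (Φ.map k) _ l
  choose M hM1 hM2 using hM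
  have hid : ∀ d, M d d (𝟙 d) = 𝟙 (ob d) := by
    intro d
    have l1 : 𝒲.p.IsHomLift (Φ.map (𝟙 d)) (𝟙 (ob d)) := by
      rw [Φ.map_id]
      exact IsHomLift.id (dom_eq 𝒲.p (σ d) (θ d) (hθ d))
    refine sc_ext 𝒲.p (σ d) (θ d) (sc d) (Φ.map (𝟙 d)) _ _ (hM1 d d (𝟙 d)) l1 ?_
    rw [hM2, H₀.map_id, Category.comp_id, Category.id_comp]
  have hcomp : ∀ {d d' d'' : 𝒟} (k : d ⟶ d') (k' : d' ⟶ d''),
      M d d'' (k ≫ k') = M d d' k ≫ M d' d'' k' := by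
    intro d d' d'' k k'
    have l1 : 𝒲.p.IsHomLift (Φ.map (k ≫ k')) (M d d' k ≫ M d' d'' k') := by
      rw [Φ.map_comp]
      exact lift_comp2 𝒲.p _ _ _ _ (hM1 d d' k) (hM1 d' d'' k')
    refine sc_ext 𝒲.p (σ d'') (θ d'') (sc d'') (Φ.map (k ≫ k')) _ _ (hM1 d d'' (k ≫ k')) l1 ?_
    rw [hM2, Category.assoc, hM2, ← Category.assoc, hM2, Category.assoc, H₀.map_comp]
  let H' : 𝒟 ⥤ 𝒲.obj :=
    { obj := ob
      map := fun {d d'} k => M d d' k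
      map_id := hid
      map_comp := fun k k' => hcomp k k' }
  refine ⟨H', ?_, θ, hθ, fun {d d'} k => hM2 d d' k⟩
  refine CategoryTheory.Functor.ext (fun d => dom_eq 𝒲.p (σ d) (θ d) (hθ d)) ?_
  intro d d' k
  exact fac_of 𝒲.p (Φ.map k) (M d d' k) (hM1 d d' k)

end Strict

end Groth.Agent.H88.StkU
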