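import Groth.Agent.H17.LocFreeRank
import Groth.Agent.H18.TwistGenerated
import Groth.Agent.H8.QCohStalk
import Groth.Prelude.Def_ProjUP

/-!
# The module `Q~` on `Spec R` for `Q` locally free of rank one

* `isInvertible_tilde`: if `Q` is finitely presented and free of rank one at every prime, `Q~` is
  an invertible module.
* `generatedBy_tilde`: a spanning family of `Q` generates `Q~`.
-/

set_option autoImplicit false
universe u

open CategoryTheory CategoryTheory.Limits AlgebraicGeometry TopologicalSpace Opposite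

namespace Groth.Agent.H88.TildeInv

noncomputable section

variable {R : CommRingCat.{u}} (M : ModuleCat.{u} R)

set_option backward.isDefEq.respectTransparency false in
theorem isInvertible_tilde [Module.FinitePresentation R M]
    (hfree : ∀ p : PrimeSpectrum R, Module.Free (Localization.AtPrime p.asIdeal)
      (LocalizedModule p.asIdeal.primeCompl M))
    (hrank : ∀ p : PrimeSpectrum R, Module.finrank (Localization.AtPrime p.asIdeal)
      (LocalizedModule p.asIdeal.primeCompl M) = 1) :
    PicF.IsInvertible (tilde M) := by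
  intro y
  haveI := hfree y
  obtain ⟨f, hf, ⟨e⟩⟩ := Groth.Agent.H17.LocFreeRank.exists_free_away_of_free_rank M
    y.asIdeal.primeCompl (Localization.AtPrime y.asIdeal)
    (LocalizedModule.mkLinearMap y.asIdeal.primeCompl M) 1 (hrank y)
  let U : (Spec R).Opens := PrimeSpectrum.basicOpen f
  have hU : IsAffineOpen U := by
    have := (isAffineOpen_top (Spec R)).basicOpen ((Scheme.ΓSpecIso R).inv f)
    rwa [basicOpen_eq_of_affine] at this
  refine ⟨U, hf, ?_⟩
  haveI : IsLocalizedModule (Submonoid.powers f) (tilde.toOpen M U).hom :=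
    inferInstanceAs (IsLocalizedModule.Away f (tilde.toOpen M (PrimeSpectrum.basicOpen f)).hom)
  let e1 : LocalizedModule (Submonoid.powers f) M ≃ₗ[R] Γ(tilde M, U) :=
    IsLocalizedModule.iso (Submonoid.powers f) (tilde.toOpen M U).hom
  let e3 : Localization.Away f ≃ₗ[R] Γ(Spec R, U) :=
    (IsLocalization.algEquiv (Submonoid.powers f) (Localization.Away f)
      Γ(Spec R, U)).toLinearEquiv
  let e0 : Γ(tilde M, U) ≃ₗ[R] (Fin 1 → Γ(Spec R, U)) :=
    e1.symm ≪≫ₗ (e.restrictScalars R) ≪≫ₗ LinearEquiv.piCongrRight (fun _ => e3)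
  let e' : Γ(tilde M, U) ≃ₗ[Γ(Spec R, U)] (Fin 1 → Γ(Spec R, U)) :=
    LinearEquiv.extendScalarsOfIsLocalization (Submonoid.powers f) Γ(Spec R, U) e0
  obtain ⟨φ⟩ := Groth.Agent.H8.nonempty_restrict_iso_freeMod hU (tilde M) 1 e'
  exact ⟨φ ≪≫ coproductUniqueIso (fun _ : Fin 1 => Coh.structureModule (↑U))⟩

/-- The global section of `M~` attached to an element of `M`. -/
def gsec (q0 : M) : Γ(tilde M, ⊤) := (tilde.toOpen M ⊤).hom q0

theorem gsec_add (a b : M) : gsec M (a + b) = gsec M a + gsec M b :=
  (tilde.toOpen M ⊤).hom.map_add a b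

theorem gsec_zero : gsec M 0 = 0 := (tilde.toOpen M ⊤).hom.map_zero

theorem gsec_smul (r : R) (a : M) : gsec M (r • a) = r • gsec M a :=
  (tilde.toOpen M ⊤).hom.map_smul r a

theorem gsec_bijective : Function.Bijective (gsec M) :=
  ConcreteCategory.bijective_of_isIso (tilde.toOpen M ⊤)

theorem generatedBy_tilde {ι : Type*} (q : ι → M) (hq : Submodule.span R (Set.range q) = ⊤) :
    ProjUP.GeneratedBy (tilde M) (fun i => gsec M (q i)) := by
  intro x
  rw [eq_top_iff]
  intro t _
  obtain ⟨a, hxa, m, hm⟩ := Groth.Agent.H8.exists_germ_smul_eq_germ (tilde M)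
    (isAffineOpen_top _) x trivial t
  obtain ⟨q0, rfl⟩ := (gsec_bijective M).2 m
  have key : ∀ q0 : M, q0 ∈ Submodule.span R (Set.range q) →
      (tilde M).presheaf.germ ⊤ x trivial (gsec M q0) ∈
        Submodule.span ((Spec R).presheaf.stalk x)
          (Set.range fun i => ((tilde M).presheaf.germ ⊤ x trivial).hom (gsec M (q i))) := by
    intro q0 hq0
    induction hq0 using Submodule.span_induction with
    | mem z hz =>
      obtain ⟨i, rfl⟩ := hz
      exact Submodule.subset_span ⟨i, rfl⟩
    | zero =>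
      rw [gsec_zero, map_zero]
      exact Submodule.zero_mem _
    | add a b _ _ ha hb =>
      rw [gsec_add, map_add]
      exact Submodule.add_mem _ ha hb
    | smul r z _ hz =>
      rw [gsec_smul, Scheme.Modules.smul_Spec_def, Groth.Agent.H18.TwistGenerated.germ_smul']
      exact Submodule.smul_mem _ _ hz
  have hu : IsUnit ((Spec R).presheaf.germ ⊤ x trivial a) :=
    (Scheme.mem_basicOpen _ a x trivial).mp hxa
  have h1 := key q0 (by rw [hq]; trivial)
  rw [← hm] at h1
  have h2 := Submodule.smul_mem _ (↑hu.unit⁻¹ : (Spec R).presheaf.stalk x) h1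
  rwa [smul_smul, IsUnit.val_inv_mul, one_smul] at h2

theorem inv_smul_gsec (r : R) (a : M) :
    ((Scheme.ΓSpecIso R).inv.hom r) • gsec M a = gsec M (r • a) := by
  rw [gsec_smul, Scheme.Modules.smul_Spec_def]
  congr 1

theorem sum_inv_smul_gsec {ι : Type*} (s : Finset ι) (c : ι → R) (q : ι → M) :
    ∑ i ∈ s, ((Scheme.ΓSpecIso R).inv.hom (c i)) • gsec M (q i) =
      gsec M (∑ i ∈ s, c i • q i) := by
  classical
  induction s using Finset.induction_on with
  | empty => rw [Finset.sum_empty, Finset.sum_empty, gsec_zero]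
  | insert a s ha ih =>
    rw [Finset.sum_insert ha, Finset.sum_insert ha, gsec_add, ih, inv_smul_gsec]

end

end Groth.Agent.H88.TildeInv
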