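import Groth.Agent.S17713
import Groth.Agent.H88.PolyNeg
import Groth.Agent.H88.BernoulliSign

set_option autoImplicit false

namespace Groth.Agent.H88

open Polynomial

/-- the Todd coefficient is eventually negative if its leading coefficient is negative, or
vanishes with negative subleading coefficient -/
theorem todd_eventually_neg (n d : ℕ) (s : ℤ) (hn : 2 ≤ n) (hd : 1 ≤ d)
    (h : bernoulli' n < 0 ∨
      (bernoulli' n = 0 ∧ (2 * (s : ℚ) - d - n - 1) / 2 * bernoulli' (n - 1) < 0)) :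
    ∃ N : ℕ, ∀ p : ℕ, N ≤ p →
      PowerSeries.coeff n ((PowerSeries.rescale (-(d : ℚ)) (bernoulli'PowerSeries ℚ))⁻¹ * PowerSeries.rescale (-((d : ℚ) * p)) (bernoulli'PowerSeries ℚ) * bernoulli'PowerSeries ℚ ^ (n + 1) * PowerSeries.rescale ((d : ℚ) * p - d - n - 1 + s) (PowerSeries.exp ℚ)) < 0 := by
  obtain ⟨P, hPdeg, hP⟩ := Groth.Agent.S17713.result n d s hn hd
  have hdpos : (0 : ℚ) < d := by exact_mod_cast hd
  rcases h with ha | ⟨ha, hb⟩
  · -- leading coefficient negative
    set a : ℚ := bernoulli' n * (d : ℚ) ^ n / (n.factorial : ℚ) with ha_def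
    set b : ℚ := (2 * (s : ℚ) - d - n - 1) / 2 * bernoulli' (n - 1) * (d : ℚ) ^ (n - 1) /
      ((n - 1).factorial : ℚ) with hb_def
    have haneg : a < 0 := by
      rw [ha_def]
      have : (0 : ℚ) < (d : ℚ) ^ n / (n.factorial : ℚ) := by positivity
      have e : bernoulli' n * (d : ℚ) ^ n / (n.factorial : ℚ) =
        bernoulli' n * ((d : ℚ) ^ n / (n.factorial : ℚ)) := by ring
      rw [e]
      exact mul_neg_of_neg_of_pos ha this
    have hRdeg : (C b * X ^ (n - 1) + P).natDegree < n := by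
      refine lt_of_le_of_lt (natDegree_add_le _ _) ?_
      rw [max_lt_iff]
      constructor
      · exact lt_of_le_of_lt (natDegree_C_mul_X_pow_le _ _) (by omega)
      · omega
    obtain ⟨N, hN⟩ := eventually_neg_of_lead_neg a haneg n (by omega) _ hRdeg
    refine ⟨N, fun p hp => ?_⟩
    rw [hP p]
    have := hN p hp
    simp only [eval_add, eval_mul, eval_C, eval_pow, eval_X] at this
    have e : bernoulli' n * ((d : ℚ) * p) ^ n / (n.factorial : ℚ) +
          (2 * (s : ℚ) - d - n - 1) / 2 * bernoulli' (n - 1) * ((d : ℚ) * p) ^ (n - 1) /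
            ((n - 1).factorial : ℚ) + P.eval (p : ℚ) =
        a * (p : ℚ) ^ n + (b * (p : ℚ) ^ (n - 1) + P.eval (p : ℚ)) := by
      rw [ha_def, hb_def, mul_pow, mul_pow]; ring
    rw [e]
    exact this
  · -- leading coefficient zero, subleading negative
    set b : ℚ := (2 * (s : ℚ) - d - n - 1) / 2 * bernoulli' (n - 1) * (d : ℚ) ^ (n - 1) /
      ((n - 1).factorial : ℚ) with hb_def
    have hbneg : b < 0 := by
      rw [hb_def]
      have : (0 : ℚ) < (d : ℚ) ^ (n - 1) / ((n - 1).factorial : ℚ) := by positivity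
      have e : (2 * (s : ℚ) - d - n - 1) / 2 * bernoulli' (n - 1) * (d : ℚ) ^ (n - 1) /
          ((n - 1).factorial : ℚ) =
        ((2 * (s : ℚ) - d - n - 1) / 2 * bernoulli' (n - 1)) *
          ((d : ℚ) ^ (n - 1) / ((n - 1).factorial : ℚ)) := by ring
      rw [e]
      exact mul_neg_of_neg_of_pos hb this
    have hPdeg' : P.natDegree < n - 1 := by omega
    obtain ⟨N, hN⟩ := eventually_neg_of_lead_neg b hbneg (n - 1) (by omega) P hPdeg'
    refine ⟨N, fun p hp => ?_⟩
    rw [hP p, ha]
    have := hN p hp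
    have e : 0 * ((d : ℚ) * p) ^ n / (n.factorial : ℚ) +
          (2 * (s : ℚ) - d - n - 1) / 2 * bernoulli' (n - 1) * ((d : ℚ) * p) ^ (n - 1) /
            ((n - 1).factorial : ℚ) + P.eval (p : ℚ) =
        b * (p : ℚ) ^ (n - 1) + P.eval (p : ℚ) := by
      rw [hb_def, mul_pow]; ring
    rw [e]
    exact this

end Groth.Agent.H88
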