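import Mathlib.NumberTheory.Bernoulli
import Mathlib.RingTheory.PowerSeries.WellKnown
import Mathlib.RingTheory.PowerSeries.Inverse

set_option autoImplicit false

namespace Groth.Agent.H88

open PowerSeries

theorem coeff_zero_mul' (f g : PowerSeries ℚ) :
    coeff 0 (f * g) = coeff 0 f * coeff 0 g := by
  simp [coeff_mul]

theorem coeff_one_mul' (f g : PowerSeries ℚ) :
    coeff 1 (f * g) = coeff 0 f * coeff 1 g + coeff 1 f * coeff 0 g := by
  rw [coeff_mul, show Finset.antidiagonal 1 = {(0, 1), (1, 0)} from by decide]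
  simp

theorem coeff_two_mul' (f g : PowerSeries ℚ) :
    coeff 2 (f * g) = coeff 0 f * coeff 2 g + coeff 1 f * coeff 1 g + coeff 2 f * coeff 0 g := by
  rw [coeff_mul, show Finset.antidiagonal 2 = {(0, 2), (1, 1), (2, 0)} from by decide]
  simp
  ring

theorem coeff_three_mul' (f g : PowerSeries ℚ) :
    coeff 3 (f * g) = coeff 0 f * coeff 3 g + coeff 1 f * coeff 2 g + coeff 2 f * coeff 1 g
      + coeff 3 f * coeff 0 g := by
  rw [coeff_mul, show Finset.antidiagonal 3 = {(0, 3), (1, 2), (2, 1), (3, 0)} from by decide]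
  simp
  ring

theorem coeff_bernoulli' (n : ℕ) :
    coeff n (bernoulli'PowerSeries ℚ) = bernoulli' n / (n.factorial : ℚ) := by
  simp [bernoulli'PowerSeries]

theorem coeff_zero_B : coeff 0 (bernoulli'PowerSeries ℚ) = 1 := by
  simp [coeff_bernoulli']

theorem coeff_one_B : coeff 1 (bernoulli'PowerSeries ℚ) = 1 / 2 := by
  simp [coeff_bernoulli']

theorem coeff_two_B : coeff 2 (bernoulli'PowerSeries ℚ) = 1 / 12 := by
  rw [coeff_bernoulli', bernoulli'_two]; norm_num [Nat.factorial]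

theorem coeff_three_B : coeff 3 (bernoulli'PowerSeries ℚ) = 0 := by
  rw [coeff_bernoulli', bernoulli'_three]; simp

/-- Coefficients `0..3` of the inverse of a power series with constant coefficient `1`. -/
theorem coeff_inv_of_const_one (f : PowerSeries ℚ) (h0 : coeff 0 f = 1) :
    coeff 0 f⁻¹ = 1 ∧ coeff 1 f⁻¹ = -coeff 1 f ∧
    coeff 2 f⁻¹ = (coeff 1 f) ^ 2 - coeff 2 f ∧
    coeff 3 f⁻¹ = -(coeff 1 f) ^ 3 + 2 * coeff 1 f * coeff 2 f - coeff 3 f := by
  have hc : constantCoeff f ≠ 0 := by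
    rw [← coeff_zero_eq_constantCoeff_apply, h0]; exact one_ne_zero
  have hmul : f * f⁻¹ = 1 := PowerSeries.mul_inv_cancel f hc
  have e0 := congrArg (coeff 0) hmul
  have e1 := congrArg (coeff 1) hmul
  have e2 := congrArg (coeff 2) hmul
  have e3 := congrArg (coeff 3) hmul
  rw [coeff_zero_mul', h0, one_mul] at e0
  rw [coeff_one_mul', h0, one_mul] at e1
  rw [coeff_two_mul', h0, one_mul] at e2
  rw [coeff_three_mul', h0, one_mul] at e3
  simp only [coeff_one, if_true] at e0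
  have e1' : coeff 1 f⁻¹ + coeff 1 f * coeff 0 f⁻¹ = 0 := by
    simpa [coeff_one] using e1
  have e2' : coeff 2 f⁻¹ + coeff 1 f * coeff 1 f⁻¹ + coeff 2 f * coeff 0 f⁻¹ = 0 := by
    simpa [coeff_one] using e2
  have e3' : coeff 3 f⁻¹ + coeff 1 f * coeff 2 f⁻¹ + coeff 2 f * coeff 1 f⁻¹
      + coeff 3 f * coeff 0 f⁻¹ = 0 := by
    simpa [coeff_one] using e3
  rw [e0] at e1' e2' e3'
  have r1 : coeff 1 f⁻¹ = -coeff 1 f := by linarith
  rw [r1] at e2' e3'
  have r2 : coeff 2 f⁻¹ = (coeff 1 f) ^ 2 - coeff 2 f := by linarith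
  rw [r2] at e3'
  refine ⟨e0, r1, r2, ?_⟩
  linarith

end Groth.Agent.H88
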