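import Groth.Agent.H88.ToddSeries
import Mathlib.RingTheory.PowerSeries.Exp

set_option autoImplicit false

namespace Groth.Agent.H88

open PowerSeries

/-- `B(-x) e^x = B(x)` for the generating series `B` of `bernoulli'`. -/
theorem bernoulli_neg_mul_exp :
    rescale (-1 : ℚ) (bernoulli'PowerSeries ℚ) * exp ℚ = bernoulli'PowerSeries ℚ := by
  have h1 : rescale (-1 : ℚ) (bernoulli'PowerSeries ℚ) = bernoulliPowerSeries ℚ := by
    ext n
    simp only [coeff_rescale, bernoulli'PowerSeries, bernoulliPowerSeries, coeff_mk, bernoulli]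
    simp only [Algebra.algebraMap_self, RingHom.id_apply]
    ring
  rw [h1]
  have h2 := bernoulliPowerSeries_mul_exp_sub_one ℚ
  have h3 := bernoulli'PowerSeries_mul_exp_sub_one ℚ
  have h4 : (bernoulliPowerSeries ℚ * exp ℚ - bernoulli'PowerSeries ℚ) * (exp ℚ - 1) = 0 := by
    rw [sub_mul, h3, mul_assoc, mul_comm (exp ℚ) (exp ℚ - 1), ← mul_assoc, h2, sub_self]
  have h5 : exp ℚ - 1 ≠ (0 : PowerSeries ℚ) := by
    intro h
    have := congrArg (coeff 1) h
    simp [coeff_exp] at this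
  rcases mul_eq_zero.mp h4 with h | h
  · exact sub_eq_zero.mp h
  · exact (h5 h).elim

/-- `B(-a x) e^{a x} = B(a x)`. -/
theorem bernoulli_rescale_neg_mul_exp (a : ℚ) :
    rescale (-a) (bernoulli'PowerSeries ℚ) * rescale a (exp ℚ) =
      rescale a (bernoulli'PowerSeries ℚ) := by
  have h := congrArg (rescale a) bernoulli_neg_mul_exp
  rw [map_mul, rescale_rescale] at h
  rw [← h]
  congr 3
  ring

/-- the `p`-independent factor of the Todd integrand -/
noncomputable def toddG (n d : ℕ) (s : ℤ) : PowerSeries ℚ :=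
  (rescale (-(d : ℚ)) (bernoulli'PowerSeries ℚ))⁻¹ * bernoulli'PowerSeries ℚ ^ (n + 1) *
    rescale (-(d : ℚ) - n - 1 + s) (exp ℚ)

theorem todd_eq (n d p : ℕ) (s : ℤ) :
    (rescale (-(d : ℚ)) (bernoulli'PowerSeries ℚ))⁻¹ *
      rescale (-((d : ℚ) * p)) (bernoulli'PowerSeries ℚ) * bernoulli'PowerSeries ℚ ^ (n + 1) *
      rescale ((d : ℚ) * p - d - n - 1 + s) (exp ℚ) =
    toddG n d s * rescale ((d : ℚ) * p) (bernoulli'PowerSeries ℚ) := by
  have hexp : rescale ((d : ℚ) * p - d - n - 1 + s) (exp ℚ) =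
      rescale ((d : ℚ) * p) (exp ℚ) * rescale (-(d : ℚ) - n - 1 + s) (exp ℚ) := by
    rw [exp_mul_exp_eq_exp_add]
    congr 2
    ring
  rw [hexp, ← bernoulli_rescale_neg_mul_exp ((d : ℚ) * p), toddG]
  ring

theorem coeff_zero_pow_of_one (f : PowerSeries ℚ) (h0 : coeff 0 f = 1) (k : ℕ) :
    coeff 0 (f ^ k) = 1 := by
  induction k with
  | zero => simp
  | succ k ih => rw [pow_succ, coeff_zero_mul', ih, h0, one_mul]

theorem coeff_one_pow_of_one (f : PowerSeries ℚ) (h0 : coeff 0 f = 1) (k : ℕ) :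
    coeff 1 (f ^ k) = k * coeff 1 f := by
  induction k with
  | zero => simp
  | succ k ih =>
    rw [pow_succ, coeff_one_mul', ih, h0, coeff_zero_pow_of_one f h0]
    push_cast
    ring

theorem coeff_zero_toddG (n d : ℕ) (s : ℤ) : coeff 0 (toddG n d s) = 1 := by
  have hg0 : coeff 0 (rescale (-(d : ℚ)) (bernoulli'PowerSeries ℚ)) = 1 := by
    rw [coeff_rescale, coeff_zero_B]; simp
  obtain ⟨i0, -, -, -⟩ := coeff_inv_of_const_one _ hg0
  rw [toddG, coeff_zero_mul', coeff_zero_mul', i0, coeff_zero_pow_of_one _ coeff_zero_B,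
    coeff_rescale, coeff_exp]
  simp

theorem coeff_one_toddG (n d : ℕ) (s : ℤ) :
    coeff 1 (toddG n d s) = (2 * (s : ℚ) - d - n - 1) / 2 := by
  have hg0 : coeff 0 (rescale (-(d : ℚ)) (bernoulli'PowerSeries ℚ)) = 1 := by
    rw [coeff_rescale, coeff_zero_B]; simp
  obtain ⟨i0, i1, -, -⟩ := coeff_inv_of_const_one _ hg0
  rw [toddG, coeff_one_mul', coeff_one_mul', coeff_zero_mul', i0, i1,
    coeff_zero_pow_of_one _ coeff_zero_B, coeff_one_pow_of_one _ coeff_zero_B,
    coeff_rescale, coeff_rescale, coeff_rescale, coeff_exp, coeff_exp, coeff_one_B]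
  simp
  ring

/-- the coefficient of `x^n` of the Todd integrand as an explicit sum -/
theorem coeff_todd (n d p : ℕ) (s : ℤ) (m : ℕ) :
    coeff m ((rescale (-(d : ℚ)) (bernoulli'PowerSeries ℚ))⁻¹ *
      rescale (-((d : ℚ) * p)) (bernoulli'PowerSeries ℚ) * bernoulli'PowerSeries ℚ ^ (n + 1) *
      rescale ((d : ℚ) * p - d - n - 1 + s) (exp ℚ)) =
    ∑ j ∈ Finset.range (m + 1), coeff (m - j) (toddG n d s) *
      (((d : ℚ) * p) ^ j * (bernoulli' j / (j.factorial : ℚ))) := by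
  rw [todd_eq, mul_comm, coeff_mul, Finset.Nat.sum_antidiagonal_eq_sum_range_succ_mk]
  apply Finset.sum_congr rfl
  intro j _
  rw [coeff_rescale, coeff_bernoulli', mul_comm]

end Groth.Agent.H88
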