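import Mathlib

/-!
# Adjuncts along an open immersion (piece (G1) of S9574/S9573)
-/

set_option autoImplicit false
universe u
open CategoryTheory CategoryTheory.Limits AlgebraicGeometry Opposite TopologicalSpace

namespace Groth.Agent.H88.TwAdjCat

/-- comparison of the adjuncts for two left adjoints of the same functor -/
theorem homEquiv_symm_eq {C D : Type*} [Category C] [Category D] {F F' : C ⥤ D} {G : D ⥤ C}
    (adj₁ : F ⊣ G) (adj₂ : F' ⊣ G) {X : C} {Y : D} (g : X ⟶ G.obj Y) :
    (adj₁.homEquiv X Y).symm g =
      (adj₁.leftAdjointUniq adj₂).hom.app X ≫ (adj₂.homEquiv X Y).symm g := by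
  apply (adj₁.homEquiv X Y).injective
  rw [Equiv.apply_symm_apply, Adjunction.homEquiv_naturality_right,
    Adjunction.homEquiv_leftAdjointUniq_hom_app, ← Adjunction.homEquiv_unit,
    Equiv.apply_symm_apply]

/-- (G1) categorical: for an open immersion `f`, the adjunct of `g : M ⟶ f_* N` is an isomorphism
as soon as `g` is bijective on sections over all opens contained in the image of `f`. -/
theorem isIso_adjunct_of_bijective_app {X Y : Scheme.{u}} (f : X ⟶ Y) [IsOpenImmersion f]
    (M : Y.Modules) (N : X.Modules) (g : M ⟶ (Scheme.Modules.pushforward f).obj N)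
    (hg : ∀ V : X.Opens, Function.Bijective (g.app (f ''ᵁ V))) :
    IsIso (((Scheme.Modules.pullbackPushforwardAdjunction f).homEquiv M N).symm g) := by
  have h2 : IsIso (((Scheme.Modules.restrictAdjunction f).homEquiv M N).symm g) := by
    rw [Adjunction.homEquiv_counit]
    haveI : IsIso ((Scheme.Modules.restrictFunctor f).map g) := by
      rw [Scheme.Modules.Hom.isIso_iff_isIso_app]
      intro V
      have h : ((Scheme.Modules.restrictFunctor f).map g).app V = g.app (f ''ᵁ V) := rfl
      rw [h]
      exact (ConcreteCategory.isIso_iff_bijective _).mpr (hg V)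
    infer_instance
  rw [homEquiv_symm_eq (Scheme.Modules.pullbackPushforwardAdjunction f)
    (Scheme.Modules.restrictAdjunction f) g]
  infer_instance

end Groth.Agent.H88.TwAdjCat
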