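import Mathlib
import Groth.Prelude.Def_GrTwist
import Groth.Agent.H88.TwAdjCat
import Groth.Agent.H96.TwAdj_FG

/-!
# The adjunct of the canonical map of twisting sheaves is an isomorphism (S9574, S9573)

General theorem: if `Proj.map ψ` is an open immersion, the maps of localisations `A_x → B_y` are
injective and every degree-`n` fraction at `y` lifts to a degree-`n` fraction at `ψ⁻¹ y`, then the
adjunct `Φ^* O(n) ⟶ O(n)` of `GrTwist.comap ψ hψ n` is an isomorphism.
(Sectionwise bijectivity: helper96, `Groth.Agent.H96.TwAdj_FG`.)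
-/

set_option autoImplicit false
universe u
open CategoryTheory CategoryTheory.Limits AlgebraicGeometry Opposite TopologicalSpace
open scoped HomogeneousIdeal

namespace Groth.Agent.H88.TwAdj

section General

variable {A σ : Type u} [CommRing A] [SetLike σ A] [AddSubgroupClass σ A] {𝒜 : ℕ → σ} [GradedRing 𝒜]
  {B τ : Type u} [CommRing B] [SetLike τ B] [AddSubgroupClass τ B] {ℬ : ℕ → τ} [GradedRing ℬ]
  (ψ : 𝒜 →+*ᵍ ℬ) (hψ : ℬ₊ ≤ (𝒜₊).map ψ)

/-- The general statement. -/
theorem isIso_adjunct_comap (n : ℤ) [IsOpenImmersion (Proj.map ψ hψ)]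
    (hinj : ∀ y, Function.Injective (GrTwist.locMap ψ hψ y))
    (hlift : Groth.Agent.H96.TwAdj_FG.FracLift ψ hψ n) :
    IsIso (((Scheme.Modules.pullbackPushforwardAdjunction (Proj.map ψ hψ)).homEquiv
      (GrTwist.twist 𝒜 n) (GrTwist.twist ℬ n)).symm (GrTwist.comap ψ hψ n)) := by
  refine Groth.Agent.H88.TwAdjCat.isIso_adjunct_of_bijective_app (Proj.map ψ hψ) _ _
    (GrTwist.comap ψ hψ n) (fun V => ?_)
  have hemb : Topology.IsOpenEmbedding (ProjectiveSpectrum.comap ψ hψ) :=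
    (Proj.map ψ hψ).isOpenEmbedding
  exact Groth.Agent.H96.TwAdj_FG.comapApp_bijective ψ hψ n hemb hinj hlift
    ((Proj.map ψ hψ) ''ᵁ V)
    (by
      rintro x ⟨y, -, rfl⟩
      exact ⟨y, rfl⟩)
    ((Proj.map ψ hψ) ⁻¹ᵁ ((Proj.map ψ hψ) ''ᵁ V)) rfl

end General

end Groth.Agent.H88.TwAdj
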