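import Mathlib
import Groth.Prelude.Def_GrTwist

/-!
# `Proj.map` is an open immersion when it is an open embedding and fractions lift
-/

set_option autoImplicit false
universe u
open CategoryTheory CategoryTheory.Limits AlgebraicGeometry Opposite TopologicalSpace
open scoped HomogeneousIdeal

namespace Groth.Agent.H88.TwAdjOI

variable {A σ : Type u} [CommRing A] [SetLike σ A] [AddSubgroupClass σ A] {𝒜 : ℕ → σ} [GradedRing 𝒜]
  {B τ : Type u} [CommRing B] [SetLike τ B] [AddSubgroupClass τ B] {ℬ : ℕ → τ} [GradedRing ℬ]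
  (ψ : 𝒜 →+*ᵍ ℬ) (hψ : ℬ₊ ≤ (𝒜₊).map ψ)

/-- every degree-`n` fraction at `y` is the image of a degree-`n` fraction at `ψ⁻¹ y` -/
def FracLift (n : ℤ) : Prop :=
  ∀ (y : ProjectiveSpectrum ℬ) (i j : ℕ) (b : ℬ i) (t : ℬ j)
    (ht : (t : B) ∉ y.asHomogeneousIdeal), (i : ℤ) = j + n →
    ∃ (i' j' : ℕ) (a : 𝒜 i') (s : 𝒜 j')
      (hs : (s : A) ∉ (ProjectiveSpectrum.comap ψ hψ y).asHomogeneousIdeal), (i' : ℤ) = j' + n ∧
      GrTwist.locMap ψ hψ y (Localization.mk (a : A) ⟨s, hs⟩) = Localization.mk (b : B) ⟨t, ht⟩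

/-- the map of degree-zero localisations is bijective -/
theorem localRingHom_bijective (hinj : ∀ y, Function.Injective (GrTwist.locMap ψ hψ y))
    (hlift : FracLift ψ hψ 0) (y : ProjectiveSpectrum ℬ) :
    Function.Bijective (HomogeneousLocalization.localRingHom ψ
      (ProjectiveSpectrum.comap ψ hψ y).asHomogeneousIdeal.toIdeal
      y.asHomogeneousIdeal.toIdeal rfl) := by
  constructor
  · intro c₁ c₂ h
    apply HomogeneousLocalization.val_injective
    apply hinj y
    have h1 := congrArg HomogeneousLocalization.val h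
    rw [HomogeneousLocalization.val_localRingHom, HomogeneousLocalization.val_localRingHom] at h1
    exact h1
  · intro c'
    obtain ⟨⟨d, b, t, ht⟩, rfl⟩ := c'.mk_surjective
    obtain ⟨i', j', a, s, hs, hij, h⟩ := hlift y d d b t ht (by simp)
    have hij' : i' = j' := by omega
    subst hij'
    refine ⟨HomogeneousLocalization.mk ⟨i', a, s, hs⟩, ?_⟩
    apply HomogeneousLocalization.val_injective
    rw [HomogeneousLocalization.val_localRingHom, HomogeneousLocalization.val_mk,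
      HomogeneousLocalization.val_mk]
    exact h

/-- The criterion. -/
theorem isOpenImmersion_map (hemb : Topology.IsOpenEmbedding (ProjectiveSpectrum.comap ψ hψ))
    (hinj : ∀ y, Function.Injective (GrTwist.locMap ψ hψ y)) (hlift : FracLift ψ hψ 0) :
    IsOpenImmersion (Proj.map ψ hψ) := by
  haveI : ∀ y, IsIso ((Proj.map ψ hψ).stalkMap y) := by
    intro y
    have h1 := Proj.localRingHom_comp_stalkIso ψ hψ y
    have h2 : IsIso (CommRingCat.ofHom (HomogeneousLocalization.localRingHom ψ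
        (ProjectiveSpectrum.comap ψ hψ y).asHomogeneousIdeal.toIdeal
        y.asHomogeneousIdeal.toIdeal rfl)) :=
      (ConcreteCategory.isIso_iff_bijective _).mpr (localRingHom_bijective ψ hψ hinj hlift y)
    have h3 : IsIso ((Proj.sheafedSpaceMap ψ hψ).hom.stalkMap y) := by
      rw [← h1]
      exact IsIso.comp_isIso' inferInstance (IsIso.comp_isIso' h2 inferInstance)
    exact h3
  exact IsOpenImmersion.of_isIso_stalkMap (Proj.map ψ hψ) hemb

end Groth.Agent.H88.TwAdjOI

namespace Groth.Agent.H88.TwAdjOI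

section Away

variable {R A : Type u} [CommRing R] [CommRing A] [Algebra R A] {𝒜 : ℕ → Submodule R A}
  [GradedAlgebra 𝒜] {B : Type u} [CommRing B] [Algebra R B] {ℬ : ℕ → Submodule R B} [GradedAlgebra ℬ]
  (ψ : 𝒜 →+*ᵍ ℬ) (g : A) [Algebra A B] (hψA : ∀ a : A, ψ a = algebraMap A B a)
  [IsLocalization.Away g B]
  (hψ : HomogeneousIdeal.irrelevant ℬ ≤ (HomogeneousIdeal.irrelevant 𝒜).map ψ)

include hψA in
theorem psi_g_notMem (y : ProjectiveSpectrum ℬ) (k : ℕ) : ψ g ^ k ∉ y.asHomogeneousIdeal := by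
  intro h
  have hu : IsUnit (ψ g ^ k) := by
    rw [hψA g]
    exact (IsLocalization.Away.algebraMap_isUnit (S := B) g).pow k
  exact y.isPrime.ne_top (Ideal.eq_top_of_isUnit_mem _ h hu)

include hψA in
theorem exists_pow_mul (b : B) : ∃ (k : ℕ) (a : A), b * ψ g ^ k = ψ a := by
  obtain ⟨k, a, h⟩ := IsLocalization.Away.surj (S := B) g b
  exact ⟨k, a, by rw [hψA g, hψA a]; exact h⟩

include hψA in
theorem mem_iff_of_pow_mul (y : ProjectiveSpectrum ℬ) {b : B} {k : ℕ} {a : A}
    (h : b * ψ g ^ k = ψ a) :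
    b ∈ y.asHomogeneousIdeal ↔ a ∈ (ProjectiveSpectrum.comap ψ hψ y).asHomogeneousIdeal := by
  change b ∈ y.asHomogeneousIdeal ↔ ψ a ∈ y.asHomogeneousIdeal
  rw [← h]
  constructor
  · intro hb
    exact Ideal.mul_mem_right _ _ hb
  · intro hb
    exact (y.isPrime.mem_or_mem hb).resolve_right (psi_g_notMem ψ g hψA y k)

include g hψA in
theorem comap_injective_away : Function.Injective (ProjectiveSpectrum.comap ψ hψ) := by
  intro y₁ y₂ h
  apply ProjectiveSpectrum.ext
  apply HomogeneousIdeal.toIdeal_injective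
  ext b
  obtain ⟨k, a, hk⟩ := exists_pow_mul ψ g hψA b
  change b ∈ y₁.asHomogeneousIdeal ↔ b ∈ y₂.asHomogeneousIdeal
  rw [mem_iff_of_pow_mul ψ g hψA hψ y₁ hk, mem_iff_of_pow_mul ψ g hψA hψ y₂ hk, h]

include g hψA in
theorem isOpenEmbedding_comap_away
    (hrange : IsOpen (Set.range (ProjectiveSpectrum.comap ψ hψ))) :
    Topology.IsOpenEmbedding (ProjectiveSpectrum.comap ψ hψ) := by
  refine Topology.IsOpenEmbedding.of_continuous_injective_isOpenMap
    (ProjectiveSpectrum.comap ψ hψ).continuous (comap_injective_away ψ g hψA hψ) ?_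
  refine (ProjectiveSpectrum.isTopologicalBasis_basic_opens ℬ).isOpenMap_iff.mpr ?_
  rintro _ ⟨b, rfl⟩
  obtain ⟨k, a, hk⟩ := exists_pow_mul ψ g hψA b
  have himg : (ProjectiveSpectrum.comap ψ hψ) '' (ProjectiveSpectrum.basicOpen ℬ b : Set _) =
      (ProjectiveSpectrum.basicOpen 𝒜 a : Set _) ∩ Set.range (ProjectiveSpectrum.comap ψ hψ) := by
    ext x
    constructor
    · rintro ⟨y, hy, rfl⟩
      refine ⟨?_, ⟨y, rfl⟩⟩
      intro ha
      exact hy ((mem_iff_of_pow_mul ψ g hψA hψ y hk).mpr ha)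
    · rintro ⟨hx, ⟨y, rfl⟩⟩
      refine ⟨y, ?_, rfl⟩
      intro hb
      exact hx ((mem_iff_of_pow_mul ψ g hψA hψ y hk).mp hb)
  rw [himg]
  exact (ProjectiveSpectrum.basicOpen 𝒜 a).isOpen.inter hrange

end Away

end Groth.Agent.H88.TwAdjOI
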