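import Mathlib
import Groth.Prelude.Def_W4stkalgstUpp
import Groth.Prelude.Def_FibCat2

/-!
# The category `u_pp 𝒮`, its right multiplicative system `R`, and the localisation `u_p 𝒮`

Shared proofs for S12812 (right calculus of fractions), S12813 (`u_p 𝒮` fibred) and
S12814 (`u_p 𝒮` fibred in groupoids).
-/

set_option autoImplicit false
open CategoryTheory CategoryTheory.Limits
universe v₃ u₃ v₂ u₂ v u w₁ w₂ w₃ w₄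

namespace Groth.Agent.H88.Upp
open Stk

section General
variable {𝒳 : Type w₁} [Category.{w₂} 𝒳] {B : Type w₃} [Category.{w₄} B] (p : 𝒳 ⥤ B)

theorem isHomLift_of_map_eq {a b : 𝒳} (φ : a ⟶ b) (f : p.obj a ⟶ p.obj b) (h : p.map φ = f) :
    p.IsHomLift f φ := by
  subst h; exact IsHomLift.map p φ

theorem map_eq_of_isHomLift {a b : 𝒳} (φ : a ⟶ b) (f : p.obj a ⟶ p.obj b)
    (h : p.IsHomLift f φ) : p.map φ = f :=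
  (IsHomLift.eq_of_isHomLift p f φ).symm

theorem sc_comp {a b c : 𝒳} (φ : a ⟶ b) (ψ : b ⟶ c)
    (h1 : p.IsStronglyCartesian (p.map φ) φ) (h2 : p.IsStronglyCartesian (p.map ψ) ψ) :
    p.IsStronglyCartesian (p.map (φ ≫ ψ)) (φ ≫ ψ) := by
  rw [Functor.map_comp]
  exact Functor.IsStronglyCartesian.comp p

theorem sc_iso {a b : 𝒳} (φ : a ⟶ b) [IsIso φ] : p.IsStronglyCartesian (p.map φ) φ := by
  haveI : p.IsHomLift (p.map φ) φ := IsHomLift.map p φ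
  exact Functor.IsStronglyCartesian.of_isIso p (p.map φ) φ

theorem isFibered_of_isFibGrpd (h : FibCat.IsFibGrpd p) : p.IsFibered :=
  Functor.IsFibered.of_exists_isStronglyCartesian (fun a R f => by
    obtain ⟨y, φ, hφ⟩ := h.exists_lift f
    have hdom := IsHomLift.domain_eq p f φ
    subst hdom
    obtain rfl : f = p.map φ := IsHomLift.eq_of_isHomLift p f φ
    exact ⟨y, φ, h.isStronglyCartesian φ⟩)

end General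

variable {C : Type u} [Category.{v} C] {D : Type u₂} [Category.{v₂} D] (u : C ⥤ D)
  (𝒮 : BasedCategory.{v₃, u₃} C)

theorem uppR_mk {a b : UppObj u 𝒮} (f : a ⟶ b)
    (h1 : 𝒮.p.IsStronglyCartesian (𝒮.p.map f.top) f.top) (h2 : IsIso f.bot) : uppR u 𝒮 f :=
  And.intro h1 h2

theorem uppR_sc {a b : UppObj u 𝒮} {f : a ⟶ b} (h : uppR u 𝒮 f) :
    𝒮.p.IsStronglyCartesian (𝒮.p.map f.top) f.top := And.left h

theorem uppR_iso {a b : UppObj u 𝒮} {f : a ⟶ b} (h : uppR u 𝒮 f) : IsIso f.bot := And.right h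

instance uppR_isMultiplicative : (uppR u 𝒮).IsMultiplicative where
  id_mem a := uppR_mk u 𝒮 (𝟙 a) (sc_iso 𝒮.p (𝟙 a.x)) (inferInstanceAs (IsIso (𝟙 a.V)))
  comp_mem f g hf hg := uppR_mk u 𝒮 (f ≫ g)
    (sc_comp 𝒮.p f.top g.top (uppR_sc u 𝒮 hf) (uppR_sc u 𝒮 hg))
    (by haveI := uppR_iso u 𝒮 hf; haveI := uppR_iso u 𝒮 hg
        exact inferInstanceAs (IsIso (f.bot ≫ g.bot)))

theorem ore_aux {a b b' : UppObj u 𝒮} (f : a ⟶ b') (s : b ⟶ b') (hs : uppR u 𝒮 s)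
    {P : C} {fst : P ⟶ 𝒮.p.obj a.x} {snd : P ⟶ 𝒮.p.obj b.x}
    (hP : IsPullback fst snd (𝒮.p.map f.top) (𝒮.p.map s.top))
    (hUP : IsPullback (u.map fst) (u.map snd) (u.map (𝒮.p.map f.top)) (u.map (𝒮.p.map s.top)))
    {x' : 𝒮.obj} (τ : x' ⟶ a.x) [hτ : 𝒮.p.IsStronglyCartesian fst τ] :
    ∃ (a' : UppObj u 𝒮) (t : a' ⟶ a) (g : a' ⟶ b), uppR u 𝒮 t ∧ t ≫ f = g ≫ s := by
  have hdom : 𝒮.p.obj x' = P := IsHomLift.domain_eq 𝒮.p fst τ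
  subst hdom
  obtain rfl : fst = 𝒮.p.map τ := IsHomLift.eq_of_isHomLift 𝒮.p fst τ
  haveI hs1 : 𝒮.p.IsStronglyCartesian (𝒮.p.map s.top) s.top := uppR_sc u 𝒮 hs
  haveI hs2 : IsIso s.bot := uppR_iso u 𝒮 hs
  have hw : 𝒮.p.map τ ≫ 𝒮.p.map f.top = snd ≫ 𝒮.p.map s.top := hP.w
  haveI hl : 𝒮.p.IsHomLift (snd ≫ 𝒮.p.map s.top) (τ ≫ f.top) := by
    rw [← hw, ← Functor.map_comp]; exact IsHomLift.map 𝒮.p _
  obtain ⟨γ, hγ⟩ : ∃ γ : x' ⟶ b.x, γ = Functor.IsStronglyCartesian.map 𝒮.p (𝒮.p.map s.top) s.top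
      (rfl : snd ≫ 𝒮.p.map s.top = snd ≫ 𝒮.p.map s.top) (τ ≫ f.top) := ⟨_, rfl⟩
  have hγ1 : γ ≫ s.top = τ ≫ f.top := by
    rw [hγ]; exact Functor.IsStronglyCartesian.fac 𝒮.p _ _ _ _
  have hγ2 : 𝒮.p.IsHomLift snd γ := by
    rw [hγ]; exact Functor.IsStronglyCartesian.map_isHomLift 𝒮.p _ _ _ _
  have hγ3 : 𝒮.p.map γ = snd := map_eq_of_isHomLift 𝒮.p γ snd hγ2
  have hcond : a.φ ≫ u.map (𝒮.p.map f.top) =
      ((f.bot ≫ inv s.bot) ≫ b.φ) ≫ u.map (𝒮.p.map s.top) := by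
    rw [f.w]; simp only [Category.assoc]; rw [s.w, IsIso.inv_hom_id_assoc]
  refine ⟨⟨x', a.V, hUP.lift a.φ ((f.bot ≫ inv s.bot) ≫ b.φ) hcond⟩,
    ⟨τ, 𝟙 a.V, ?_⟩, ⟨γ, f.bot ≫ inv s.bot, ?_⟩, ?_, ?_⟩
  · show hUP.lift _ _ hcond ≫ u.map (𝒮.p.map τ) = 𝟙 a.V ≫ a.φ
    rw [Category.id_comp]; exact hUP.lift_fst _ _ _
  · show hUP.lift _ _ hcond ≫ u.map (𝒮.p.map γ) = (f.bot ≫ inv s.bot) ≫ b.φ
    rw [hγ3]; exact hUP.lift_snd _ _ _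
  · exact uppR_mk u 𝒮 _ hτ (inferInstanceAs (IsIso (𝟙 a.V)))
  · exact UppObj.hom_ext hγ1.symm
      (by show 𝟙 a.V ≫ f.bot = (f.bot ≫ inv s.bot) ≫ s.bot; simp)

theorem ext_aux {a b b' : UppObj u 𝒮} (f₁ f₂ : a ⟶ b) (s : b ⟶ b') (hs : uppR u 𝒮 s)
    (h : f₁ ≫ s = f₂ ≫ s) {E : C} {ι : E ⟶ 𝒮.p.obj a.x}
    (w : ι ≫ 𝒮.p.map f₁.top = ι ≫ 𝒮.p.map f₂.top)
    (hl : ∀ (W : D) (k : W ⟶ u.obj (𝒮.p.obj a.x)),
      k ≫ u.map (𝒮.p.map f₁.top) = k ≫ u.map (𝒮.p.map f₂.top) →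
        ∃ l : W ⟶ u.obj E, l ≫ u.map ι = k)
    {x' : 𝒮.obj} (τ : x' ⟶ a.x) [hτ : 𝒮.p.IsStronglyCartesian ι τ] :
    ∃ (a' : UppObj u 𝒮) (t : a' ⟶ a), uppR u 𝒮 t ∧ t ≫ f₁ = t ≫ f₂ := by
  have hdom : 𝒮.p.obj x' = E := IsHomLift.domain_eq 𝒮.p ι τ
  subst hdom
  obtain rfl : ι = 𝒮.p.map τ := IsHomLift.eq_of_isHomLift 𝒮.p ι τ
  haveI hs1 : 𝒮.p.IsStronglyCartesian (𝒮.p.map s.top) s.top := uppR_sc u 𝒮 hs
  haveI hs2 : IsIso s.bot := uppR_iso u 𝒮 hs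
  have hbot : f₁.bot = f₂.bot := by
    have hb : f₁.bot ≫ s.bot = f₂.bot ≫ s.bot := congrArg UppObj.Hom.bot h
    exact (cancel_mono s.bot).1 hb
  have htop : f₁.top ≫ s.top = f₂.top ≫ s.top := congrArg UppObj.Hom.top h
  obtain ⟨l, hl'⟩ := hl a.V a.φ (by rw [f₁.w, f₂.w, hbot])
  have hmap : 𝒮.p.map (τ ≫ f₁.top) = 𝒮.p.map (τ ≫ f₂.top) := by
    rw [Functor.map_comp, Functor.map_comp]; exact w
  haveI i1 : 𝒮.p.IsHomLift (𝒮.p.map (τ ≫ f₁.top)) (τ ≫ f₁.top) := IsHomLift.map 𝒮.p _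
  haveI i2 : 𝒮.p.IsHomLift (𝒮.p.map (τ ≫ f₁.top)) (τ ≫ f₂.top) := by
    rw [hmap]; exact IsHomLift.map 𝒮.p _
  have key : τ ≫ f₁.top = τ ≫ f₂.top :=
    Functor.IsStronglyCartesian.ext 𝒮.p (𝒮.p.map s.top) s.top (𝒮.p.map (τ ≫ f₁.top))
      (by rw [Category.assoc, Category.assoc, htop])
  refine ⟨⟨x', a.V, l⟩, ⟨τ, 𝟙 a.V, ?_⟩, ?_, ?_⟩
  · show l ≫ u.map (𝒮.p.map τ) = 𝟙 a.V ≫ a.φ
    rw [Category.id_comp]; exact hl'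
  · exact uppR_mk u 𝒮 _ hτ (inferInstanceAs (IsIso (𝟙 a.V)))
  · exact UppObj.hom_ext key (by show 𝟙 a.V ≫ f₁.bot = 𝟙 a.V ≫ f₂.bot; rw [hbot])

/-- S12812: `R` has a right calculus of fractions. -/
theorem hasRightCalc [𝒮.p.IsFibered]
    (hC : ∀ (I : Type) [SmallCategory I] [FinCategory I], Nonempty I → HasLimitsOfShape I C)
    (hu : ∀ (I : Type) [SmallCategory I] [FinCategory I], Nonempty I →
      PreservesLimitsOfShape I u) :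
    (uppR u 𝒮).HasRightCalculusOfFractions := by
  haveI : HasLimitsOfShape WalkingCospan C := hC WalkingCospan ⟨WalkingCospan.one⟩
  haveI : HasLimitsOfShape WalkingParallelPair C :=
    hC WalkingParallelPair ⟨WalkingParallelPair.zero⟩
  haveI : PreservesLimitsOfShape WalkingCospan u := hu WalkingCospan ⟨WalkingCospan.one⟩
  haveI : PreservesLimitsOfShape WalkingParallelPair u :=
    hu WalkingParallelPair ⟨WalkingParallelPair.zero⟩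
  refine { exists_rightFraction := ?_, ext := ?_ }
  · intro X Y φ
    have hP := IsPullback.of_hasPullback (𝒮.p.map φ.f.top) (𝒮.p.map φ.s.top)
    have hUP := hP.map u
    obtain ⟨a', t, g, ht, e⟩ := ore_aux u 𝒮 φ.f φ.s φ.hs hP hUP
      (Functor.IsPreFibered.pullbackMap (p := 𝒮.p) (rfl : 𝒮.p.obj X.x = 𝒮.p.obj X.x)
        (pullback.fst (𝒮.p.map φ.f.top) (𝒮.p.map φ.s.top)))
    exact ⟨⟨t, ht, g⟩, e⟩
  · intro X Y Y' f₁ f₂ s hs h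
    have hlim := isLimitForkMapOfIsLimit u
      (equalizer.condition (𝒮.p.map f₁.top) (𝒮.p.map f₂.top)) (equalizerIsEqualizer _ _)
    obtain ⟨a', t, ht, e⟩ := ext_aux u 𝒮 f₁ f₂ s hs h
      (equalizer.condition (𝒮.p.map f₁.top) (𝒮.p.map f₂.top))
      (fun W k hk => ⟨(Fork.IsLimit.lift' hlim k hk).1, (Fork.IsLimit.lift' hlim k hk).2⟩)
      (Functor.IsPreFibered.pullbackMap (p := 𝒮.p) (rfl : 𝒮.p.obj X.x = 𝒮.p.obj X.x)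
        (equalizer.ι (𝒮.p.map f₁.top) (𝒮.p.map f₂.top)))
    exact ⟨a', t, ht, e⟩

/-- the structure functor of `u_p 𝒮` -/
noncomputable abbrev pp : (uppR u 𝒮).Localization ⥤ D :=
  Localization.Construction.lift (UppObj.forget u 𝒮) (uppR_isInvertedBy u 𝒮)

theorem pp_map_Q {a b : UppObj u 𝒮} (f : a ⟶ b) :
    (pp u 𝒮).map ((uppR u 𝒮).Q.map f) = f.bot := by
  exact Category.id_comp f.bot

/-- the source of the canonical lift of `g : V' ⟶ a.V` -/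
@[simps, reducible] def aobj (a : UppObj u 𝒮) {V' : D} (g : V' ⟶ a.V) : UppObj u 𝒮 :=
  ⟨a.x, V', g ≫ a.φ⟩

/-- the canonical lift of `g : V' ⟶ a.V` -/
@[simps] def kap (a : UppObj u 𝒮) {V' : D} (g : V' ⟶ a.V) : aobj u 𝒮 a g ⟶ a :=
  ⟨𝟙 a.x, g, by
    show (g ≫ a.φ) ≫ u.map (𝒮.p.map (𝟙 a.x)) = g ≫ a.φ
    rw [CategoryTheory.Functor.map_id, CategoryTheory.Functor.map_id, Category.comp_id]⟩

section Loc
variable [𝒮.p.IsFibered]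
  (hC : ∀ (I : Type) [SmallCategory I] [FinCategory I], Nonempty I → HasLimitsOfShape I C)
  (hu : ∀ (I : Type) [SmallCategory I] [FinCategory I], Nonempty I →
    PreservesLimitsOfShape I u)
include hC hu

theorem uniq_aux (a : UppObj u 𝒮) {V' : D} (g : V' ⟶ a.V) (c : UppObj u 𝒮)
    (χ₁ χ₂ : (uppR u 𝒮).Q.obj c ⟶ (uppR u 𝒮).Q.obj (aobj u 𝒮 a g))
    (hp : (pp u 𝒮).map χ₁ = (pp u 𝒮).map χ₂)
    (hk : χ₁ ≫ (uppR u 𝒮).Q.map (kap u 𝒮 a g) = χ₂ ≫ (uppR u 𝒮).Q.map (kap u 𝒮 a g)) :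
    χ₁ = χ₂ := by
  haveI := hasRightCalc u 𝒮 hC hu
  have hinv := Localization.inverts (uppR u 𝒮).Q (uppR u 𝒮)
  obtain ⟨ρ₁, hρ₁⟩ := Localization.exists_rightFraction (uppR u 𝒮).Q (uppR u 𝒮) χ₁
  obtain ⟨ρ₂, hρ₂⟩ := Localization.exists_rightFraction (uppR u 𝒮).Q (uppR u 𝒮)
    ((uppR u 𝒮).Q.map ρ₁.s ≫ χ₂)
  haveI hs1 : IsIso ((uppR u 𝒮).Q.map ρ₁.s) := hinv ρ₁.s ρ₁.hs
  haveI hs2 : IsIso ((uppR u 𝒮).Q.map ρ₂.s) := hinv ρ₂.s ρ₂.hs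
  have e1 : (uppR u 𝒮).Q.map ρ₁.s ≫ χ₁ = (uppR u 𝒮).Q.map ρ₁.f := by
    have := ρ₁.map_s_comp_map (uppR u 𝒮).Q hinv
    rwa [← hρ₁] at this
  have e2 : (uppR u 𝒮).Q.map ρ₂.s ≫ (uppR u 𝒮).Q.map ρ₁.s ≫ χ₂ = (uppR u 𝒮).Q.map ρ₂.f := by
    have := ρ₂.map_s_comp_map (uppR u 𝒮).Q hinv
    rwa [← hρ₂] at this
  obtain ⟨h₁, hh₁⟩ : ∃ h₁ : ρ₂.X' ⟶ aobj u 𝒮 a g, h₁ = ρ₂.s ≫ ρ₁.f := ⟨_, rfl⟩
  have e1' : (uppR u 𝒮).Q.map ρ₂.s ≫ (uppR u 𝒮).Q.map ρ₁.s ≫ χ₁ = (uppR u 𝒮).Q.map h₁ := by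
    rw [e1, hh₁, Functor.map_comp]
  have hb : h₁.bot = ρ₂.f.bot := by
    have a1 := congrArg (fun m => (pp u 𝒮).map m) e1'
    have a2 := congrArg (fun m => (pp u 𝒮).map m) e2
    simp only [Functor.map_comp, pp_map_Q] at a1 a2
    rw [← a1, ← a2, hp]
  have hκeq : (uppR u 𝒮).Q.map (h₁ ≫ kap u 𝒮 a g) =
      (uppR u 𝒮).Q.map (ρ₂.f ≫ kap u 𝒮 a g) := by
    rw [Functor.map_comp, Functor.map_comp, ← e1', ← e2]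
    simp only [Category.assoc]
    rw [hk]
  obtain ⟨c₃, s₃, hs₃, eq3⟩ :=
    (MorphismProperty.map_eq_iff_precomp (uppR u 𝒮).Q (uppR u 𝒮) _ _).1 hκeq
  have t3 : s₃.top ≫ h₁.top = s₃.top ≫ ρ₂.f.top := by
    have := congrArg UppObj.Hom.top eq3
    simpa using this
  have e : s₃ ≫ h₁ = s₃ ≫ ρ₂.f :=
    UppObj.hom_ext t3 (by show s₃.bot ≫ h₁.bot = s₃.bot ≫ ρ₂.f.bot; rw [hb])
  have key : (uppR u 𝒮).Q.map h₁ = (uppR u 𝒮).Q.map ρ₂.f :=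
    (MorphismProperty.map_eq_iff_precomp (uppR u 𝒮).Q (uppR u 𝒮) _ _).2 ⟨c₃, s₃, hs₃, e⟩
  have fin : (uppR u 𝒮).Q.map ρ₂.s ≫ (uppR u 𝒮).Q.map ρ₁.s ≫ χ₁ =
      (uppR u 𝒮).Q.map ρ₂.s ≫ (uppR u 𝒮).Q.map ρ₁.s ≫ χ₂ := e1'.trans (key.trans e2.symm)
  exact (cancel_epi ((uppR u 𝒮).Q.map ρ₁.s)).1 ((cancel_epi ((uppR u 𝒮).Q.map ρ₂.s)).1 fin)

theorem exists_lift_aux (a : UppObj u 𝒮) {V' : D} (g : V' ⟶ a.V) (c : UppObj u 𝒮)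
    (g' : c.V ⟶ V') (φ' : (uppR u 𝒮).Q.obj c ⟶ (uppR u 𝒮).Q.obj a)
    (h : (pp u 𝒮).map φ' = g' ≫ g) :
    ∃ χ : (uppR u 𝒮).Q.obj c ⟶ (uppR u 𝒮).Q.obj (aobj u 𝒮 a g),
      (pp u 𝒮).map χ = g' ∧ χ ≫ (uppR u 𝒮).Q.map (kap u 𝒮 a g) = φ' := by
  haveI := hasRightCalc u 𝒮 hC hu
  have hinv := Localization.inverts (uppR u 𝒮).Q (uppR u 𝒮)
  obtain ⟨ρ, hρ⟩ := Localization.exists_rightFraction (uppR u 𝒮).Q (uppR u 𝒮) φ'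
  haveI hsi : IsIso ((uppR u 𝒮).Q.map ρ.s) := hinv ρ.s ρ.hs
  haveI hsb : IsIso ρ.s.bot := uppR_iso u 𝒮 ρ.hs
  have e1 : (uppR u 𝒮).Q.map ρ.s ≫ φ' = (uppR u 𝒮).Q.map ρ.f := by
    have := ρ.map_s_comp_map (uppR u 𝒮).Q hinv
    rwa [← hρ] at this
  have e2 : ρ.s.bot ≫ g' ≫ g = ρ.f.bot := by
    have a1 := congrArg (fun m => (pp u 𝒮).map m) e1
    simp only [Functor.map_comp, pp_map_Q] at a1
    rw [h] at a1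
    exact a1
  obtain ⟨f', hf't, hf'b⟩ : ∃ f' : ρ.X' ⟶ aobj u 𝒮 a g,
      f'.top = ρ.f.top ∧ f'.bot = ρ.s.bot ≫ g' :=
    ⟨⟨ρ.f.top, ρ.s.bot ≫ g', by
      show ρ.X'.φ ≫ u.map (𝒮.p.map ρ.f.top) = (ρ.s.bot ≫ g') ≫ g ≫ a.φ
      rw [ρ.f.w, ← e2]; simp only [Category.assoc]⟩, rfl, rfl⟩
  have hf'κ : f' ≫ kap u 𝒮 a g = ρ.f :=
    UppObj.hom_ext (by show f'.top ≫ 𝟙 a.x = ρ.f.top; rw [hf't, Category.comp_id])
      (by show f'.bot ≫ g = ρ.f.bot; rw [hf'b, Category.assoc, e2])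
  obtain ⟨χ, hχ⟩ : ∃ χ : (uppR u 𝒮).Q.obj c ⟶ (uppR u 𝒮).Q.obj (aobj u 𝒮 a g),
      χ = inv ((uppR u 𝒮).Q.map ρ.s) ≫ (uppR u 𝒮).Q.map f' := ⟨_, rfl⟩
  have e3 : (uppR u 𝒮).Q.map ρ.s ≫ χ = (uppR u 𝒮).Q.map f' := by
    rw [hχ]; exact IsIso.hom_inv_id_assoc _ _
  refine ⟨χ, ?_, ?_⟩
  · have a3 := congrArg (fun m => (pp u 𝒮).map m) e3
    simp only [Functor.map_comp, pp_map_Q] at a3
    rw [hf'b] at a3
    exact (cancel_epi ρ.s.bot).1 a3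
  · rw [hχ, Category.assoc, ← Functor.map_comp, hf'κ, IsIso.inv_comp_eq, e1]

theorem kap_sc (a : UppObj u 𝒮) {V' : D} (g : V' ⟶ a.V) :
    (pp u 𝒮).IsStronglyCartesian g ((uppR u 𝒮).Q.map (kap u 𝒮 a g)) := by
  have hκ : (pp u 𝒮).IsHomLift g ((uppR u 𝒮).Q.map (kap u 𝒮 a g)) :=
    isHomLift_of_map_eq (pp u 𝒮) ((uppR u 𝒮).Q.map (kap u 𝒮 a g)) g (pp_map_Q u 𝒮 (kap u 𝒮 a g))
  refine { toIsHomLift := hκ, universal_property' := ?_ }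
  intro a' g' φ' hφ'
  obtain ⟨c, rfl⟩ := (Localization.Construction.objEquiv (uppR u 𝒮)).surjective a'
  have h : (pp u 𝒮).map φ' = g' ≫ g := map_eq_of_isHomLift (pp u 𝒮) φ' (g' ≫ g) hφ'
  obtain ⟨χ, hχ1, hχ2⟩ := exists_lift_aux u 𝒮 hC hu a g c g' φ' h
  refine ⟨χ, ⟨isHomLift_of_map_eq (pp u 𝒮) χ g' hχ1, hχ2⟩, ?_⟩
  rintro χ' ⟨hχ'1, hχ'2⟩
  have h' : (pp u 𝒮).map χ' = g' := map_eq_of_isHomLift (pp u 𝒮) χ' g' hχ'1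
  exact uniq_aux u 𝒮 hC hu a g c χ' χ (h'.trans hχ1.symm) (hχ'2.trans hχ2.symm)

theorem pp_isFibered : (pp u 𝒮).IsFibered :=
  Functor.IsFibered.of_exists_isStronglyCartesian (fun x R f => by
    obtain ⟨a, rfl⟩ := (Localization.Construction.objEquiv (uppR u 𝒮)).surjective x
    exact ⟨(uppR u 𝒮).Q.obj (aobj u 𝒮 a f), (uppR u 𝒮).Q.map (kap u 𝒮 a f),
      kap_sc u 𝒮 hC hu a f⟩)

/-- S12813 -/
theorem up_isFibered : (Stk.up u 𝒮).p.IsFibered := pp_isFibered u 𝒮 hC hu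

end Loc

section Grpd
variable (h𝒮 : FibCat.IsFibGrpd 𝒮.p)
  (hC : ∀ (I : Type) [SmallCategory I] [FinCategory I], Nonempty I → HasLimitsOfShape I C)
  (hu : ∀ (I : Type) [SmallCategory I] [FinCategory I], Nonempty I →
    PreservesLimitsOfShape I u)
include h𝒮 hC hu

theorem sc_all (c a : UppObj u 𝒮) (φ : (uppR u 𝒮).Q.obj c ⟶ (uppR u 𝒮).Q.obj a) :
    (pp u 𝒮).IsStronglyCartesian ((pp u 𝒮).map φ) φ := by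
  haveI : 𝒮.p.IsFibered := isFibered_of_isFibGrpd 𝒮.p h𝒮
  haveI := hasRightCalc u 𝒮 hC hu
  have hinv := Localization.inverts (uppR u 𝒮).Q (uppR u 𝒮)
  obtain ⟨ρ, hρ⟩ := Localization.exists_rightFraction (uppR u 𝒮).Q (uppR u 𝒮) φ
  haveI hsi : IsIso ((uppR u 𝒮).Q.map ρ.s) := hinv ρ.s ρ.hs
  have e1 : (uppR u 𝒮).Q.map ρ.s ≫ φ = (uppR u 𝒮).Q.map ρ.f := by
    have := ρ.map_s_comp_map (uppR u 𝒮).Q hinv
    rwa [← hρ] at this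
  obtain ⟨m, hmt, hmb⟩ : ∃ m : ρ.X' ⟶ aobj u 𝒮 a ρ.f.bot,
      m.top = ρ.f.top ∧ m.bot = 𝟙 ρ.X'.V :=
    ⟨⟨ρ.f.top, 𝟙 ρ.X'.V, by
      show ρ.X'.φ ≫ u.map (𝒮.p.map ρ.f.top) = 𝟙 ρ.X'.V ≫ ρ.f.bot ≫ a.φ
      rw [Category.id_comp]; exact ρ.f.w⟩, rfl, rfl⟩
  have hm : uppR u 𝒮 m := uppR_mk u 𝒮 m
    (by rw [hmt]; exact h𝒮.isStronglyCartesian ρ.f.top) (by rw [hmb]; infer_instance)
  haveI hmi : IsIso ((uppR u 𝒮).Q.map m) := hinv m hm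
  have hfac : m ≫ kap u 𝒮 a ρ.f.bot = ρ.f :=
    UppObj.hom_ext (by show m.top ≫ 𝟙 a.x = ρ.f.top; rw [hmt, Category.comp_id])
      (by show m.bot ≫ ρ.f.bot = ρ.f.bot; rw [hmb, Category.id_comp])
  have hφ : φ = inv ((uppR u 𝒮).Q.map ρ.s) ≫ (uppR u 𝒮).Q.map m ≫
      (uppR u 𝒮).Q.map (kap u 𝒮 a ρ.f.bot) := by
    rw [← Functor.map_comp, hfac, IsIso.eq_inv_comp, e1]
  rw [hφ]
  refine sc_comp _ _ _ (sc_iso _ _) (sc_comp _ _ _ (sc_iso _ _) ?_)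
  rw [pp_map_Q]
  exact kap_sc u 𝒮 hC hu a ρ.f.bot

theorem pp_isFibGrpd : FibCat.IsFibGrpd (pp u 𝒮) := by
  haveI : 𝒮.p.IsFibered := isFibered_of_isFibGrpd 𝒮.p h𝒮
  refine { exists_lift := ?_, isStronglyCartesian := ?_ }
  · intro x V f
    obtain ⟨a, rfl⟩ := (Localization.Construction.objEquiv (uppR u 𝒮)).surjective x
    exact ⟨(uppR u 𝒮).Q.obj (aobj u 𝒮 a f), (uppR u 𝒮).Q.map (kap u 𝒮 a f),
      isHomLift_of_map_eq (pp u 𝒮) ((uppR u 𝒮).Q.map (kap u 𝒮 a f)) f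
        (pp_map_Q u 𝒮 (kap u 𝒮 a f))⟩
  · intro y x φ
    obtain ⟨c, rfl⟩ := (Localization.Construction.objEquiv (uppR u 𝒮)).surjective y
    obtain ⟨a, rfl⟩ := (Localization.Construction.objEquiv (uppR u 𝒮)).surjective x
    exact sc_all u 𝒮 h𝒮 hC hu c a φ

/-- S12814 -/
theorem up_isFibGrpd : FibCat.IsFibGrpd (Stk.up u 𝒮).p := pp_isFibGrpd u 𝒮 h𝒮 hC hu

end Grpd

end Groth.Agent.H88.Upp
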