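import Mathlib
import Groth.Prelude.Def_GrTwist
import Groth.Agent.H18.Veronese
import Groth.Agent.H88.BCTwInj
import Groth.Agent.H62.BCTw_G1
import Groth.Agent.H20.VerTw_OP
import Groth.Agent.H64.VerTw_O
import Groth.Agent.S3546

/-!
# Twisting sheaves under the Veronese isomorphism (S9577; helper88)
-/

set_option autoImplicit false
universe u
open CategoryTheory CategoryTheory.Limits AlgebraicGeometry Opposite TopologicalSpace TensorProduct
open Groth.Agent.H18.Veronese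
open Groth.Agent.H41.GrModQCoh (rval)
open Groth.Agent.H88.BCTw Groth.Agent.H88.BCTwInj

namespace Groth.Agent.H88.VerTw

variable {R A B : Type u} [CommRing R] [CommRing A] [Algebra R A] {𝒜 : ℕ → Submodule R A}
  [GradedAlgebra 𝒜] [CommRing B] [Algebra R B] {ℬ : ℕ → Submodule R B} [GradedAlgebra ℬ]
  {d : ℕ} (hd : 0 < d) (φ : B →ₐ[R] A)
  (hdeg : ∀ n : ℕ, Submodule.map φ.toLinearMap (ℬ n) = 𝒜 (n * d))

/-- the map of localizations `B_{i(y)} → A_y` -/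
noncomputable def locV (y : ProjectiveSpectrum 𝒜) :
    GrTwist.Loc ℬ ((vMap φ hdeg hd).base y) →+* GrTwist.Loc 𝒜 y :=
  Localization.localRingHom _ _ φ.toRingHom (vMap_base φ hdeg hd y)

theorem map_notMem (y : ProjectiveSpectrum 𝒜) {s : B}
    (hs : s ∉ ((vMap φ hdeg hd).base y).asHomogeneousIdeal) : φ s ∉ y.asHomogeneousIdeal := by
  intro h
  apply hs
  have := vMap_base φ hdeg hd y
  show s ∈ ((vMap φ hdeg hd).base y).asHomogeneousIdeal.toIdeal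
  rw [this]
  exact h

theorem locV_mk (y : ProjectiveSpectrum 𝒜) (b : B)
    (s : ((vMap φ hdeg hd).base y).asHomogeneousIdeal.toIdeal.primeCompl) :
    locV hd φ hdeg y (Localization.mk b s) =
      Localization.mk (φ b) ⟨φ (s : B), map_notMem hd φ hdeg y s.2⟩ := by
  rw [Localization.mk_eq_mk', Localization.mk_eq_mk']
  exact Localization.localRingHom_mk' _ _ _ _ b s

theorem locV_mem (n : ℤ) (y : ProjectiveSpectrum 𝒜)
    {q : GrTwist.Loc ℬ ((vMap φ hdeg hd).base y)}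
    (hq : q ∈ GrTwist.twistAt ℬ n ((vMap φ hdeg hd).base y)) :
    locV hd φ hdeg y q ∈ GrTwist.twistAt 𝒜 (n * d) y := by
  induction hq using Submodule.span_induction with
  | mem q h =>
    obtain ⟨i, j, a, s, hs, hij, rfl⟩ := h
    rw [locV_mk]
    refine Submodule.subset_span ⟨i * d, j * d, ⟨φ (a : B), phi_mem φ hdeg a.2⟩,
      ⟨φ (s : B), phi_mem φ hdeg s.2⟩, map_notMem hd φ hdeg y hs, ?_, rfl⟩
    push_cast
    rw [hij]; ring
  | zero => rw [map_zero]; exact zero_mem _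
  | add q q' _ _ h h' => rw [map_add]; exact add_mem h h'
  | smul c q _ h =>
    rw [Algebra.smul_def, map_mul, HomogeneousLocalization.algebraMap_apply]
    have hc : ∃ c' : GrTwist.A0 𝒜 y, c'.val = locV hd φ hdeg y c.val := by
      refine ⟨HomogeneousLocalization.mk ⟨c.deg * d, ⟨φ c.num, phi_mem φ hdeg c.num_mem_deg⟩,
        ⟨φ c.den, phi_mem φ hdeg c.den_mem_deg⟩, map_notMem hd φ hdeg y c.den_mem⟩, ?_⟩
      rw [HomogeneousLocalization.val_mk, c.eq_num_div_den, locV_mk]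
    obtain ⟨c', hc'⟩ := hc
    rw [← hc', ← HomogeneousLocalization.algebraMap_apply, ← Algebra.smul_def]
    exact Submodule.smul_mem _ _ h

/-- (O) `vMap` on sections, pointwise (helper64 + helper20). -/
theorem rval_vMap_app (U : (Proj ℬ).Opens) (r : Γ(Proj ℬ, U)) (y : ↥(vMap φ hdeg hd ⁻¹ᵁ U)) :
    (rval 𝒜 ((vMap φ hdeg hd).app U r) y).val =
      locV hd φ hdeg y.1 (rval ℬ r ⟨(vMap φ hdeg hd).base y.1, y.2⟩).val :=
  Groth.Agent.H64.VerTw_O.rval_vMap_app_of hd φ hdeg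
    (fun hn hg hle => Groth.Agent.H20.VerTw_OP.awayToSection_comp_appLE_vMap hd φ hdeg hn hg hle)
    U r y

variable (n : ℤ) (U : (Proj ℬ).Opens)

/-- pointwise comparison of dependent functions -/
noncomputable def kFun (s : ∀ x : U, GrTwist.twistAt ℬ n x.1)
    (y : ↥(vMap φ hdeg hd ⁻¹ᵁ U)) : GrTwist.twistAt 𝒜 (n * d) y.1 :=
  ⟨locV hd φ hdeg y.1 (s ⟨(vMap φ hdeg hd).base y.1, y.2⟩).1,
    locV_mem hd φ hdeg n y.1 (s ⟨(vMap φ hdeg hd).base y.1, y.2⟩).2⟩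

theorem isLocFracN_kFun (s : ∀ x : U, GrTwist.twistAt ℬ n x.1)
    (hs : (GrTwist.isLocFracN ℬ n).pred s) :
    (GrTwist.isLocFracN 𝒜 (n * d)).pred (kFun hd φ hdeg n U s) := by
  rintro ⟨y, hyV⟩
  rcases hs ⟨(vMap φ hdeg hd).base y, hyV⟩ with ⟨W, m, iWU, i, j, a, b, hb, hij, h_frac⟩
  refine ⟨(vMap φ hdeg hd ⁻¹ᵁ W) ⊓ (vMap φ hdeg hd ⁻¹ᵁ U), ⟨m, hyV⟩, Opens.infLERight _ _, i * d,
    j * d, ⟨φ (a : B), phi_mem φ hdeg a.2⟩, ⟨φ (b : B), phi_mem φ hdeg b.2⟩,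
    fun z => map_notMem hd φ hdeg z.1 (hb ⟨_, z.2.1⟩), ?_, fun z => ?_⟩
  · rcases hij with hij | h
    · refine Or.inl ?_
      push_cast
      rw [hij]; ring
    · exact Or.inr (show φ (a : B) = 0 by rw [h, map_zero])
  · exact (congrArg (locV hd φ hdeg z.1) (h_frac ⟨_, z.2.1⟩)).trans (locV_mk hd φ hdeg _ _ _)

/-- the comparison on sections, as an additive map -/
noncomputable def kApp : GrTwist.sectN (𝒜 := ℬ) n (op U) →+
    GrTwist.sectN (𝒜 := 𝒜) (n * d) (op (vMap φ hdeg hd ⁻¹ᵁ U)) where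
  toFun s := ⟨kFun hd φ hdeg n U s.1, isLocFracN_kFun hd φ hdeg n U s.1 s.2⟩
  map_zero' := by
    refine Subtype.ext (funext fun y => Subtype.ext ?_)
    exact map_zero (locV hd φ hdeg y.1)
  map_add' s t := by
    refine Subtype.ext (funext fun y => Subtype.ext ?_)
    exact map_add (locV hd φ hdeg y.1) _ _

theorem kApp_apply_coe (s : GrTwist.sectN (𝒜 := ℬ) n (op U)) (y : ↥(vMap φ hdeg hd ⁻¹ᵁ U)) :
    (((kApp hd φ hdeg n U s).1 y : GrTwist.twistAt 𝒜 (n * d) y.1) : GrTwist.Loc 𝒜 y.1) =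
      locV hd φ hdeg y.1 (s.1 ⟨(vMap φ hdeg hd).base y.1, y.2⟩).1 := rfl

/-- `vMap` on sections, with the types the Prelude's module structure expects -/
noncomputable def vApp (r : GrTwist.O (𝒜 := ℬ) (op U)) :
    GrTwist.O (𝒜 := 𝒜) (op (vMap φ hdeg hd ⁻¹ᵁ U)) :=
  (vMap φ hdeg hd).app U r

theorem kApp_smul (r : GrTwist.O (𝒜 := ℬ) (op U)) (s : GrTwist.sectN (𝒜 := ℬ) n (op U)) :
    kApp hd φ hdeg n U (r • s) = vApp hd φ hdeg U r • kApp hd φ hdeg n U s := by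
  refine Subtype.ext (funext fun y => Subtype.ext ?_)
  have h1 : ∀ x : U, (((r • s : GrTwist.sectN (𝒜 := ℬ) n (op U)).1 x :
      GrTwist.twistAt ℬ n x.1) : GrTwist.Loc ℬ x.1) =
      (r.1 x).val * (s.1 x : GrTwist.Loc ℬ x.1) := fun x => GrTwist.coe_smul_val n x.1 _ (s.1 x)
  refine (congrArg (locV hd φ hdeg y.1) (h1 ⟨_, y.2⟩)).trans ?_
  refine (map_mul _ _ _).trans ?_
  refine Eq.trans ?_ (GrTwist.coe_smul_val (n * d) y.1 _ _).symm
  congr 1
  exact (rval_vMap_app hd φ hdeg U r y).symm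

/-- the comparison map `O_ℬ(n) ⟶ (vMap)_* O_𝒜(n d)` -/
noncomputable def kappa : GrTwist.twist ℬ n ⟶
    (Scheme.Modules.pushforward (vMap φ hdeg hd)).obj (GrTwist.twist 𝒜 (n * d)) :=
  ⟨PresheafOfModules.homMk
    { app := fun U => AddCommGrpCat.ofHom (kApp hd φ hdeg n U.unop)
      naturality := fun _ _ _ => rfl }
    fun U r s => kApp_smul hd φ hdeg n U.unop r s⟩

theorem kappa_val (s : Γ(GrTwist.twist ℬ n, U)) (y : ↥(vMap φ hdeg hd ⁻¹ᵁ U)) :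
    GrTwist.val (pushSec (vMap φ hdeg hd) (GrTwist.twist 𝒜 (n * d)) U
      ((kappa hd φ hdeg n).app U s)) y =
      locV hd φ hdeg y.1 (GrTwist.val s ⟨(vMap φ hdeg hd).base y.1, y.2⟩) := rfl

/-- semilinearity of `kappa`, as sections over the preimage -/
theorem kappa_smul (p : Γ(Proj ℬ, U)) (x : Γ(GrTwist.twist ℬ n, U)) :
    pushSec (vMap φ hdeg hd) (GrTwist.twist 𝒜 (n * d)) U ((kappa hd φ hdeg n).app U (p • x)) =
      ((vMap φ hdeg hd).app U p : Γ(Proj 𝒜, vMap φ hdeg hd ⁻¹ᵁ U)) •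
        pushSec (vMap φ hdeg hd) (GrTwist.twist 𝒜 (n * d)) U ((kappa hd φ hdeg n).app U x) := by
  refine sec_ext 𝒜 _ _ fun y => ?_
  rw [val_smul', kappa_val, kappa_val]
  have h1 := val_smul' ℬ p x ⟨(vMap φ hdeg hd).base y.1, y.2⟩
  refine (congrArg (locV hd φ hdeg y.1) h1).trans ?_
  rw [map_mul]
  congr 1
  exact (rval_vMap_app hd φ hdeg U p y).symm

section Alg

/-- a vanishing sum of pure tensors, when the base map is surjective and the module map injective -/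
theorem sumZero_of_surjective_of_injective {P S N G : Type*} [CommRing P] [CommRing S]
    [AddCommGroup N] [Module P N] [AddCommGroup G] [Module S G]
    (ρ : P →+* S) (hρ : Function.Surjective ρ) (α : N →+ G)
    (hα : ∀ (p : P) (x : N), α (p • x) = ρ p • α x) (hinj : ∀ x, α x = 0 → x = 0)
    {l : ℕ} (c : Fin l → S) (x : Fin l → N) (h0 : ∑ j, c j • α (x j) = 0) :
    Groth.Agent.H24.TensorStage.SumZero ρ c x := by
  unfold Groth.Agent.H24.TensorStage.SumZero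
  letI := ρ.toAlgebra
  choose p hp using fun j => hρ (c j)
  have h1 : ∑ j, p j • x j = 0 := by
    apply hinj
    rw [map_sum]
    simp only [hα, hp]
    exact h0
  calc ∑ j, c j ⊗ₜ[P] x j = ∑ j, (1 : S) ⊗ₜ[P] (p j • x j) := by
        refine Finset.sum_congr rfl fun j _ => ?_
        rw [← TensorProduct.smul_tmul, ← hp j, Algebra.smul_def, mul_one]; rfl
    _ = (1 : S) ⊗ₜ[P] ∑ j, p j • x j := (TensorProduct.tmul_sum _ _ _).symm
    _ = 0 := by rw [h1, tmul_zero]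

end Alg

section Chart

variable {k : ℕ} (hk : 0 < k) {g : B} (hg : g ∈ ℬ k)

include hk hg in
theorem mem_preimage_iff (y : Proj 𝒜) :
    y ∈ vMap φ hdeg hd ⁻¹ᵁ Proj.basicOpen ℬ g ↔ φ g ∉ y.asHomogeneousIdeal := by
  rw [vMap_preimage_basicOpen φ hdeg hd hk hg]
  exact ProjectiveSpectrum.mem_basicOpen 𝒜 (φ g) y

include hk hg in
theorem pow_notMem' (j : ℕ) (y : ↥(vMap φ hdeg hd ⁻¹ᵁ Proj.basicOpen ℬ g)) :
    φ g ^ j ∉ (y.1 : ProjectiveSpectrum 𝒜).asHomogeneousIdeal := fun h =>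
  (mem_preimage_iff hd φ hdeg hk hg y.1).mp y.2 (y.1.isPrime.mem_of_pow_mem j h)

/-- `kappa` on a fraction -/
theorem kappa_frac (j m : ℕ) (hm : (m : ℤ) = ((j * k : ℕ) : ℤ) + n) (b : B) (hb : b ∈ ℬ m)
    (y : ↥(vMap φ hdeg hd ⁻¹ᵁ Proj.basicOpen ℬ g)) :
    GrTwist.val (pushSec (vMap φ hdeg hd) (GrTwist.twist 𝒜 (n * d)) (Proj.basicOpen ℬ g)
      ((kappa hd φ hdeg n).app (Proj.basicOpen ℬ g) (frac ℬ n hg j m hm b hb))) y =
      Localization.mk (φ b) (⟨φ g ^ j, pow_notMem' hd φ hdeg hk hg j y⟩ :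
        (y.1 : ProjectiveSpectrum 𝒜).asHomogeneousIdeal.toIdeal.primeCompl) := by
  rw [kappa_val]
  have h1 := val_frac ℬ n hg j m hm b hb ⟨(vMap φ hdeg hd).base y.1, y.2⟩
  refine (congrArg (locV hd φ hdeg y.1) h1).trans ?_
  rw [locV_mk]
  congr 1
  exact Subtype.ext (map_pow φ g j)

/-- sections of `O_𝒜(N)` over the preimage of `D₊(g)` are fractions with denominator `(φ g)^j` -/
theorem exists_frac_preimage (N : ℤ)
    (t : Γ(GrTwist.twist 𝒜 N, vMap φ hdeg hd ⁻¹ᵁ Proj.basicOpen ℬ g)) :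
    ∃ (j m : ℕ) (_ : (m : ℤ) = ((j * (k * d) : ℕ) : ℤ) + N) (a : A) (_ : a ∈ 𝒜 m),
      ∀ y : ↥(vMap φ hdeg hd ⁻¹ᵁ Proj.basicOpen ℬ g), GrTwist.val t y =
        Localization.mk a (⟨φ g ^ j, pow_notMem' hd φ hdeg hk hg j y⟩ :
          (y.1 : ProjectiveSpectrum 𝒜).asHomogeneousIdeal.toIdeal.primeCompl) := by
  have hle : Proj.basicOpen 𝒜 (φ g) ≤ vMap φ hdeg hd ⁻¹ᵁ Proj.basicOpen ℬ g :=
    (vMap_preimage_basicOpen φ hdeg hd hk hg).ge
  have hge : vMap φ hdeg hd ⁻¹ᵁ Proj.basicOpen ℬ g ≤ Proj.basicOpen 𝒜 (φ g) :=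
    (vMap_preimage_basicOpen φ hdeg hd hk hg).le
  obtain ⟨j, m, hm, a, ha, ht⟩ := exists_frac 𝒜 N (Nat.mul_pos hk hd) (phi_mem φ hdeg hg)
    ((GrTwist.twist 𝒜 N).presheaf.map (homOfLE hle).op t)
  refine ⟨j, m, hm, a, ha, fun y => ?_⟩
  have h1 := congrArg (fun s => GrTwist.val s ⟨y.1, hge y.2⟩) ht
  exact h1

include hk hg in
/-- (hsurj) -/
theorem hsurj_chart (t : Γ(GrTwist.twist 𝒜 (n * d), vMap φ hdeg hd ⁻¹ᵁ Proj.basicOpen ℬ g)) :
    ∃ x : Γ(GrTwist.twist ℬ n, Proj.basicOpen ℬ g),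
      t = pushSec (vMap φ hdeg hd) (GrTwist.twist 𝒜 (n * d)) (Proj.basicOpen ℬ g)
        ((kappa hd φ hdeg n).app (Proj.basicOpen ℬ g) x) := by
  obtain ⟨j, m, hm, a, ha, ht⟩ := exists_frac_preimage hd φ hdeg hk hg (n * d) t
  -- `m = m' * d`
  have hnn : (0 : ℤ) ≤ ((j * k : ℕ) : ℤ) + n := by
    by_contra hcon
    push Not at hcon
    have h1 : (((j * k : ℕ) : ℤ) + n) * (d : ℤ) < 0 :=
      mul_neg_of_neg_of_pos hcon (by exact_mod_cast hd)
    have h2 : (m : ℤ) = (((j * k : ℕ) : ℤ) + n) * (d : ℤ) := by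
      rw [hm]; push_cast; ring
    have h3 : (0 : ℤ) ≤ (m : ℤ) := Int.natCast_nonneg m
    omega
  obtain ⟨m', hm'⟩ := Int.eq_ofNat_of_zero_le hnn
  have hmm : m = m' * d := by
    have h2 : (m : ℤ) = (((j * k : ℕ) : ℤ) + n) * (d : ℤ) := by
      rw [hm]; push_cast; ring
    rw [hm'] at h2
    exact_mod_cast h2
  subst hmm
  obtain ⟨b, hb, rfl⟩ := exists_of_mem φ hdeg ha
  refine ⟨frac ℬ n hg j m' hm'.symm b hb, ?_⟩
  refine sec_ext 𝒜 _ _ fun y => ?_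
  rw [ht y]
  exact (kappa_frac hd φ hdeg n hk hg j m' hm'.symm b hb y).symm

include hk hg in
/-- `kappa` is injective on sections over `D₊(g)` -/
theorem kappa_injective_chart (hφ : Function.Injective φ)
    (z : Γ(GrTwist.twist ℬ n, Proj.basicOpen ℬ g))
    (hz : pushSec (vMap φ hdeg hd) (GrTwist.twist 𝒜 (n * d)) (Proj.basicOpen ℬ g)
        ((kappa hd φ hdeg n).app (Proj.basicOpen ℬ g) z) = 0) : z = 0 := by
  obtain ⟨j, m, hm, b, hb, rfl⟩ := exists_frac ℬ n hk hg z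
  have hloc : ∀ x : ProjectiveSpectrum 𝒜, φ g ∉ x.asHomogeneousIdeal →
      ∃ c : A, c ∉ x.asHomogeneousIdeal ∧ c • φ b = 0 := by
    intro x hx
    have hxW : x ∈ vMap φ hdeg hd ⁻¹ᵁ Proj.basicOpen ℬ g :=
      (mem_preimage_iff hd φ hdeg hk hg x).mpr hx
    have h1 := congrArg (fun s => GrTwist.val s
      (⟨x, hxW⟩ : ↥(vMap φ hdeg hd ⁻¹ᵁ Proj.basicOpen ℬ g))) hz
    have h2 := kappa_frac hd φ hdeg n hk hg j m hm b hb ⟨x, hxW⟩
    have h3 : Localization.mk (φ b) (⟨φ g ^ j, pow_notMem' hd φ hdeg hk hg j ⟨x, hxW⟩⟩ :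
        x.asHomogeneousIdeal.toIdeal.primeCompl) = 0 := h2.symm.trans h1
    rw [Localization.mk_eq_mk', IsLocalization.mk'_eq_zero_iff] at h3
    obtain ⟨c, hc⟩ := h3
    exact ⟨c.1, c.2, hc⟩
  obtain ⟨N, hN⟩ :=
    Groth.Agent.H41.GrModSections.exists_pow_smul_eq_zero_of_forall_localized_eq_zero 𝒜 𝒜
      (Nat.mul_pos hk hd) (phi_mem φ hdeg hg) (phi_mem φ hdeg hb) hloc
  have h0 : g ^ N * b = 0 := by
    apply hφ
    rw [map_mul, map_pow, map_zero]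
    exact hN
  refine sec_ext ℬ _ _ fun x => ?_
  rw [val_frac, val_zero', Localization.mk_eq_mk', IsLocalization.mk'_eq_zero_iff]
  exact ⟨⟨g ^ N, pow_notMem ℬ N x⟩, h0⟩

end Chart

include hd in
theorem isOpenCover_preimage :
    IsOpenCover fun p : {p : ℕ × B // 0 < p.1 ∧ p.2 ∈ ℬ p.1} =>
      vMap φ hdeg hd ⁻¹ᵁ Proj.basicOpen ℬ p.1.2 := by
  show ⨆ p : {p : ℕ × B // 0 < p.1 ∧ p.2 ∈ ℬ p.1},
      vMap φ hdeg hd ⁻¹ᵁ Proj.basicOpen ℬ p.1.2 = ⊤
  rw [eq_top_iff]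
  intro y _
  obtain ⟨m, g, hm, hg, hgy⟩ := exists_pos_map_not_mem φ hdeg hd y
  exact Opens.mem_iSup.mpr ⟨⟨(m, g), hm, hg⟩, (mem_preimage_iff hd φ hdeg hm hg y).mpr hgy⟩

/-- the adjunct of `kappa` is an isomorphism -/
theorem isIso_adjunct_kappa (hφ : Function.Injective φ) :
    IsIso (((Scheme.Modules.pullbackPushforwardAdjunction (vMap φ hdeg hd)).homEquiv
      (GrTwist.twist ℬ n) (GrTwist.twist 𝒜 (n * d))).symm (kappa hd φ hdeg n)) := by
  haveI hq1 : (GrTwist.twist ℬ n).IsQuasicoherent := Groth.Agent.S3546.result ℬ n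
  haveI hq2 : (GrTwist.twist 𝒜 (n * d)).IsQuasicoherent := Groth.Agent.S3546.result 𝒜 (n * d)
  haveI : IsIso (vMap φ hdeg hd) := vMap_isIso φ hdeg hd hφ
  refine Groth.Agent.H62.BCTw_G1.isIso_adjunct_of_affine_cover (vMap φ hdeg hd)
    (GrTwist.twist ℬ n) (GrTwist.twist 𝒜 (n * d)) (kappa hd φ hdeg n)
    (fun p : {p : ℕ × B // 0 < p.1 ∧ p.2 ∈ ℬ p.1} => Proj.basicOpen ℬ p.1.2)
    (fun p => Proj.isAffineOpen_basicOpen ℬ p.1.2 p.2.2 p.2.1)
    (fun p => ?_) (isOpenCover_preimage hd φ hdeg) (fun p t => ?_) (fun p l c x h0 => ?_)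
  · rw [vMap_preimage_basicOpen φ hdeg hd p.2.1 p.2.2]
    exact Proj.isAffineOpen_basicOpen 𝒜 (φ p.1.2) (phi_mem φ hdeg p.2.2) (Nat.mul_pos p.2.1 hd)
  · obtain ⟨x, hx⟩ := hsurj_chart hd φ hdeg n p.2.1 p.2.2 t
    refine ⟨1, fun _ => 1, fun _ => x, ?_⟩
    rw [Fin.sum_univ_one, one_smul]
    exact hx
  · have hρ : Function.Surjective
        ((vMap φ hdeg hd).appLE (Proj.basicOpen ℬ p.1.2)
          (vMap φ hdeg hd ⁻¹ᵁ Proj.basicOpen ℬ p.1.2) le_rfl).hom := by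
      rw [Scheme.Hom.appLE_eq_app]
      exact (ConcreteCategory.bijective_of_isIso
        ((vMap φ hdeg hd).app (Proj.basicOpen ℬ p.1.2))).2
    let α : Γ(GrTwist.twist ℬ n, Proj.basicOpen ℬ p.1.2) →+
        Γ(GrTwist.twist 𝒜 (n * d), vMap φ hdeg hd ⁻¹ᵁ Proj.basicOpen ℬ p.1.2) :=
      { toFun := fun x => pushSec (vMap φ hdeg hd) (GrTwist.twist 𝒜 (n * d)) (Proj.basicOpen ℬ p.1.2)
          ((kappa hd φ hdeg n).app (Proj.basicOpen ℬ p.1.2) x)
        map_zero' := map_zero _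
        map_add' := fun a b => map_add _ a b }
    refine sumZero_of_surjective_of_injective _ hρ α (fun q x => ?_)
      (fun z hz => kappa_injective_chart hd φ hdeg n p.2.1 p.2.2 hφ z hz) c x h0
    refine (kappa_smul hd φ hdeg n (Proj.basicOpen ℬ p.1.2) q x).trans ?_
    congr 1

end Groth.Agent.H88.VerTw
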