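import Mathlib
import Groth.Prelude.Def_GrTwist
import Groth.Prelude.Def_GrMod3
import Groth.Prelude.Def_GrMod2
import Groth.Agent.H18.Veronese
import Groth.Agent.H88.VerTw
import Groth.Agent.H94.VerMod_LM
import Groth.Agent.H41.GrModSections
import Groth.Agent.H41.GrModQCoh

/-!
# Graded modules under the Veronese isomorphism (S9579; helper88) — port of `H88.VerTw`
-/

set_option autoImplicit false
universe u
open CategoryTheory CategoryTheory.Limits AlgebraicGeometry Opposite TopologicalSpace TensorProduct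
open Groth.Agent.H18.Veronese
open Groth.Agent.H41.GrModQCoh (rval)
open Groth.Agent.H88.BCTw Groth.Agent.H88.BCTwInj Groth.Agent.H88.VerTw

namespace Groth.Agent.H88.VerMod

variable {R A B : Type u} [CommRing R] [CommRing A] [Algebra R A] {𝒜 : ℕ → Submodule R A}
  [GradedAlgebra 𝒜] [CommRing B] [Algebra R B] {ℬ : ℕ → Submodule R B} [GradedAlgebra ℬ]
  {d : ℕ} (hd : 0 < d) (φ : B →ₐ[R] A)
  (hdeg : ∀ n : ℕ, Submodule.map φ.toLinearMap (ℬ n) = 𝒜 (n * d))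
  {M : Type u} [AddCommGroup M] [Module R M] [Module A M] [IsScalarTower R A M]
  {ℳ : ℕ → Submodule R M} [DirectSum.Decomposition ℳ] [SetLike.GradedSMul 𝒜 ℳ]
  {N : Type u} [AddCommGroup N] [Module R N] [Module B N] [IsScalarTower R B N]
  {𝒩 : ℕ → Submodule R N} [DirectSum.Decomposition 𝒩] [SetLike.GradedSMul ℬ 𝒩]
  (v : N →ₛₗ[φ.toRingHom] M)
  (hvdeg : ∀ n : ℕ, (𝒩 n : Set N).image v = (ℳ (n * d) : Set M))

theorem mk_eq_zero_iff' {A' M' : Type*} [CommRing A'] [AddCommGroup M'] [Module A' M']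
    {S : Submonoid A'} (m : M') (s : S) :
    LocalizedModule.mk m s = 0 ↔ ∃ c : S, (c : A') • m = 0 := by
  rw [← LocalizedModule.zero_mk (1 : S), LocalizedModule.mk_eq]
  simp only [one_smul, smul_zero, Submonoid.smul_def]

theorem hST (y : ProjectiveSpectrum 𝒜) :
    ∀ s ∈ ((vMap φ hdeg hd).base y).asHomogeneousIdeal.toIdeal.primeCompl,
      φ.toRingHom s ∈ y.asHomogeneousIdeal.toIdeal.primeCompl :=
  fun _ hs => map_notMem hd φ hdeg y hs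

/-- the map of localized modules `N_{i(y)} → M_y` -/
noncomputable def locVM (y : ProjectiveSpectrum 𝒜) :
    GrMod.LocMod ℬ (M := N) ((vMap φ hdeg hd).base y) →+ GrMod.LocMod 𝒜 (M := M) y :=
  (Groth.Agent.H94.VerMod_LM.exists_locVM φ.toRingHom v _ _ (hST hd φ hdeg y)).choose

theorem locVM_mk (y : ProjectiveSpectrum 𝒜) (m : N)
    (s : ((vMap φ hdeg hd).base y).asHomogeneousIdeal.toIdeal.primeCompl) :
    locVM hd φ hdeg v y (LocalizedModule.mk m s) =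
      LocalizedModule.mk (v m) ⟨φ (s : B), map_notMem hd φ hdeg y s.2⟩ :=
  (Groth.Agent.H94.VerMod_LM.exists_locVM φ.toRingHom v _ _ (hST hd φ hdeg y)).choose_spec.1 m s

theorem locVM_smul (y : ProjectiveSpectrum 𝒜) (c : GrTwist.Loc ℬ ((vMap φ hdeg hd).base y))
    (q : GrMod.LocMod ℬ (M := N) ((vMap φ hdeg hd).base y)) :
    locVM hd φ hdeg v y (c • q) = locV hd φ hdeg y c • locVM hd φ hdeg v y q := by
  induction c using Localization.induction_on with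
  | H p =>
    rw [locV_mk]
    exact (Groth.Agent.H94.VerMod_LM.exists_locVM φ.toRingHom v _ _
      (hST hd φ hdeg y)).choose_spec.2 p.1 p.2 q

theorem exists_A0 (y : ProjectiveSpectrum 𝒜) (c : GrTwist.A0 ℬ ((vMap φ hdeg hd).base y)) :
    ∃ c' : GrTwist.A0 𝒜 y, c'.val = locV hd φ hdeg y c.val := by
  refine ⟨HomogeneousLocalization.mk ⟨c.deg * d, ⟨φ c.num, phi_mem φ hdeg c.num_mem_deg⟩,
    ⟨φ c.den, phi_mem φ hdeg c.den_mem_deg⟩, map_notMem hd φ hdeg y c.den_mem⟩, ?_⟩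
  rw [HomogeneousLocalization.val_mk, c.eq_num_div_den, locV_mk]

include hvdeg in
theorem v_mem {i : ℕ} {m : N} (hm : m ∈ 𝒩 i) : v m ∈ ℳ (i * d) := by
  have : v m ∈ (ℳ (i * d) : Set M) := by
    rw [← hvdeg i]; exact ⟨m, hm, rfl⟩
  exact this

include hvdeg in
theorem exists_of_mem_M {i : ℕ} {m : M} (hm : m ∈ ℳ (i * d)) : ∃ m' ∈ 𝒩 i, v m' = m := by
  have : m ∈ (ℳ (i * d) : Set M) := hm
  rw [← hvdeg i] at this
  obtain ⟨m', hm', h⟩ := this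
  exact ⟨m', hm', h⟩

include hvdeg in
theorem locVM_mem (n : ℤ) (y : ProjectiveSpectrum 𝒜)
    {q : GrMod.LocMod ℬ (M := N) ((vMap φ hdeg hd).base y)}
    (hq : q ∈ GrMod.tildeAt ℬ 𝒩 n ((vMap φ hdeg hd).base y)) :
    locVM hd φ hdeg v y q ∈ GrMod.tildeAt 𝒜 ℳ (n * d) y := by
  induction hq using Submodule.span_induction with
  | mem q h =>
    obtain ⟨i, j, a, s, hs, hij, rfl⟩ := h
    rw [locVM_mk]
    refine Submodule.subset_span ⟨i * d, j * d, ⟨v (a : N), v_mem φ v hvdeg a.2⟩,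
      ⟨φ (s : B), phi_mem φ hdeg s.2⟩, map_notMem hd φ hdeg y hs, ?_, rfl⟩
    push_cast
    rw [hij]; ring
  | zero => rw [map_zero]; exact zero_mem _
  | add q q' _ _ h h' => rw [map_add]; exact add_mem h h'
  | smul c q _ h =>
    rw [GrMod.a0_smul_def, locVM_smul]
    obtain ⟨c', hc'⟩ := exists_A0 hd φ hdeg y c
    rw [← hc', ← GrMod.a0_smul_def]
    exact Submodule.smul_mem _ _ h

variable (n : ℤ) (U : (Proj ℬ).Opens)

/-- pointwise comparison of dependent functions -/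
noncomputable def kFun (s : ∀ x : U, GrMod.tildeAt ℬ 𝒩 n x.1)
    (y : ↥(vMap φ hdeg hd ⁻¹ᵁ U)) : GrMod.tildeAt 𝒜 ℳ (n * d) y.1 :=
  ⟨locVM hd φ hdeg v y.1 (s ⟨(vMap φ hdeg hd).base y.1, y.2⟩).1,
    locVM_mem hd φ hdeg v hvdeg n y.1 (s ⟨(vMap φ hdeg hd).base y.1, y.2⟩).2⟩

theorem isLocFrac_kFun (s : ∀ x : U, GrMod.tildeAt ℬ 𝒩 n x.1)
    (hs : (GrMod.isLocFrac ℬ 𝒩 n).pred s) :
    (GrMod.isLocFrac 𝒜 ℳ (n * d)).pred (kFun hd φ hdeg v hvdeg n U s) := by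
  rintro ⟨y, hyV⟩
  rcases hs ⟨(vMap φ hdeg hd).base y, hyV⟩ with ⟨W, m, iWU, i, j, a, b, hb, hij, h_frac⟩
  refine ⟨(vMap φ hdeg hd ⁻¹ᵁ W) ⊓ (vMap φ hdeg hd ⁻¹ᵁ U), ⟨m, hyV⟩, Opens.infLERight _ _, i * d,
    j * d, ⟨v (a : N), v_mem φ v hvdeg a.2⟩, ⟨φ (b : B), phi_mem φ hdeg b.2⟩,
    fun z => map_notMem hd φ hdeg z.1 (hb ⟨_, z.2.1⟩), ?_, fun z => ?_⟩
  · rcases hij with hij | h
    · refine Or.inl ?_
      push_cast
      rw [hij]; ring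
    · exact Or.inr (show v (a : N) = 0 by rw [h, map_zero])
  · exact (congrArg (locVM hd φ hdeg v z.1) (h_frac ⟨_, z.2.1⟩)).trans (locVM_mk hd φ hdeg v _ _ _)

/-- the comparison on sections, as an additive map -/
noncomputable def kApp : GrMod.sect ℬ 𝒩 n (op U) →+
    GrMod.sect 𝒜 ℳ (n * d) (op (vMap φ hdeg hd ⁻¹ᵁ U)) where
  toFun s := ⟨kFun hd φ hdeg v hvdeg n U s.1, isLocFrac_kFun hd φ hdeg v hvdeg n U s.1 s.2⟩
  map_zero' := by
    refine Subtype.ext (funext fun y => Subtype.ext ?_)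
    exact map_zero (locVM hd φ hdeg v y.1)
  map_add' s t := by
    refine Subtype.ext (funext fun y => Subtype.ext ?_)
    exact map_add (locVM hd φ hdeg v y.1) _ _

theorem kApp_smul (r : GrTwist.O (𝒜 := ℬ) (op U)) (s : GrMod.sect ℬ 𝒩 n (op U)) :
    kApp hd φ hdeg v hvdeg n U (r • s) = vApp hd φ hdeg U r • kApp hd φ hdeg v hvdeg n U s := by
  refine Subtype.ext (funext fun y => Subtype.ext ?_)
  have h1 : ∀ x : U, (((r • s : GrMod.sect ℬ 𝒩 n (op U)).1 x :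
      GrMod.tildeAt ℬ 𝒩 n x.1) : GrMod.LocMod ℬ (M := N) x.1) =
      (r.1 x).val • (s.1 x : GrMod.LocMod ℬ (M := N) x.1) :=
    fun x => GrMod.coe_smul_val n x.1 _ (s.1 x)
  refine (congrArg (locVM hd φ hdeg v y.1) (h1 ⟨_, y.2⟩)).trans ?_
  refine (locVM_smul hd φ hdeg v y.1 _ _).trans ?_
  refine Eq.trans ?_ (GrMod.coe_smul_val (n * d) y.1 _ _).symm
  congr 1
  exact (rval_vMap_app hd φ hdeg U r y).symm

/-- the comparison map `𝒩(n)~ ⟶ (vMap)_* ℳ(n d)~` -/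
noncomputable def kappa : GrMod.tilde ℬ 𝒩 n ⟶
    (Scheme.Modules.pushforward (vMap φ hdeg hd)).obj (GrMod.tilde 𝒜 ℳ (n * d)) :=
  ⟨PresheafOfModules.homMk
    { app := fun U => AddCommGrpCat.ofHom (kApp hd φ hdeg v hvdeg n U.unop)
      naturality := fun _ _ _ => rfl }
    fun U r s => kApp_smul hd φ hdeg v hvdeg n U.unop r s⟩

theorem kappa_val (s : Γ(GrMod.tilde ℬ 𝒩 n, U)) (y : ↥(vMap φ hdeg hd ⁻¹ᵁ U)) :
    GrMod.val (pushSec (vMap φ hdeg hd) (GrMod.tilde 𝒜 ℳ (n * d)) U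
      ((kappa hd φ hdeg v hvdeg n).app U s)) y =
      locVM hd φ hdeg v y.1 (GrMod.val s ⟨(vMap φ hdeg hd).base y.1, y.2⟩) := rfl

/-- semilinearity of `kappa`, as sections over the preimage -/
theorem kappa_smul (p : Γ(Proj ℬ, U)) (x : Γ(GrMod.tilde ℬ 𝒩 n, U)) :
    pushSec (vMap φ hdeg hd) (GrMod.tilde 𝒜 ℳ (n * d)) U
        ((kappa hd φ hdeg v hvdeg n).app U (p • x)) =
      ((vMap φ hdeg hd).app U p : Γ(Proj 𝒜, vMap φ hdeg hd ⁻¹ᵁ U)) •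
        pushSec (vMap φ hdeg hd) (GrMod.tilde 𝒜 ℳ (n * d)) U
          ((kappa hd φ hdeg v hvdeg n).app U x) := by
  refine Groth.Agent.H41.GrModQCoh.sect_ext 𝒜 ℳ _ _ _ fun y => ?_
  rw [Groth.Agent.H41.GrModQCoh.val_smul, kappa_val, kappa_val]
  have h1 := Groth.Agent.H41.GrModQCoh.val_smul ℬ 𝒩 n p x ⟨(vMap φ hdeg hd).base y.1, y.2⟩
  refine (congrArg (locVM hd φ hdeg v y.1) h1).trans ?_
  rw [locVM_smul]
  congr 1
  exact (rval_vMap_app hd φ hdeg U p y).symm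

section Chart

variable {k : ℕ} (hk : 0 < k) {g : B} (hg : g ∈ ℬ k)

/-- the section `m / g^j` of `𝒩(n)~` over `D₊(g)` -/
noncomputable def fracN (j m : ℕ) (hm : (m : ℤ) = ((j * k : ℕ) : ℤ) + n) (b : N) (hb : b ∈ 𝒩 m) :
    Γ(GrMod.tilde ℬ 𝒩 n, Proj.basicOpen ℬ g) :=
  Groth.Agent.H41.GrModQCoh.fracSect ℬ 𝒩 n (Proj.basicOpen ℬ g) hm ⟨b, hb⟩
    ⟨g ^ j, by simpa [mul_comm] using SetLike.pow_mem_graded j hg⟩
    (fun x => pow_notMem ℬ j x)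

theorem val_fracN (j m : ℕ) (hm : (m : ℤ) = ((j * k : ℕ) : ℤ) + n) (b : N) (hb : b ∈ 𝒩 m)
    (x : Proj.basicOpen ℬ g) :
    GrMod.val (fracN n hg j m hm b hb) x =
      LocalizedModule.mk b (⟨g ^ j, pow_notMem ℬ j x⟩ :
        (x.1 : ProjectiveSpectrum ℬ).asHomogeneousIdeal.toIdeal.primeCompl) := rfl

include hk in
theorem exists_fracN (s : Γ(GrMod.tilde ℬ 𝒩 n, Proj.basicOpen ℬ g)) :
    ∃ (j m : ℕ) (hm : (m : ℤ) = ((j * k : ℕ) : ℤ) + n) (b : N) (hb : b ∈ 𝒩 m),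
      s = fracN n hg j m hm b hb := by
  obtain ⟨j, i, a, hi, h⟩ :=
    Groth.Agent.H41.GrModSections.sections_eq_fraction ℬ 𝒩 n hk hg
      (s : GrMod.sect ℬ 𝒩 n (op (ProjectiveSpectrum.basicOpen ℬ g)))
  refine ⟨j, i, by push_cast; exact hi, a.1, a.2, ?_⟩
  exact Groth.Agent.H41.GrModQCoh.sect_ext ℬ 𝒩 n _ _ fun x => h x

/-- `kappa` on a fraction -/
theorem kappa_frac (j m : ℕ) (hm : (m : ℤ) = ((j * k : ℕ) : ℤ) + n) (b : N) (hb : b ∈ 𝒩 m)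
    (y : ↥(vMap φ hdeg hd ⁻¹ᵁ Proj.basicOpen ℬ g)) :
    GrMod.val (pushSec (vMap φ hdeg hd) (GrMod.tilde 𝒜 ℳ (n * d)) (Proj.basicOpen ℬ g)
      ((kappa hd φ hdeg v hvdeg n).app (Proj.basicOpen ℬ g) (fracN n hg j m hm b hb))) y =
      LocalizedModule.mk (v b) (⟨φ g ^ j, pow_notMem' hd φ hdeg hk hg j y⟩ :
        (y.1 : ProjectiveSpectrum 𝒜).asHomogeneousIdeal.toIdeal.primeCompl) := by
  rw [kappa_val]
  have h1 := val_fracN (𝒩 := 𝒩) n hg j m hm b hb ⟨(vMap φ hdeg hd).base y.1, y.2⟩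
  refine (congrArg (locVM hd φ hdeg v y.1) h1).trans ?_
  rw [locVM_mk]
  congr 1
  exact Subtype.ext (map_pow φ g j)

include hk hg in
/-- sections of `ℳ(N')~` over the preimage of `D₊(g)` are fractions with denominator `(φ g)^j` -/
theorem exists_frac_preimage (N' : ℤ)
    (t : Γ(GrMod.tilde 𝒜 ℳ N', vMap φ hdeg hd ⁻¹ᵁ Proj.basicOpen ℬ g)) :
    ∃ (j m : ℕ) (_ : (m : ℤ) = ((j * (k * d) : ℕ) : ℤ) + N') (a : M) (_ : a ∈ ℳ m),
      ∀ y : ↥(vMap φ hdeg hd ⁻¹ᵁ Proj.basicOpen ℬ g), GrMod.val t y =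
        LocalizedModule.mk a (⟨φ g ^ j, pow_notMem' hd φ hdeg hk hg j y⟩ :
          (y.1 : ProjectiveSpectrum 𝒜).asHomogeneousIdeal.toIdeal.primeCompl) := by
  have hle : Proj.basicOpen 𝒜 (φ g) ≤ vMap φ hdeg hd ⁻¹ᵁ Proj.basicOpen ℬ g :=
    (vMap_preimage_basicOpen φ hdeg hd hk hg).ge
  have hge : vMap φ hdeg hd ⁻¹ᵁ Proj.basicOpen ℬ g ≤ Proj.basicOpen 𝒜 (φ g) :=
    (vMap_preimage_basicOpen φ hdeg hd hk hg).le
  obtain ⟨j, i, a, hi, h⟩ :=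
    Groth.Agent.H41.GrModSections.sections_eq_fraction 𝒜 ℳ N' (Nat.mul_pos hk hd)
      (phi_mem φ hdeg hg)
      (((GrMod.tilde 𝒜 ℳ N').presheaf.map (homOfLE hle).op t :
        Γ(GrMod.tilde 𝒜 ℳ N', Proj.basicOpen 𝒜 (φ g))) :
        GrMod.sect 𝒜 ℳ N' (op (ProjectiveSpectrum.basicOpen 𝒜 (φ g))))
  refine ⟨j, i, by push_cast; exact hi, a.1, a.2, fun y => ?_⟩
  exact h ⟨y.1, hge y.2⟩

include hk hg hvdeg in
/-- (hsurj) -/
theorem hsurj_chart (t : Γ(GrMod.tilde 𝒜 ℳ (n * d), vMap φ hdeg hd ⁻¹ᵁ Proj.basicOpen ℬ g)) :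
    ∃ x : Γ(GrMod.tilde ℬ 𝒩 n, Proj.basicOpen ℬ g),
      t = pushSec (vMap φ hdeg hd) (GrMod.tilde 𝒜 ℳ (n * d)) (Proj.basicOpen ℬ g)
        ((kappa hd φ hdeg v hvdeg n).app (Proj.basicOpen ℬ g) x) := by
  obtain ⟨j, m, hm, a, ha, ht⟩ := exists_frac_preimage (ℳ := ℳ) hd φ hdeg hk hg (n * d) t
  have hnn : (0 : ℤ) ≤ ((j * k : ℕ) : ℤ) + n := by
    by_contra hcon
    push Not at hcon
    have h1 : (((j * k : ℕ) : ℤ) + n) * (d : ℤ) < 0 :=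
      mul_neg_of_neg_of_pos hcon (by exact_mod_cast hd)
    have h2 : (m : ℤ) = (((j * k : ℕ) : ℤ) + n) * (d : ℤ) := by
      rw [hm]; push_cast; ring
    have h3 : (0 : ℤ) ≤ (m : ℤ) := Int.natCast_nonneg m
    omega
  obtain ⟨m', hm'⟩ := Int.eq_ofNat_of_zero_le hnn
  have hmm : m = m' * d := by
    have h2 : (m : ℤ) = (((j * k : ℕ) : ℤ) + n) * (d : ℤ) := by
      rw [hm]; push_cast; ring
    rw [hm'] at h2
    exact_mod_cast h2
  subst hmm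
  obtain ⟨b, hb, rfl⟩ := exists_of_mem_M φ v hvdeg ha
  refine ⟨fracN n hg j m' hm'.symm b hb, ?_⟩
  refine Groth.Agent.H41.GrModQCoh.sect_ext 𝒜 ℳ _ _ _ fun y => ?_
  rw [ht y]
  exact (kappa_frac hd φ hdeg v hvdeg n hk hg j m' hm'.symm b hb y).symm

include hk hg in
/-- `kappa` is injective on sections over `D₊(g)` -/
theorem kappa_injective_chart (hv : Function.Injective v)
    (z : Γ(GrMod.tilde ℬ 𝒩 n, Proj.basicOpen ℬ g))
    (hz : pushSec (vMap φ hdeg hd) (GrMod.tilde 𝒜 ℳ (n * d)) (Proj.basicOpen ℬ g)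
        ((kappa hd φ hdeg v hvdeg n).app (Proj.basicOpen ℬ g) z) = 0) : z = 0 := by
  obtain ⟨j, m, hm, b, hb, rfl⟩ := exists_fracN n hk hg z
  have hloc : ∀ x : ProjectiveSpectrum 𝒜, φ g ∉ x.asHomogeneousIdeal →
      ∃ c : A, c ∉ x.asHomogeneousIdeal ∧ c • v b = 0 := by
    intro x hx
    have hxW : x ∈ vMap φ hdeg hd ⁻¹ᵁ Proj.basicOpen ℬ g :=
      (mem_preimage_iff hd φ hdeg hk hg x).mpr hx
    have h1 := congrArg (fun s => GrMod.val s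
      (⟨x, hxW⟩ : ↥(vMap φ hdeg hd ⁻¹ᵁ Proj.basicOpen ℬ g))) hz
    have h2 := kappa_frac hd φ hdeg v hvdeg n hk hg j m hm b hb ⟨x, hxW⟩
    have h3 : LocalizedModule.mk (v b) (⟨φ g ^ j, pow_notMem' hd φ hdeg hk hg j ⟨x, hxW⟩⟩ :
        x.asHomogeneousIdeal.toIdeal.primeCompl) = 0 := h2.symm.trans h1
    rw [mk_eq_zero_iff'] at h3
    obtain ⟨c, hc⟩ := h3
    exact ⟨c.1, c.2, hc⟩
  obtain ⟨N', hN⟩ :=
    Groth.Agent.H41.GrModSections.exists_pow_smul_eq_zero_of_forall_localized_eq_zero 𝒜 ℳ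
      (Nat.mul_pos hk hd) (phi_mem φ hdeg hg) (v_mem φ v hvdeg hb) hloc
  have h0 : g ^ N' • b = 0 := by
    apply hv
    rw [v.map_smulₛₗ, map_zero]
    show φ (g ^ N') • v b = 0
    rw [map_pow]
    exact hN
  refine Groth.Agent.H41.GrModQCoh.sect_ext ℬ 𝒩 n _ _ fun x => ?_
  rw [val_fracN, Groth.Agent.H41.GrModQCoh.val_zero, mk_eq_zero_iff']
  exact ⟨⟨g ^ N', pow_notMem ℬ N' x⟩, h0⟩

end Chart

/-- the adjunct of `kappa` is an isomorphism -/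
theorem isIso_adjunct_kappa (hφ : Function.Injective φ) (hv : Function.Injective v) :
    IsIso (((Scheme.Modules.pullbackPushforwardAdjunction (vMap φ hdeg hd)).homEquiv
      (GrMod.tilde ℬ 𝒩 n) (GrMod.tilde 𝒜 ℳ (n * d))).symm (kappa hd φ hdeg v hvdeg n)) := by
  haveI hq1 : (GrMod.tilde ℬ 𝒩 n).IsQuasicoherent :=
    Groth.Agent.H41.GrModQCoh.isQuasicoherent_tilde ℬ 𝒩 n
  haveI hq2 : (GrMod.tilde 𝒜 ℳ (n * d)).IsQuasicoherent :=
    Groth.Agent.H41.GrModQCoh.isQuasicoherent_tilde 𝒜 ℳ (n * d)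
  haveI : IsIso (vMap φ hdeg hd) := vMap_isIso φ hdeg hd hφ
  refine Groth.Agent.H62.BCTw_G1.isIso_adjunct_of_affine_cover (vMap φ hdeg hd)
    (GrMod.tilde ℬ 𝒩 n) (GrMod.tilde 𝒜 ℳ (n * d)) (kappa hd φ hdeg v hvdeg n)
    (fun p : {p : ℕ × B // 0 < p.1 ∧ p.2 ∈ ℬ p.1} => Proj.basicOpen ℬ p.1.2)
    (fun p => Proj.isAffineOpen_basicOpen ℬ p.1.2 p.2.2 p.2.1)
    (fun p => ?_) (isOpenCover_preimage hd φ hdeg) (fun p t => ?_) (fun p l c x h0 => ?_)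
  · rw [vMap_preimage_basicOpen φ hdeg hd p.2.1 p.2.2]
    exact Proj.isAffineOpen_basicOpen 𝒜 (φ p.1.2) (phi_mem φ hdeg p.2.2) (Nat.mul_pos p.2.1 hd)
  · obtain ⟨x, hx⟩ := hsurj_chart hd φ hdeg v hvdeg n p.2.1 p.2.2 t
    refine ⟨1, fun _ => 1, fun _ => x, ?_⟩
    rw [Fin.sum_univ_one, one_smul]
    exact hx
  · have hρ : Function.Surjective
        ((vMap φ hdeg hd).appLE (Proj.basicOpen ℬ p.1.2)
          (vMap φ hdeg hd ⁻¹ᵁ Proj.basicOpen ℬ p.1.2) le_rfl).hom := by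
      rw [Scheme.Hom.appLE_eq_app]
      exact (ConcreteCategory.bijective_of_isIso
        ((vMap φ hdeg hd).app (Proj.basicOpen ℬ p.1.2))).2
    let α : Γ(GrMod.tilde ℬ 𝒩 n, Proj.basicOpen ℬ p.1.2) →+
        Γ(GrMod.tilde 𝒜 ℳ (n * d), vMap φ hdeg hd ⁻¹ᵁ Proj.basicOpen ℬ p.1.2) :=
      { toFun := fun x => pushSec (vMap φ hdeg hd) (GrMod.tilde 𝒜 ℳ (n * d))
          (Proj.basicOpen ℬ p.1.2) ((kappa hd φ hdeg v hvdeg n).app (Proj.basicOpen ℬ p.1.2) x)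
        map_zero' := map_zero _
        map_add' := fun a b => map_add _ a b }
    refine sumZero_of_surjective_of_injective _ hρ α (fun q x => ?_)
      (fun z hz => kappa_injective_chart hd φ hdeg v hvdeg n p.2.1 p.2.2 hv z hz) c x h0
    refine (kappa_smul hd φ hdeg v hvdeg n (Proj.basicOpen ℬ p.1.2) q x).trans ?_
    congr 1

end Groth.Agent.H88.VerMod
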